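import Mathlib

set_option autoImplicit false

namespace Cfsg.Agent.Lib.Helper29

/-- A `p`-subgroup acting by conjugation on a finite invariant subset of size prime to `p`
fixes a point of it. -/
theorem exists_conj_fixed_of_pgroup {G : Type*} [Group G] {p : ℕ} [Fact p.Prime]
    (P : Subgroup G) (hP : IsPGroup p P) (S : Set G) [Finite S]
    (hinv : ∀ g ∈ P, ∀ s ∈ S, g * s * g⁻¹ ∈ S) (hcard : ¬ p ∣ Nat.card S) :
    ∃ s ∈ S, ∀ g ∈ P, g * s * g⁻¹ = s := by
  letI : MulAction P S :=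
    { smul := fun g s => ⟨g.1 * s.1 * g.1⁻¹, hinv g.1 g.2 s.1 s.2⟩
      one_smul := fun s => Subtype.ext (by
        show (1 : P).1 * s.1 * (1 : P).1⁻¹ = s.1
        simp)
      mul_smul := fun g h s => Subtype.ext (by
        show (g * h).1 * s.1 * (g * h).1⁻¹ = g.1 * (h.1 * s.1 * h.1⁻¹) * g.1⁻¹
        simp [mul_assoc]) }
  obtain ⟨s, hs⟩ := hP.nonempty_fixed_point_of_prime_not_dvd_card S hcard
  exact ⟨s.1, s.2, fun g hg => congrArg Subtype.val (hs ⟨g, hg⟩)⟩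

theorem isPGroup_zpowers_of_pow_eq_one {G : Type*} [Group G] {p : ℕ} (b : G) (hb : b ^ p = 1) :
    IsPGroup p (Subgroup.zpowers b) := by
  rintro ⟨g, hg⟩
  rw [Subgroup.mem_zpowers_iff] at hg
  obtain ⟨k, rfl⟩ := hg
  refine ⟨1, Subtype.ext ?_⟩
  show (b ^ k) ^ (p ^ 1) = 1
  rw [pow_one, ← zpow_natCast, ← zpow_mul, mul_comm, zpow_mul, zpow_natCast, hb, one_zpow]

theorem conj_zpow_mem_of_conj_mem {G : Type*} [Group G] [Finite G] (b : G) (S : Set G)
    (hinv : ∀ s ∈ S, b * s * b⁻¹ ∈ S) : ∀ g ∈ Subgroup.zpowers b, ∀ s ∈ S, g * s * g⁻¹ ∈ S := by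
  intro g hg
  have hfin : IsOfFinOrder b := isOfFinOrder_of_finite b
  rw [← hfin.mem_powers_iff_mem_zpowers, Submonoid.mem_powers_iff] at hg
  obtain ⟨n, rfl⟩ := hg
  induction n with
  | zero => intro s hs; simpa using hs
  | succ n ih =>
    intro s hs
    have := hinv _ (ih s hs)
    have e : b ^ (n + 1) * s * (b ^ (n + 1))⁻¹ = b * (b ^ n * s * (b ^ n)⁻¹) * b⁻¹ := by
      rw [pow_succ']; group
    rw [e]; exact this

/-- An element `b` with `b ^ p = 1` acting by conjugation on a finite invariant subset of size prime to `p`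
fixes a point of it. -/
theorem exists_conj_fixed_of_pow_eq_one {G : Type*} [Group G] [Finite G] {p : ℕ} [Fact p.Prime]
    (b : G) (hb : b ^ p = 1) (S : Set G)
    (hinv : ∀ s ∈ S, b * s * b⁻¹ ∈ S) (hcard : ¬ p ∣ Nat.card S) :
    ∃ s ∈ S, b * s * b⁻¹ = s := by
  obtain ⟨s, hs, h⟩ := exists_conj_fixed_of_pgroup (Subgroup.zpowers b)
    (isPGroup_zpowers_of_pow_eq_one b hb) S (conj_zpow_mem_of_conj_mem b S hinv) hcard
  exact ⟨s, hs, h b (Subgroup.mem_zpowers b)⟩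

end Cfsg.Agent.Lib.Helper29
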