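import Mathlib

set_option autoImplicit false

namespace Cfsg.Agent.Lib.Helper29

section FPF

variable {A W : Type*} [Group A] [CommGroup W] [MulDistribMulAction A W]
variable (p : ℕ) [hp : Fact p.Prime]

/-- The product of the translates of `w` under the powers of `g`. -/
noncomputable def normProd (g : A) (w : W) : W := ∏ i : ZMod p, (g ^ i.val) • w

theorem pow_val_add_one (g : A) (hg : g ^ p = 1) (i : ZMod p) :
    g ^ (i + 1).val = g ^ (i.val + 1) := by
  haveI : Fact (1 < p) := ⟨hp.out.one_lt⟩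
  rw [ZMod.val_add, ZMod.val_one, ← pow_eq_pow_mod _ hg]

theorem pow_val_mul (g : A) (hg : g ^ p = 1) (i j : ZMod p) :
    g ^ (i * j).val = g ^ (i.val * j.val) := by
  rw [ZMod.val_mul, ← pow_eq_pow_mod _ hg]

theorem normProd_fixed (g : A) (hg : g ^ p = 1) (w : W) : g • normProd p g w = normProd p g w := by
  unfold normProd
  rw [Finset.smul_prod']
  have h1 : ∀ i : ZMod p, g • (g ^ i.val) • w = (g ^ (i + 1).val) • w := by
    intro i
    rw [pow_val_add_one p g hg, smul_smul, pow_succ']
  simp_rw [h1]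
  exact Equiv.prod_comp (Equiv.addRight (1 : ZMod p)) (fun k => (g ^ k.val) • w)

/-- Two commuting elements `a`, `b` of order dividing `p` such that every `a^i b^j` with
`(i,j) ≠ (0,0)` acts fixed-point-freely on the abelian group `W` force `w ^ p = 1`. -/
theorem pow_eq_one_of_fpf (a b : A) (hab : Commute a b) (ha : a ^ p = 1) (hb : b ^ p = 1)
    (hfpf : ∀ i j : ZMod p, (i ≠ 0 ∨ j ≠ 0) → ∀ w : W, (a ^ i.val * b ^ j.val) • w = w → w = 1)
    (w : W) : w ^ p = 1 := by
  classical
  haveI : Fact (1 < p) := ⟨hp.out.one_lt⟩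
  -- the element `a * b^j` has `p`-th power one and is of the form `a^1 * b^j`
  have hg : ∀ j : ZMod p, (a * b ^ j.val) ^ p = 1 := by
    intro j
    rw [(hab.pow_right _).mul_pow, ha, ← pow_mul, mul_comm, pow_mul, hb, one_pow, one_mul]
  have h1 : ∀ j : ZMod p, normProd p (a * b ^ j.val) w = 1 := by
    intro j
    apply hfpf 1 j (Or.inl one_ne_zero)
    have := normProd_fixed p (a * b ^ j.val) (hg j) w
    rwa [ZMod.val_one, pow_one]
  have hb1 : normProd p b w = 1 := by
    apply hfpf 0 1 (Or.inr one_ne_zero)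
    have := normProd_fixed p b hb w
    rwa [ZMod.val_zero, pow_zero, one_mul, ZMod.val_one, pow_one]
  have h2 : ∏ j : ZMod p, normProd p (a * b ^ j.val) w = 1 := by
    simp_rw [h1]; simp
  unfold normProd at h2
  rw [Finset.prod_comm] at h2
  rw [← Finset.mul_prod_erase Finset.univ _ (Finset.mem_univ (0 : ZMod p))] at h2
  have h3 : ∏ j : ZMod p, ((a * b ^ j.val) ^ (0 : ZMod p).val) • w = w ^ p := by
    simp [ZMod.val_zero, ZMod.card]
  have h4 : ∀ i ∈ Finset.univ.erase (0 : ZMod p),
      ∏ j : ZMod p, ((a * b ^ j.val) ^ i.val) • w = 1 := by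
    intro i hi
    have hi0 : i ≠ 0 := Finset.ne_of_mem_erase hi
    have h5 : ∀ j : ZMod p, ((a * b ^ j.val) ^ i.val) • w =
        (a ^ i.val) • ((b ^ (j * i).val) • w) := by
      intro j
      rw [(hab.pow_right _).mul_pow, ← pow_mul, pow_val_mul p b hb, smul_smul]
    simp_rw [h5]
    rw [← Finset.smul_prod']
    have h6 : ∏ j : ZMod p, (b ^ (j * i).val) • w = normProd p b w :=
      Equiv.prod_comp (Equiv.mulRight₀ i hi0) (fun k => (b ^ k.val) • w)
    rw [h6, hb1, smul_one]
  rw [h3, Finset.prod_eq_one h4, mul_one] at h2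
  exact h2

end FPF

end Cfsg.Agent.Lib.Helper29
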