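import Mathlib

set_option autoImplicit false

namespace Cfsg.Agent.Lib.Helper29

/-- If `Y` normalizes `X` then `X` is normal in `X ⊔ Y`. -/
theorem subgroupOf_sup_normal_of_le_normalizer {G : Type*} [Group G] (X Y : Subgroup G)
    (hn : Y ≤ Subgroup.normalizer (X : Set G)) : (X.subgroupOf (X ⊔ Y)).Normal := by
  rw [Subgroup.normal_subgroupOf_iff_le_normalizer le_sup_left]
  exact sup_le Subgroup.le_normalizer hn

theorem quotient_sup_surjective {G : Type*} [Group G] (X Y : Subgroup G)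
    (hn : Y ≤ Subgroup.normalizer (X : Set G))
    [hN : (X.subgroupOf (X ⊔ Y)).Normal] :
    Function.Surjective ((QuotientGroup.mk' (X.subgroupOf (X ⊔ Y))).comp
      (Subgroup.inclusion (le_sup_right : Y ≤ X ⊔ Y))) := by
  intro z
  obtain ⟨⟨k, hk⟩, rfl⟩ := QuotientGroup.mk'_surjective _ z
  have hk' : k ∈ ((X ⊔ Y : Subgroup G) : Set G) := hk
  rw [Subgroup.coe_mul_of_right_le_normalizer_left X Y hn] at hk'
  obtain ⟨x, hx, y, hy, rfl⟩ := hk'
  refine ⟨⟨y, hy⟩, ?_⟩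
  rw [MonoidHom.comp_apply]
  symm
  rw [QuotientGroup.mk'_apply, QuotientGroup.mk'_apply, QuotientGroup.eq]
  rw [Subgroup.mem_subgroupOf]
  show (x * y)⁻¹ * y ∈ X
  have : (x * y)⁻¹ * y = y⁻¹ * x⁻¹ * y := by group
  rw [this]
  have hy' := hn hy
  rw [Subgroup.mem_normalizer_iff'] at hy'
  have h1 : x⁻¹ ∈ X := X.inv_mem hx
  have := (hy' (y⁻¹ * x⁻¹)).mpr (by simpa using h1)
  exact this

theorem sup_isSolvable_of_le_normalizer {G : Type*} [Group G] (X Y : Subgroup G)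
    (hn : Y ≤ Subgroup.normalizer (X : Set G)) (hX : Group.IsSolvable X) (hY : Group.IsSolvable Y) :
    Group.IsSolvable ↥(X ⊔ Y) := by
  have := subgroupOf_sup_normal_of_le_normalizer X Y hn
  have : Group.IsSolvable (↥(X ⊔ Y) ⧸ X.subgroupOf (X ⊔ Y)) :=
    Group.isSolvable_of_surjective (quotient_sup_surjective X Y hn)
  refine Group.isSolvable_of_ker_le_range (Subgroup.inclusion (le_sup_left : X ≤ X ⊔ Y))
    (QuotientGroup.mk' (X.subgroupOf (X ⊔ Y))) ?_
  rw [QuotientGroup.ker_mk', Subgroup.inclusion_range]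

theorem card_sup_dvd_of_le_normalizer {G : Type*} [Group G] (X Y : Subgroup G)
    (hn : Y ≤ Subgroup.normalizer (X : Set G)) :
    Nat.card ↥(X ⊔ Y) ∣ Nat.card X * Nat.card Y := by
  have := subgroupOf_sup_normal_of_le_normalizer X Y hn
  rw [Subgroup.card_eq_card_quotient_mul_card_subgroup (X.subgroupOf (X ⊔ Y)), mul_comm]
  have h1 : Nat.card (X.subgroupOf (X ⊔ Y)) = Nat.card X :=
    Nat.card_congr (Subgroup.subgroupOfEquivOfLe (le_sup_left : X ≤ X ⊔ Y)).toEquiv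
  rw [h1]
  exact Nat.mul_dvd_mul_left _ (Subgroup.card_dvd_of_surjective _ (quotient_sup_surjective X Y hn))

/-- Conjugation-invariance passes to the join. -/
theorem conj_mem_sup {G : Type*} [Group G] (X Y : Subgroup G) (b : G)
    (hX : ∀ u ∈ X, b * u * b⁻¹ ∈ X) (hY : ∀ u ∈ Y, b * u * b⁻¹ ∈ Y) :
    ∀ u ∈ X ⊔ Y, b * u * b⁻¹ ∈ X ⊔ Y := by
  intro u hu
  have h1 : X.map (MulAut.conj b).toMonoidHom ≤ X := by
    rintro _ ⟨x, hx, rfl⟩
    simpa using hX x hx
  have h2 : Y.map (MulAut.conj b).toMonoidHom ≤ Y := by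
    rintro _ ⟨x, hx, rfl⟩
    simpa using hY x hx
  have h3 : (X ⊔ Y).map (MulAut.conj b).toMonoidHom ≤ X ⊔ Y := by
    rw [Subgroup.map_sup]
    exact sup_le_sup h1 h2
  have : (MulAut.conj b).toMonoidHom u ∈ (X ⊔ Y).map (MulAut.conj b).toMonoidHom :=
    Subgroup.mem_map_of_mem _ hu
  simpa using h3 this

end Cfsg.Agent.Lib.Helper29
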