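import Mathlib
import Cfsg.Agent.Lib.Helper29.FixedPointFree
import Cfsg.Agent.Lib.Helper29.Sup

set_option autoImplicit false

namespace Cfsg.Agent.Lib.Helper29

open scoped IsMulCommutative

universe u

section KL

variable {A : Type*} [Group A]

/-- Fixed points of a single element. -/
def fixSub (V : Type*) [Group V] [MulDistribMulAction A V] (a : A) : Subgroup V where
  carrier := {v | a • v = v}
  mul_mem' := by
    intro x y hx hy
    show a • (x * y) = x * y
    rw [smul_mul', show a • x = x from hx, show a • y = y from hy]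
  one_mem' := smul_one a
  inv_mem' := by
    intro x hx
    show a • x⁻¹ = x⁻¹
    rw [smul_inv', show a • x = x from hx]

theorem mem_fixSub {V : Type*} [Group V] [MulDistribMulAction A V] (a : A) (v : V) :
    v ∈ fixSub V a ↔ a • v = v := Iff.rfl

/-- The kernel of an action. -/
def actKer (V : Type*) [Group V] [MulDistribMulAction A V] : Subgroup A where
  carrier := {a | ∀ v : V, a • v = v}
  mul_mem' := by
    intro x y hx hy v
    rw [mul_smul, hy v, hx v]
  one_mem' := fun v => one_smul A v
  inv_mem' := by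
    intro x hx v
    have := hx v
    rw [inv_smul_eq_iff, this]

/-- Restriction of an action to an invariant subgroup. -/
@[reducible] def restrictAction {V : Type*} [Group V] [MulDistribMulAction A V] (S : Subgroup V)
    (h : ∀ a : A, ∀ v ∈ S, a • v ∈ S) : MulDistribMulAction A S where
  smul a v := ⟨a • v.1, h a v.1 v.2⟩
  one_smul v := Subtype.ext (one_smul A v.1)
  mul_smul a b v := Subtype.ext (mul_smul a b v.1)
  smul_mul a v w := Subtype.ext (smul_mul' a v.1 w.1)
  smul_one a := Subtype.ext (smul_one a)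

theorem smul_mem_center {V : Type*} [Group V] [MulDistribMulAction A V] (a : A) (z : V)
    (hz : z ∈ Subgroup.center V) : a • z ∈ Subgroup.center V := by
  rw [Subgroup.mem_center_iff] at hz ⊢
  intro v
  have e : v = a • (a⁻¹ • v) := by rw [smul_inv_smul]
  rw [e, ← smul_mul', ← smul_mul', hz]

theorem pow_of_pow_coprime {A : Type*} [Group A] (p : ℕ) [hp : Fact p.Prime] (g : A) (hg : g ^ p = 1)
    (i : ZMod p) (hi : i ≠ 0) : ∃ m : ℕ, (g ^ i.val) ^ m = g := by
  have hpos : 0 < i.val := Nat.pos_of_ne_zero (fun h => hi ((ZMod.val_eq_zero i).mp h))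
  have hlt : i.val < p := ZMod.val_lt i
  have hcop : Nat.Coprime i.val p :=
    Nat.Coprime.symm ((Nat.Prime.coprime_iff_not_dvd hp.out).mpr (Nat.not_dvd_of_pos_of_lt hpos hlt))
  obtain ⟨m, -, hm⟩ := Nat.exists_mul_mod_eq_one_of_coprime hcop hp.out.one_lt
  refine ⟨m, ?_⟩
  rw [← pow_mul, pow_eq_pow_mod _ hg, hm, pow_one]


theorem card_lt_of_ne_top' {V : Type*} [Group V] [Finite V] (S : Subgroup V) (h : S ≠ ⊤) :
    Nat.card S < Nat.card V := by
  by_contra hlt
  exact h (Subgroup.eq_top_of_le_card S (not_lt.mp hlt))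

/-- Core case: if every element acts either trivially or fixed-point-freely on the `q`-group `V`,
then the kernel of the action has index at most `p`. -/
theorem card_le_mul_card_actKer [Finite A] (p q : ℕ) [hp : Fact p.Prime] [hq : Fact q.Prime]
    (hpq : p ≠ q) (hcomm : ∀ a b : A, a * b = b * a) (hexp : ∀ a : A, a ^ p = 1)
    (V : Type*) [Group V] [Finite V] [MulDistribMulAction A V] (hV : IsPGroup q V)
    (hnt : Nontrivial V) (hcase : ∀ a : A, fixSub V a ≠ ⊥ → fixSub V a = ⊤) :
    Nat.card A ≤ p * Nat.card (actKer (A := A) V) := by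
  by_contra hK
  have hK : p * Nat.card (actKer (A := A) V) < Nat.card A := not_le.mp hK
  set K := actKer (A := A) V with hKdef
  -- an element outside the kernel
  have h1 : ∃ a : A, a ∉ K := by
    by_contra hall
    have hall : ∀ a : A, a ∈ K := by
      intro a
      by_contra ha
      exact hall ⟨a, ha⟩
    have : K = ⊤ := by rw [eq_top_iff]; intro a _; exact hall a
    rw [this, Subgroup.card_top] at hK
    have hp1 : 1 ≤ p := hp.out.one_lt.le
    nlinarith [Nat.card_pos (α := A)]
  obtain ⟨a, ha⟩ := h1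
  -- an element outside K ⊔ ⟨a⟩
  have h2 : ∃ b : A, b ∉ K ⊔ Subgroup.zpowers a := by
    by_contra hall
    have hall : ∀ b : A, b ∈ K ⊔ Subgroup.zpowers a := by
      intro b
      by_contra hb
      exact hall ⟨b, hb⟩
    have htop : K ⊔ Subgroup.zpowers a = ⊤ := by rw [eq_top_iff]; intro b _; exact hall b
    have hdvd := card_sup_dvd_of_le_normalizer K (Subgroup.zpowers a) (by
      intro x _
      rw [Subgroup.mem_normalizer_iff]
      intro y
      rw [hcomm x y, mul_inv_cancel_right])
    rw [htop, Subgroup.card_top, Nat.card_zpowers] at hdvd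
    have hord : orderOf a ≤ p := Nat.le_of_dvd hp.out.pos (orderOf_dvd_of_pow_eq_one (hexp a))
    have hle : Nat.card A ≤ Nat.card K * orderOf a :=
      Nat.le_of_dvd (Nat.mul_pos Nat.card_pos (orderOf_pos a)) hdvd
    have : Nat.card K * orderOf a ≤ Nat.card K * p := Nat.mul_le_mul_left _ hord
    linarith [mul_comm p (Nat.card K)]
  obtain ⟨b, hb⟩ := h2
  -- all nontrivial `a^i b^j` are outside the kernel
  have h3 : ∀ i j : ZMod p, (i ≠ 0 ∨ j ≠ 0) → a ^ i.val * b ^ j.val ∉ K := by
    intro i j hij hmem
    by_cases hj : j = 0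
    · have hi : i ≠ 0 := by
        rcases hij with h | h
        · exact h
        · exact absurd hj h
      rw [hj, ZMod.val_zero, pow_zero, mul_one] at hmem
      obtain ⟨m, hm⟩ := pow_of_pow_coprime p a (hexp a) i hi
      apply ha
      rw [← hm]
      exact K.pow_mem hmem m
    · obtain ⟨m, hm⟩ := pow_of_pow_coprime p b (hexp b) j hj
      apply hb
      rw [← hm]
      apply Subgroup.pow_mem
      have e : b ^ j.val = (a ^ i.val * b ^ j.val) * (a ^ i.val)⁻¹ := by
        rw [hcomm (a ^ i.val) (b ^ j.val), mul_inv_cancel_right]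
      rw [e]
      exact Subgroup.mul_mem _ (Subgroup.mem_sup_left hmem)
        (Subgroup.mem_sup_right (Subgroup.inv_mem _ (Subgroup.pow_mem _ (Subgroup.mem_zpowers a) _)))
  -- hence they act fixed-point-freely
  have h4 : ∀ g : A, g ∉ K → ∀ v : V, g • v = v → v = 1 := by
    intro g hg v hv
    have hne : fixSub V g ≠ ⊤ := by
      intro htop
      apply hg
      intro v
      have : v ∈ fixSub V g := by rw [htop]; trivial
      exact this
    have hbot : fixSub V g = ⊥ := by
      by_contra hne'
      exact hne (hcase g hne')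
    have : v ∈ fixSub V g := hv
    rw [hbot, Subgroup.mem_bot] at this
    exact this
  -- apply the fixed-point-free lemma to the centre of `V`
  letI : MulDistribMulAction A (Subgroup.center V) :=
    restrictAction (Subgroup.center V) (fun a z hz => smul_mem_center a z hz)
  have h5 : ∀ w : Subgroup.center V, w ^ p = 1 := by
    intro w
    apply pow_eq_one_of_fpf (A := A) (W := Subgroup.center V) p a b (hcomm a b) (hexp a) (hexp b)
    intro i j hij w hw
    apply Subtype.ext
    apply h4 _ (h3 i j hij) w.1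
    exact congrArg Subtype.val hw
  have h6 : ∀ w : Subgroup.center V, w = 1 := by
    intro w
    obtain ⟨k, hk⟩ := hV w.1
    have h7 : orderOf w.1 ∣ p := orderOf_dvd_of_pow_eq_one (congrArg Subtype.val (h5 w))
    have h8 : orderOf w.1 ∣ q ^ k := orderOf_dvd_of_pow_eq_one hk
    have hcop : Nat.Coprime p (q ^ k) :=
      Nat.Coprime.pow_right k ((Nat.coprime_primes hp.out hq.out).mpr hpq)
    have h9 : orderOf w.1 = 1 := Nat.eq_one_of_dvd_coprimes hcop h7 h8
    exact Subtype.ext (orderOf_eq_one_iff.mp h9)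
  have hcn : Nontrivial (Subgroup.center V) := hV.center_nontrivial
  obtain ⟨w, hw⟩ := exists_ne (1 : Subgroup.center V)
  exact hw (h6 w)

/-- An elementary abelian `p`-group acting on a nontrivial `q`-group (`q ≠ p`) has a subgroup of
index at most `p` with a nontrivial fixed point. -/
theorem exists_hyperplane_fixed_aux [Finite A] (p q : ℕ) [hp : Fact p.Prime] [hq : Fact q.Prime]
    (hpq : p ≠ q) (hcomm : ∀ a b : A, a * b = b * a) (hexp : ∀ a : A, a ^ p = 1) :
    ∀ (n : ℕ) (V : Type u) [Group V] [Finite V] [MulDistribMulAction A V], Nat.card V = n →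
      IsPGroup q V → Nontrivial V →
      ∃ B : Subgroup A, Nat.card A ≤ p * Nat.card B ∧ ∃ v : V, v ≠ 1 ∧ ∀ b ∈ B, b • v = v := by
  intro n
  induction n using Nat.strong_induction_on with
  | _ n ih =>
    intro V _ _ _ hn hV hnt
    by_cases hcase : ∃ a : A, fixSub V a ≠ ⊥ ∧ fixSub V a ≠ ⊤
    · obtain ⟨a, h1, h2⟩ := hcase
      letI : MulDistribMulAction A (fixSub V a) :=
        restrictAction (fixSub V a) (by
          intro b v hv
          rw [mem_fixSub] at hv ⊢
          rw [smul_smul, hcomm a b, ← smul_smul, hv])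
      have hlt : Nat.card (fixSub V a) < n := by rw [← hn]; exact card_lt_of_ne_top' _ h2
      have hnt' : Nontrivial (fixSub V a) := (Subgroup.nontrivial_iff_ne_bot _).mpr h1
      obtain ⟨B, hB, v, hv1, hvB⟩ := ih _ hlt (fixSub V a) rfl (hV.to_subgroup _) hnt'
      refine ⟨B, hB, v.1, fun h => hv1 (Subtype.ext h), fun b hb => ?_⟩
      exact congrArg Subtype.val (hvB b hb)
    · have hcase' : ∀ a : A, fixSub V a ≠ ⊥ → fixSub V a = ⊤ := by
        intro a h1
        by_contra h2
        exact hcase ⟨a, h1, h2⟩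
      obtain ⟨v, hv⟩ := exists_ne (1 : V)
      exact ⟨actKer (A := A) V, card_le_mul_card_actKer p q hpq hcomm hexp V hV hnt hcase',
        v, hv, fun b hb => hb v⟩

theorem exists_hyperplane_fixed [Finite A] (p q : ℕ) [Fact p.Prime] [Fact q.Prime]
    (hpq : p ≠ q) (hcomm : ∀ a b : A, a * b = b * a) (hexp : ∀ a : A, a ^ p = 1)
    (V : Type*) [Group V] [Finite V] [MulDistribMulAction A V] (hV : IsPGroup q V)
    (hnt : Nontrivial V) :
    ∃ B : Subgroup A, Nat.card A ≤ p * Nat.card B ∧ ∃ v : V, v ≠ 1 ∧ ∀ b ∈ B, b • v = v :=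
  exists_hyperplane_fixed_aux p q hpq hcomm hexp _ V rfl hV hnt

end KL

end Cfsg.Agent.Lib.Helper29
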