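import Mathlib
import Cfsg.Agent.Lib.Helper29.HyperplaneAbs
import Cfsg.Agent.Lib.Helper29.Coprime

set_option autoImplicit false

namespace Cfsg.Agent.Lib.Helper29

section

variable {Γ : Type*} [Group Γ]

/-- Conjugation by an element normalizing `N`, as an endomorphism of `N`. -/
def conjHomOfNormalizes (N : Subgroup Γ) (a : Γ) (ha : a ∈ Subgroup.normalizer (N : Set Γ)) :
    N →* N where
  toFun x := ⟨a * x.1 * a⁻¹, (Subgroup.mem_normalizer_iff.mp ha x.1).mp x.2⟩
  map_one' := by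
    apply Subtype.ext
    show a * (1 : Γ) * a⁻¹ = 1
    group
  map_mul' x y := by
    apply Subtype.ext
    show a * (x.1 * y.1) * a⁻¹ = (a * x.1 * a⁻¹) * (a * y.1 * a⁻¹)
    group

theorem conjHomOfNormalizes_le_comap (N D : Subgroup Γ) (a : Γ)
    (ha : a ∈ Subgroup.normalizer (N : Set Γ)) (haD : a ∈ Subgroup.normalizer (D : Set Γ)) :
    D.subgroupOf N ≤ (D.subgroupOf N).comap (conjHomOfNormalizes N a ha) := by
  intro x hx
  rw [Subgroup.mem_comap, Subgroup.mem_subgroupOf]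
  rw [Subgroup.mem_subgroupOf] at hx
  exact (Subgroup.mem_normalizer_iff.mp haD x.1).mp hx

/-- The action of `A` on the section `N / D`. -/
@[reducible] noncomputable def sectionAction (A N D : Subgroup Γ)
    (hAN : A ≤ Subgroup.normalizer (N : Set Γ)) (hAD : A ≤ Subgroup.normalizer (D : Set Γ))
    [(D.subgroupOf N).Normal] :
    MulDistribMulAction A (N ⧸ D.subgroupOf N) where
  smul a v := QuotientGroup.map (D.subgroupOf N) (D.subgroupOf N)
    (conjHomOfNormalizes N a.1 (hAN a.2)) (conjHomOfNormalizes_le_comap N D a.1 (hAN a.2) (hAD a.2)) v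
  one_smul v := by
    induction v using QuotientGroup.induction_on with
    | H x =>
      show QuotientGroup.map _ _ _ _ (QuotientGroup.mk x : N ⧸ D.subgroupOf N) =
        (QuotientGroup.mk x : N ⧸ D.subgroupOf N)
      rw [QuotientGroup.map_mk]
      congr 1
      apply Subtype.ext
      show (1 : Γ) * x.1 * (1 : Γ)⁻¹ = x.1
      group
  mul_smul a b v := by
    induction v using QuotientGroup.induction_on with
    | H x =>
      show QuotientGroup.map _ _ _ _ (QuotientGroup.mk x : N ⧸ D.subgroupOf N) =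
        QuotientGroup.map _ _ _ _ (QuotientGroup.map _ _ _ _ (QuotientGroup.mk x : N ⧸ D.subgroupOf N))
      rw [QuotientGroup.map_mk, QuotientGroup.map_mk, QuotientGroup.map_mk]
      congr 1
      apply Subtype.ext
      show (a.1 * b.1) * x.1 * (a.1 * b.1)⁻¹ = a.1 * (b.1 * x.1 * b.1⁻¹) * a.1⁻¹
      group
  smul_mul a v w := map_mul _ v w
  smul_one a := map_one _


theorem not_dvd_card_of_isPGroup_of_ne {H : Type*} [Group H] [Finite H] (p q : ℕ) [hp : Fact p.Prime]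
    [hq : Fact q.Prime] (hpq : p ≠ q) (hH : IsPGroup q H) : ¬ p ∣ Nat.card H := by
  obtain ⟨n, hn⟩ := IsPGroup.iff_card.mp hH
  rw [hn]
  intro h
  have := (Nat.prime_dvd_prime_iff_eq hp.out hq.out).mp (hp.out.dvd_of_dvd_pow h)
  exact hpq this

/-- Let `A` be an elementary abelian `p`-subgroup normalizing the `q`-subgroup `N` (`q ≠ p`) and its
normal subgroup `D ≠ N`. Then some subgroup `B` of index at most `p` in `A` centralizes an element
of `N` outside `D`. -/
theorem exists_hyperplane_fixed_section [Finite Γ] (p q : ℕ) [hp : Fact p.Prime] [hq : Fact q.Prime]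
    (hpq : p ≠ q) (A N D : Subgroup Γ) (hAc : ∀ a ∈ A, ∀ b ∈ A, a * b = b * a)
    (hAp : ∀ a ∈ A, a ^ p = 1) (hN : IsPGroup q N) (hDN : D ≤ N)
    (hND : N ≤ Subgroup.normalizer (D : Set Γ)) (hne : D ≠ N)
    (hAN : A ≤ Subgroup.normalizer (N : Set Γ)) (hAD : A ≤ Subgroup.normalizer (D : Set Γ)) :
    ∃ B : Subgroup Γ, B ≤ A ∧ Nat.card A ≤ p * Nat.card B ∧
      ∃ x ∈ N, x ∉ D ∧ ∀ b ∈ B, b * x * b⁻¹ = x := by
  haveI : (D.subgroupOf N).Normal := (Subgroup.normal_subgroupOf_iff_le_normalizer hDN).mpr hND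
  letI := sectionAction A N D hAN hAD
  have hV : IsPGroup q (N ⧸ D.subgroupOf N) := hN.to_quotient _
  have hnt : Nontrivial (N ⧸ D.subgroupOf N) := by
    obtain ⟨x, hxN, hxD⟩ : ∃ x ∈ N, x ∉ D := by
      by_contra h
      have h' : ∀ x ∈ N, x ∈ D := by
        intro x hx
        by_contra hxD
        exact h ⟨x, hx, hxD⟩
      exact hne (le_antisymm hDN h')
    refine ⟨⟨QuotientGroup.mk ⟨x, hxN⟩, 1, ?_⟩⟩
    intro h
    rw [QuotientGroup.eq_one_iff] at h
    exact hxD h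
  obtain ⟨B', hB', v, hv1, hvB⟩ := exists_hyperplane_fixed (A := A) p q hpq
    (fun a b => Subtype.ext (hAc a.1 a.2 b.1 b.2)) (fun a => Subtype.ext (hAp a.1 a.2))
    (N ⧸ D.subgroupOf N) hV hnt
  induction v using QuotientGroup.induction_on with
  | H x =>
  have hxD : x.1 ∉ D := fun h => hv1 ((QuotientGroup.eq_one_iff x).mpr h)
  have hfix : ∀ b ∈ B', x.1⁻¹ * (b.1 * x.1 * b.1⁻¹) ∈ D := by
    intro b hb
    have h2 : (QuotientGroup.mk (conjHomOfNormalizes N b.1 (hAN b.2) x) : N ⧸ D.subgroupOf N) =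
        QuotientGroup.mk x := hvB b hb
    rw [eq_comm, QuotientGroup.eq] at h2
    exact h2
  have hBp : IsPGroup p (B'.map A.subtype) := by
    rintro ⟨g, hg⟩
    refine ⟨1, Subtype.ext ?_⟩
    obtain ⟨a, -, rfl⟩ := hg
    show (a.1) ^ (p ^ 1) = 1
    rw [pow_one]
    exact hAp a.1 a.2
  have hinv : ∀ g ∈ B'.map A.subtype, ∀ s ∈ (fun d => x.1 * d) '' (D : Set Γ),
      g * s * g⁻¹ ∈ (fun d => x.1 * d) '' (D : Set Γ) := by
    rintro _ ⟨b, hb, rfl⟩ _ ⟨d, hd, rfl⟩
    refine ⟨(x.1⁻¹ * (b.1 * x.1 * b.1⁻¹)) * (b.1 * d * b.1⁻¹), ?_, ?_⟩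
    · exact D.mul_mem (hfix b hb) ((Subgroup.mem_normalizer_iff.mp (hAD b.2) d).mp hd)
    · show x.1 * ((x.1⁻¹ * (b.1 * x.1 * b.1⁻¹)) * (b.1 * d * b.1⁻¹)) = b.1 * (x.1 * d) * b.1⁻¹
      group
  have hcard : ¬ p ∣ Nat.card ((fun d => x.1 * d) '' (D : Set Γ)) := by
    rw [Nat.card_image_of_injective (mul_right_injective x.1)]
    exact not_dvd_card_of_isPGroup_of_ne p q hpq (hN.to_le hDN)
  obtain ⟨x', ⟨d, hd, rfl⟩, hx'⟩ :=
    exists_conj_fixed_of_pgroup (B'.map A.subtype) hBp _ hinv hcard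
  refine ⟨B'.map A.subtype, Subgroup.map_subtype_le _, ?_, x.1 * d, N.mul_mem x.2 (hDN hd), ?_, hx'⟩
  · rw [Subgroup.card_map_of_injective A.subtype_injective]
    exact hB'
  · intro h
    apply hxD
    have : x.1 = (x.1 * d) * d⁻¹ := by group
    rw [this]
    exact D.mul_mem h (D.inv_mem hd)

end

end Cfsg.Agent.Lib.Helper29
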