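import Mathlib
import Cfsg.Prelude.Def_Local

set_option autoImplicit false

namespace Cfsg.Agent.Lib.Helper29

open Cfsg

/-- A normal `p`-subgroup lies in `O_{p',p}(G)`. -/
theorem normal_pgroup_le_pPrimePCore {G : Type*} [Group G] (p : ℕ) (N : Subgroup G) [hn : N.Normal]
    (hN : IsPGroup p N) : N ≤ pPrimePCore p G := by
  intro x hx
  have h1 : N.map (QuotientGroup.mk' (pPrimeCore p G)) ≤ pCore p (G ⧸ pPrimeCore p G) :=
    le_sSup ⟨Subgroup.Normal.map hn _ (QuotientGroup.mk'_surjective _), hN.map _⟩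
  exact h1 (Subgroup.mem_map_of_mem _ hx)

/-- A normal subgroup of order prime to `p` lies in `O_{p'}(G)`. -/
theorem normal_le_pPrimeCore {G : Type*} [Group G] (p : ℕ) (N : Subgroup G) [hn : N.Normal]
    (hN : (Nat.card N).Coprime p) : N ≤ pPrimeCore p G :=
  le_sSup ⟨hn, hN⟩

/-- If every normal subgroup of order prime to `p` is trivial, then `O_{p'}(G) = 1`. -/
theorem pPrimeCore_eq_bot_of_forall {G : Type*} [Group G] (p : ℕ)
    (h : ∀ N : Subgroup G, N.Normal → (Nat.card N).Coprime p → N = ⊥) : pPrimeCore p G = ⊥ := by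
  rw [eq_bot_iff]
  apply sSup_le
  rintro N ⟨h1, h2⟩
  rw [h N h1 h2]

end Cfsg.Agent.Lib.Helper29
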