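import Mathlib
import Cfsg.Prelude.Def_Local
import Cfsg.Agent.Lib.Helper29.Sup
import Cfsg.Agent.Lib.Helper29.Cores

set_option autoImplicit false

namespace Cfsg.Agent.Lib.Helper29

open Cfsg

universe u

/-- The `p'`-core of a finite group has order prime to `p`. -/
theorem pPrimeCore_coprime {G : Type*} [Group G] [Finite G] (p : ℕ) :
    (Nat.card (pPrimeCore p G)).Coprime p := by
  classical
  have hfin : {N : Subgroup G | N.Normal ∧ (Nat.card N).Coprime p}.Finite := Set.toFinite _
  have h1 : pPrimeCore p G = hfin.toFinset.sup id := by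
    rw [Finset.sup_id_eq_sSup, Set.Finite.coe_toFinset]; rfl
  have key : (hfin.toFinset.sup id).Normal ∧
      (Nat.card (hfin.toFinset.sup id : Subgroup G)).Coprime p := by
    refine Finset.sup_induction (p := fun N : Subgroup G => N.Normal ∧ (Nat.card N).Coprime p)
      ?_ ?_ ?_
    · exact ⟨inferInstance, by simp⟩
    · rintro N1 ⟨h1, c1⟩ N2 ⟨h2, c2⟩
      refine ⟨Subgroup.sup_normal N1 N2, ?_⟩
      have := card_sup_dvd_of_le_normalizer N1 N2 Subgroup.le_normalizer_of_normal
      exact Nat.Coprime.coprime_dvd_left this (Nat.Coprime.mul_left c1 c2)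
    · intro N hN
      simpa using hN
  rw [h1]; exact key.2

theorem not_dvd_card_pPrimeCore {G : Type*} [Group G] [Finite G] (p : ℕ) [hp : Fact p.Prime] :
    ¬ p ∣ Nat.card (pPrimeCore p G) := by
  intro h
  have := pPrimeCore_coprime (G := G) p
  rw [Nat.coprime_comm, Nat.Prime.coprime_iff_not_dvd hp.out] at this
  exact this h

theorem coprime_card_of_le_pPrimeCore {G : Type*} [Group G] [Finite G] (p : ℕ) (H : Subgroup G)
    (h : H ≤ pPrimeCore p G) : (Nat.card H).Coprime p :=
  Nat.Coprime.coprime_dvd_left (Subgroup.card_dvd_of_le h) (pPrimeCore_coprime p)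

instance pPrimeCore_characteristic {G : Type*} [Group G] (p : ℕ) :
    (pPrimeCore p G).Characteristic := by
  rw [Subgroup.characteristic_iff_map_le]
  intro ϕ
  rw [Subgroup.map_le_iff_le_comap]
  unfold pPrimeCore
  apply sSup_le
  rintro N ⟨hN, hc⟩
  rw [← Subgroup.map_le_iff_le_comap]
  apply le_sSup
  refine ⟨hN.map ϕ.toMonoidHom ϕ.surjective, ?_⟩
  show (Nat.card (N.map ϕ.toMonoidHom)).Coprime p
  rw [Subgroup.card_map_of_injective ϕ.injective]
  exact hc

theorem card_lt_of_lt_top {G : Type*} [Group G] [Finite G] (M : Subgroup G) (h : M < ⊤) :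
    Nat.card M < Nat.card G := by
  by_contra hlt
  exact h.ne (Subgroup.eq_top_of_le_card M (not_lt.mp hlt))

/-- A subnormal subgroup of order prime to `p` lies in the `p'`-core. -/
theorem subnormal_le_pPrimeCore_aux (p : ℕ) : ∀ (n : ℕ) (G : Type u) [Group G] [Finite G]
    (H : Subgroup G), Nat.card G = n → H.IsSubnormal → (Nat.card H).Coprime p →
    H ≤ pPrimeCore p G := by
  intro n
  induction n using Nat.strong_induction_on with
  | _ n ih =>
    intro G _ _ H hn hsub hcop
    rcases hsub.lt_normal with rfl | ⟨M, hMn, hHM, hMlt⟩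
    · exact le_sSup ⟨inferInstance, hcop⟩
    · have hcard : Nat.card M < n := by rw [← hn]; exact card_lt_of_lt_top M hMlt
      have hc2 : (Nat.card (H.subgroupOf M)).Coprime p := by
        rw [Nat.card_congr (Subgroup.subgroupOfEquivOfLe hHM).toEquiv]; exact hcop
      have h1 := ih (Nat.card M) hcard M (H.subgroupOf M) rfl hsub.subgroupOf hc2
      have hnorm : ((pPrimeCore p M).map M.subtype).Normal :=
        ConjAct.normal_of_characteristic_of_normal
      have hcop' : (Nat.card ((pPrimeCore p M).map M.subtype)).Coprime p := by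
        rw [Subgroup.card_map_of_injective M.subtype_injective]; exact pPrimeCore_coprime p
      have h2 : (pPrimeCore p M).map M.subtype ≤ pPrimeCore p G := le_sSup ⟨hnorm, hcop'⟩
      calc H = (H.subgroupOf M).map M.subtype := (Subgroup.map_subgroupOf_eq_of_le hHM).symm
        _ ≤ (pPrimeCore p M).map M.subtype := Subgroup.map_mono h1
        _ ≤ _ := h2

theorem subnormal_le_pPrimeCore {G : Type*} [Group G] [Finite G] (p : ℕ) (H : Subgroup G)
    (hsub : H.IsSubnormal) (hcop : (Nat.card H).Coprime p) : H ≤ pPrimeCore p G :=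
  subnormal_le_pPrimeCore_aux p _ G H rfl hsub hcop

theorem card_comap_mk' {G : Type*} [Group G] [Finite G] (O : Subgroup G) [O.Normal]
    (N : Subgroup (G ⧸ O)) :
    Nat.card (N.comap (QuotientGroup.mk' O)) = Nat.card O * Nat.card N := by
  have h1 : (N.comap (QuotientGroup.mk' O)).index = N.index :=
    Subgroup.index_comap_of_surjective N (QuotientGroup.mk'_surjective O)
  have h2 := Subgroup.card_mul_index (N.comap (QuotientGroup.mk' O))
  have h3 := Subgroup.card_mul_index N
  have h4 := Subgroup.card_eq_card_quotient_mul_card_subgroup O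
  have hpos : 0 < N.index := Nat.pos_of_ne_zero Subgroup.index_ne_zero_of_finite
  rw [h1] at h2
  have : Nat.card (N.comap (QuotientGroup.mk' O)) * N.index =
      (Nat.card O * Nat.card N) * N.index := by
    rw [h2, h4, ← h3]; ring
  exact Nat.eq_of_mul_eq_mul_right hpos this

/-- `O_{p'}(G / O_{p'}(G)) = 1`. -/
theorem pPrimeCore_quotient_eq_bot {G : Type*} [Group G] [Finite G] (p : ℕ) :
    pPrimeCore p (G ⧸ pPrimeCore p G) = ⊥ := by
  apply pPrimeCore_eq_bot_of_forall
  intro N hn hc
  have hnorm : (N.comap (QuotientGroup.mk' (pPrimeCore p G))).Normal := hn.comap _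
  have hcop : (Nat.card (N.comap (QuotientGroup.mk' (pPrimeCore p G)))).Coprime p := by
    rw [card_comap_mk']
    exact Nat.Coprime.mul_left (pPrimeCore_coprime p) hc
  have hle : N.comap (QuotientGroup.mk' (pPrimeCore p G)) ≤ pPrimeCore p G :=
    le_sSup ⟨hnorm, hcop⟩
  have := Subgroup.map_mono (f := QuotientGroup.mk' (pPrimeCore p G)) hle
  rw [Subgroup.map_comap_eq_self_of_surjective (QuotientGroup.mk'_surjective _),
    QuotientGroup.map_mk'_self] at this
  exact le_bot_iff.mp this

/-- For `K` subnormal in `G`, `O_{p'}(K) = K ∩ O_{p'}(G)`. -/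
theorem map_pPrimeCore_subtype_of_subnormal {G : Type*} [Group G] [Finite G] (p : ℕ)
    (K : Subgroup G) (hK : K.IsSubnormal) :
    (pPrimeCore p K).map K.subtype = K ⊓ pPrimeCore p G := by
  apply le_antisymm
  · refine le_inf (Subgroup.map_subtype_le _) ?_
    apply subnormal_le_pPrimeCore
    · exact (Subgroup.Normal.isSubnormal inferInstance).trans' hK
    · rw [Subgroup.card_map_of_injective K.subtype_injective]; exact pPrimeCore_coprime p
  · have h1 : (K ⊓ pPrimeCore p G).subgroupOf K ≤ pPrimeCore p K := by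
      apply le_sSup
      refine ⟨?_, ?_⟩
      · rw [Subgroup.inf_subgroupOf_left]; infer_instance
      · show (Nat.card ((K ⊓ pPrimeCore p G).subgroupOf K)).Coprime p
        rw [Nat.card_congr (Subgroup.subgroupOfEquivOfLe (inf_le_left : K ⊓ pPrimeCore p G ≤ K)).toEquiv]
        exact coprime_card_of_le_pPrimeCore p _ inf_le_right
    have := Subgroup.map_mono (f := K.subtype) h1
    rwa [Subgroup.map_subgroupOf_eq_of_le inf_le_left] at this

theorem pPrimeCore_eq_subgroupOf_of_subnormal {G : Type*} [Group G] [Finite G] (p : ℕ)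
    (K : Subgroup G) (hK : K.IsSubnormal) :
    pPrimeCore p K = (pPrimeCore p G).subgroupOf K := by
  have h := map_pPrimeCore_subtype_of_subnormal p K hK
  have h2 : ((pPrimeCore p K).map K.subtype).subgroupOf K = pPrimeCore p K := by
    ext x
    rw [Subgroup.mem_subgroupOf]
    constructor
    · rintro ⟨y, hy, hxy⟩
      have : y = x := Subtype.ext hxy
      rwa [← this]
    · intro hx
      exact ⟨x, hx, rfl⟩
  rw [← h2, h, Subgroup.inf_subgroupOf_left]

end Cfsg.Agent.Lib.Helper29
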