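import Mathlib
import Cfsg.Prelude.Def_Local

set_option autoImplicit false

namespace Cfsg.Agent.Lib.Helper29

open Cfsg
open scoped commutatorElement

/-- A homomorphism from a perfect group to a commutative group is trivial. -/
theorem perfect_hom_comm_trivial {K A : Type*} [Group K] [Group A] (hK : commutator K = ⊤)
    (hA : ∀ a b : A, a * b = b * a) (f : K →* A) (x : K) : f x = 1 := by
  have h1 : commutator K ≤ f.ker := by
    have e : commutator K = ⁅(⊤ : Subgroup K), ⊤⁆ := rfl
    rw [e, Subgroup.commutator_le]
    intro a _ b _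
    rw [MonoidHom.mem_ker, commutatorElement_def, map_mul, map_mul, map_mul, map_inv, map_inv,
      hA (f a) (f b)]
    group
  have : x ∈ f.ker := h1 (by rw [hK]; trivial)
  exact MonoidHom.mem_ker.mp this

theorem qs_perfect {K : Type*} [Group K] (h : IsQuasisimple K) : commutator K = ⊤ :=
  h.1.commutator_eq_top

theorem qs_nontrivial {K : Type*} [Group K] (h : IsQuasisimple K) : Nontrivial K := by
  have := h.2
  have : Nontrivial (K ⧸ Subgroup.center K) := IsSimpleGroup.toNontrivial
  exact (QuotientGroup.mk'_surjective (Subgroup.center K)).nontrivial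

/-- In a quasisimple group the centre is a proper subgroup. -/
theorem qs_center_ne_top {K : Type*} [Group K] (h : IsQuasisimple K) :
    Subgroup.center K ≠ ⊤ := by
  intro htop
  have := h.2
  have : Nontrivial (K ⧸ Subgroup.center K) := IsSimpleGroup.toNontrivial
  have h2 : Subsingleton (K ⧸ Subgroup.center K) := by
    rw [htop]
    exact QuotientGroup.subsingleton_quotient_top
  exact not_subsingleton _ h2

/-- If `N` is normal, `N ⊔ Z(K) = ⊤` and `K` is perfect then `N = ⊤`. -/
theorem eq_top_of_sup_center_eq_top {K : Type*} [Group K] (hK : commutator K = ⊤)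
    (N : Subgroup K) [hN : N.Normal] (hsup : N ⊔ Subgroup.center K = ⊤) : N = ⊤ := by
  haveI : Group.IsPerfect K := ⟨hK⟩
  have hcomm : ∀ a b : K ⧸ N, a * b = b * a := by
    intro a b
    induction a using QuotientGroup.induction_on with
    | H x =>
    induction b using QuotientGroup.induction_on with
    | H y =>
    have hx : x ∈ N ⊔ Subgroup.center K := by rw [hsup]; trivial
    have hy : y ∈ N ⊔ Subgroup.center K := by rw [hsup]; trivial
    rw [Subgroup.mem_sup_of_normal_left] at hx hy
    obtain ⟨n1, hn1, z1, hz1, rfl⟩ := hx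
    obtain ⟨n2, hn2, z2, hz2, rfl⟩ := hy
    have e1 : ((n1 : K) : K ⧸ N) = 1 := (QuotientGroup.eq_one_iff n1).mpr hn1
    have e2 : ((n2 : K) : K ⧸ N) = 1 := (QuotientGroup.eq_one_iff n2).mpr hn2
    rw [QuotientGroup.mk_mul, QuotientGroup.mk_mul, e1, e2, one_mul, one_mul,
      ← QuotientGroup.mk_mul, ← QuotientGroup.mk_mul]
    rw [Subgroup.mem_center_iff] at hz2
    rw [hz2 z1]
  haveI : IsMulCommutative (K ⧸ N) := ⟨⟨hcomm⟩⟩
  have : Subsingleton (K ⧸ N) := inferInstance
  exact QuotientGroup.subgroup_eq_top_of_subsingleton N this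

/-- A normal subgroup of a quasisimple group is central or everything. -/
theorem qs_normal_le_center_or_eq_top {K : Type*} [Group K] (h : IsQuasisimple K)
    (N : Subgroup K) [hN : N.Normal] : N ≤ Subgroup.center K ∨ N = ⊤ := by
  have := h.2
  have hnorm : (N.map (QuotientGroup.mk' (Subgroup.center K))).Normal :=
    hN.map _ (QuotientGroup.mk'_surjective _)
  rcases hnorm.eq_bot_or_eq_top with h0 | h1
  · left
    intro x hx
    have : QuotientGroup.mk' (Subgroup.center K) x ∈ N.map (QuotientGroup.mk' (Subgroup.center K)) :=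
      Subgroup.mem_map_of_mem _ hx
    rw [h0, Subgroup.mem_bot, QuotientGroup.mk'_apply, QuotientGroup.eq_one_iff] at this
    exact this
  · right
    apply eq_top_of_sup_center_eq_top (qs_perfect h)
    rw [eq_top_iff]
    intro x _
    have hx : QuotientGroup.mk' (Subgroup.center K) x ∈
        N.map (QuotientGroup.mk' (Subgroup.center K)) := by rw [h1]; trivial
    obtain ⟨n, hn, hnx⟩ := hx
    rw [QuotientGroup.mk'_apply, QuotientGroup.mk'_apply, QuotientGroup.eq] at hnx
    have : x = n * (n⁻¹ * x) := by group
    rw [this]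
    exact Subgroup.mul_mem_sup hn hnx

/-- A subnormal subgroup of a quasisimple group is central or everything. -/
theorem qs_subnormal_le_center_or_eq_top {K : Type*} [Group K] (h : IsQuasisimple K)
    (H : Subgroup K) (hH : H.IsSubnormal) : H ≤ Subgroup.center K ∨ H = ⊤ := by
  rcases hH.lt_normal with rfl | ⟨N, hN, hHN, hlt⟩
  · right; rfl
  · left
    rcases qs_normal_le_center_or_eq_top h N with h1 | h1
    · exact hHN.trans h1
    · exact absurd h1 hlt.ne

/-- In a finite perfect group every element has order dividing the index of the centre. -/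
theorem perfect_pow_index_center {K : Type*} [Group K] [Finite K] (hK : commutator K = ⊤)
    (g : K) : g ^ (Subgroup.center K).index = 1 := by
  have hc : ∀ a b : Subgroup.center K, a * b = b * a := by
    intro a b
    apply Subtype.ext
    have := b.2
    rw [Subgroup.mem_center_iff] at this
    exact this a.1
  have := perfect_hom_comm_trivial hK hc (MonoidHom.transferCenterPow K) g
  have h2 := congrArg Subtype.val this
  rwa [MonoidHom.transferCenterPow_apply] at h2

/-- If `p` divides the order of a finite perfect group then `p` divides the index of its centre. -/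
theorem perfect_dvd_index_center {K : Type*} [Group K] [Finite K] (hK : commutator K = ⊤)
    (p : ℕ) [hp : Fact p.Prime] (hpK : p ∣ Nat.card K) : p ∣ (Subgroup.center K).index := by
  obtain ⟨g, hg⟩ := exists_prime_orderOf_dvd_card' p hpK
  rw [← hg]
  exact orderOf_dvd_of_pow_eq_one (perfect_pow_index_center hK g)

/-- A quasisimple group of order divisible by `p` has no proper normal subgroup of index prime to `p`. -/
theorem qs_eq_top_of_index_coprime {K : Type*} [Group K] [Finite K] (h : IsQuasisimple K)
    (p : ℕ) [hp : Fact p.Prime] (hpK : p ∣ Nat.card K) (N : Subgroup K) [N.Normal]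
    (hN : (N.index).Coprime p) : N = ⊤ := by
  rcases qs_normal_le_center_or_eq_top h N with h1 | h1
  · exfalso
    have h2 : (Subgroup.center K).index ∣ N.index := Subgroup.index_dvd_of_le h1
    have h3 := perfect_dvd_index_center (qs_perfect h) p hpK
    have h4 : p ∣ N.index := h3.trans h2
    rw [Nat.coprime_comm, Nat.Prime.coprime_iff_not_dvd hp.out] at hN
    exact hN h4
  · exact h1

/-- Quasisimplicity is invariant under isomorphism. -/
theorem qs_of_mulEquiv {K L : Type*} [Group K] [Group L] (e : K ≃* L) (h : IsQuasisimple K) :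
    IsQuasisimple L := by
  haveI := h.1
  have := h.2
  refine ⟨Group.IsPerfect.ofSurjective (f := e.toMonoidHom) e.surjective, ?_⟩
  have hc : (Subgroup.center K).map e.toMonoidHom = Subgroup.center L := by
    ext y
    constructor
    · rintro ⟨x, hx, rfl⟩
      have hx : x ∈ Subgroup.center K := hx
      rw [Subgroup.mem_center_iff] at hx ⊢
      intro g
      obtain ⟨g', rfl⟩ := e.surjective g
      show e g' * e x = e x * e g'
      rw [← map_mul, ← map_mul, hx g']
    · intro hy
      refine ⟨e.symm y, ?_, by simp⟩
      show e.symm y ∈ Subgroup.center K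
      rw [Subgroup.mem_center_iff] at hy ⊢
      intro g
      apply e.injective
      rw [map_mul, map_mul, e.apply_symm_apply]
      exact hy (e g)
  let f : (K ⧸ Subgroup.center K) ≃* (L ⧸ Subgroup.center L) :=
    QuotientGroup.congr (Subgroup.center K) (Subgroup.center L) e hc
  have hnt : Nontrivial (L ⧸ Subgroup.center L) := f.symm.toEquiv.nontrivial
  exact IsSimpleGroup.isSimpleGroup_of_surjective f.toMonoidHom f.surjective


/-- If `⁅x, k⁆` is central for all `k` and `K` is perfect then `x` is central. -/
theorem mem_center_of_commutator_mem_center {K : Type*} [Group K] (hK : commutator K = ⊤)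
    (x : K) (h : ∀ k : K, ⁅x, k⁆ ∈ Subgroup.center K) : x ∈ Subgroup.center K := by
  let φ : K →* Subgroup.center K :=
    { toFun := fun k => ⟨⁅x, k⁆, h k⟩
      map_one' := by
        apply Subtype.ext
        simp
      map_mul' := by
        intro a b
        apply Subtype.ext
        show ⁅x, a * b⁆ = ⁅x, a⁆ * ⁅x, b⁆
        have hb := h b
        rw [Subgroup.mem_center_iff] at hb
        have e : ⁅x, a * b⁆ = ⁅x, a⁆ * (a * ⁅x, b⁆) * a⁻¹ := by
          simp only [commutatorElement_def]; group
        rw [e, hb a]
        group }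
  have hc : ∀ a b : Subgroup.center K, a * b = b * a := by
    intro a b
    apply Subtype.ext
    have := b.2
    rw [Subgroup.mem_center_iff] at this
    exact this a.1
  rw [Subgroup.mem_center_iff]
  intro k
  have h1 := perfect_hom_comm_trivial hK hc φ k
  have h2 : ⁅x, k⁆ = 1 := congrArg Subtype.val h1
  rw [commutatorElement_eq_one_iff_mul_comm] at h2
  exact h2.symm

/-- For a perfect group `K` and a central normal subgroup `N`, `Z(K / N) = Z(K) / N`. -/
theorem center_quotient_of_perfect {K : Type*} [Group K] (hK : commutator K = ⊤)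
    (N : Subgroup K) [N.Normal] (hN : N ≤ Subgroup.center K) :
    Subgroup.center (K ⧸ N) = (Subgroup.center K).map (QuotientGroup.mk' N) := by
  apply le_antisymm
  · intro y hy
    obtain ⟨x, rfl⟩ := QuotientGroup.mk'_surjective N y
    refine ⟨x, ?_, rfl⟩
    show x ∈ Subgroup.center K
    apply mem_center_of_commutator_mem_center hK
    intro k
    apply hN
    rw [← QuotientGroup.eq_one_iff, ← QuotientGroup.mk'_apply, map_commutatorElement (QuotientGroup.mk' N)]
    rw [Subgroup.mem_center_iff] at hy
    rw [commutatorElement_eq_one_iff_mul_comm]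
    exact (hy _).symm
  · rintro _ ⟨x, hx, rfl⟩
    have hx : x ∈ Subgroup.center K := hx
    rw [Subgroup.mem_center_iff] at hx ⊢
    intro g
    obtain ⟨g', rfl⟩ := QuotientGroup.mk'_surjective N g
    rw [← map_mul, ← map_mul, hx g']

/-- A perfect central extension of a quasisimple group is quasisimple. -/
theorem qs_of_quotient_central {K : Type*} [Group K] (hK : commutator K = ⊤)
    (N : Subgroup K) [N.Normal] (hN : N ≤ Subgroup.center K) (h : IsQuasisimple (K ⧸ N)) :
    IsQuasisimple K := by
  refine ⟨⟨hK⟩, ?_⟩
  have := h.2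
  have hc := center_quotient_of_perfect hK N hN
  let e1 : ((K ⧸ N) ⧸ Subgroup.center (K ⧸ N)) ≃*
      ((K ⧸ N) ⧸ (Subgroup.center K).map (QuotientGroup.mk' N)) :=
    QuotientGroup.quotientMulEquivOfEq hc
  let e2 : ((K ⧸ N) ⧸ (Subgroup.center K).map (QuotientGroup.mk' N)) ≃* (K ⧸ Subgroup.center K) :=
    QuotientGroup.quotientQuotientEquivQuotient N (Subgroup.center K) hN
  let e := e1.trans e2
  have hnt : Nontrivial (K ⧸ Subgroup.center K) := e.symm.toEquiv.nontrivial
  exact IsSimpleGroup.isSimpleGroup_of_surjective e.toMonoidHom e.surjective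

/-- A central quotient of a quasisimple group is quasisimple. -/
theorem qs_quotient_central {K : Type*} [Group K] (h : IsQuasisimple K)
    (N : Subgroup K) [N.Normal] (hN : N ≤ Subgroup.center K) :
    IsQuasisimple (K ⧸ N) := by
  have hK := qs_perfect h
  haveI : Group.IsPerfect K := h.1
  refine ⟨inferInstance, ?_⟩
  have := h.2
  have hc := center_quotient_of_perfect hK N hN
  let e1 : ((K ⧸ N) ⧸ Subgroup.center (K ⧸ N)) ≃*
      ((K ⧸ N) ⧸ (Subgroup.center K).map (QuotientGroup.mk' N)) :=
    QuotientGroup.quotientMulEquivOfEq hc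
  let e2 : ((K ⧸ N) ⧸ (Subgroup.center K).map (QuotientGroup.mk' N)) ≃* (K ⧸ Subgroup.center K) :=
    QuotientGroup.quotientQuotientEquivQuotient N (Subgroup.center K) hN
  let e := e1.trans e2
  have hnt : Nontrivial ((K ⧸ N) ⧸ Subgroup.center (K ⧸ N)) := e.toEquiv.nontrivial
  exact IsSimpleGroup.isSimpleGroup_of_surjective e.symm.toMonoidHom e.symm.surjective

end Cfsg.Agent.Lib.Helper29
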