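import Mathlib
import Cfsg.Prelude.Def_Local
import Cfsg.Agent.Lib.Helper29.PCore
import Cfsg.Agent.Lib.Helper29.Quasisimple

set_option autoImplicit false

namespace Cfsg.Agent.Lib.Helper29

open Cfsg

theorem commutator_self_le {G : Type*} [Group G] (H : Subgroup G) : ⁅H, H⁆ ≤ H := by
  rw [Subgroup.commutator_le]
  intro a ha b hb
  rw [commutatorElement_def]
  exact H.mul_mem (H.mul_mem (H.mul_mem ha hb) (H.inv_mem ha)) (H.inv_mem hb)

theorem commutator_self_subnormal {G : Type*} [Group G] (H : Subgroup G) (hH : H.IsSubnormal) :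
    (⁅H, H⁆).IsSubnormal := by
  have h1 : (commutator H).map H.subtype = ⁅H, H⁆ := by
    rw [commutator_def, Subgroup.map_commutator, ← MonoidHom.range_eq_map, Subgroup.range_subtype]
  rw [← h1]
  exact (Subgroup.Normal.isSubnormal inferInstance).trans' hH

/-- A component of a finite group with trivial `p'`-core has order divisible by `p`. -/
theorem component_dvd_card {Q : Type*} [Group Q] [Finite Q] (p : ℕ) [hp : Fact p.Prime]
    (hQ : pPrimeCore p Q = ⊥) (L : Subgroup Q) (hL : IsComponent L) : p ∣ Nat.card L := by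
  by_contra hnd
  have hcop : (Nat.card L).Coprime p := by
    rw [Nat.coprime_comm, Nat.Prime.coprime_iff_not_dvd hp.out]; exact hnd
  have hle := subnormal_le_pPrimeCore p L hL.1 hcop
  rw [hQ] at hle
  have hnt := qs_nontrivial hL.2
  have : L = ⊥ := le_bot_iff.mp hle
  rw [this] at hnt
  exact not_subsingleton _ (inferInstance : Subsingleton (⊥ : Subgroup Q))

section

variable {X : Type*} [Group X] [Finite X] (p : ℕ) [hp : Fact p.Prime] (K : Subgroup X)

theorem pcomp_image_dvd (hK : IsPComponent p K) :
    p ∣ Nat.card (K.map (QuotientGroup.mk' (pPrimeCore p X))) :=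
  component_dvd_card p (pPrimeCore_quotient_eq_bot p) _ hK.2.1

theorem pcomp_dvd_card (hK : IsPComponent p K) : p ∣ Nat.card K :=
  (pcomp_image_dvd p K hK).trans (Subgroup.card_map_dvd _ _)

theorem pcomp_perfect (hK : IsPComponent p K) : ⁅K, K⁆ = K := by
  apply hK.2.2 _ (commutator_self_subnormal K hK.1) (commutator_self_le K)
  rw [Subgroup.map_commutator]
  haveI := hK.2.1.2.1
  exact Subgroup.isPerfect_iff.mp inferInstance

theorem mem_pPrimeCore_of_map_eq_bot (H : Subgroup X)
    (h : H.map (QuotientGroup.mk' (pPrimeCore p X)) = ⊥) : H ≤ pPrimeCore p X := by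
  intro x hx
  have : QuotientGroup.mk' (pPrimeCore p X) x ∈ H.map (QuotientGroup.mk' (pPrimeCore p X)) :=
    Subgroup.mem_map_of_mem _ hx
  rw [h, Subgroup.mem_bot, QuotientGroup.mk'_apply, QuotientGroup.eq_one_iff] at this
  exact this

theorem pcomp_min (hK : IsPComponent p K) (H : Subgroup X) (hHK : H ≤ K) (hH : H.IsSubnormal)
    (hperf : ⁅H, H⁆ = H) (hpH : p ∣ Nat.card H) : H = K := by
  set π := QuotientGroup.mk' (pPrimeCore p X) with hπ
  have hle : H.map π ≤ K.map π := Subgroup.map_mono hHK
  have hsub : ((H.map π).subgroupOf (K.map π)).IsSubnormal :=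
    (hH.map (QuotientGroup.mk'_surjective _)).subgroupOf
  rcases qs_subnormal_le_center_or_eq_top hK.2.1.2 _ hsub with h1 | h1
  · exfalso
    have hcomm : ⁅H.map π, H.map π⁆ = ⊥ := by
      rw [Subgroup.commutator_eq_bot_iff_le_centralizer]
      intro a ha
      rw [Subgroup.mem_centralizer_iff]
      intro b hb
      have ha' : (⟨a, hle ha⟩ : K.map π) ∈ (H.map π).subgroupOf (K.map π) := ha
      have hc := h1 ha'
      rw [Subgroup.mem_center_iff] at hc
      have := hc ⟨b, hle hb⟩
      exact congrArg Subtype.val this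
    rw [← Subgroup.map_commutator, hperf] at hcomm
    have hHO := mem_pPrimeCore_of_map_eq_bot p H hcomm
    have := coprime_card_of_le_pPrimeCore p H hHO
    rw [Nat.coprime_comm, Nat.Prime.coprime_iff_not_dvd hp.out] at this
    exact this hpH
  · rw [Subgroup.subgroupOf_eq_top] at h1
    exact hK.2.2 H hH hHK (le_antisymm hle h1)

/-- A `p`-component has no proper normal subgroup of index prime to `p`. -/
theorem pcomp_eq_top_of_index_coprime (hK : IsPComponent p K) (N : Subgroup K) [hN : N.Normal]
    (hidx : (N.index).Coprime p) : N = ⊤ := by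
  set π := QuotientGroup.mk' (pPrimeCore p X) with hπ
  set f : K →* K.map π := π.subgroupMap K with hf
  have hfs : Function.Surjective f := π.subgroupMap_surjective K
  have hnorm : (N.map f).Normal := hN.map f hfs
  have hidx' : ((N.map f).index).Coprime p :=
    Nat.Coprime.coprime_dvd_left (Subgroup.index_map_dvd N hfs) hidx
  have htop : N.map f = ⊤ :=
    qs_eq_top_of_index_coprime hK.2.1.2 p (pcomp_image_dvd p K hK) (N.map f) hidx'
  have hsub : (N.map K.subtype).IsSubnormal :=
    (Subgroup.Normal.isSubnormal hN).trans' hK.1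
  have hle : N.map K.subtype ≤ K := Subgroup.map_subtype_le N
  have himg : (N.map K.subtype).map π = K.map π := by
    apply le_antisymm (Subgroup.map_mono hle)
    rintro y hy
    have : (⟨y, hy⟩ : K.map π) ∈ N.map f := by rw [htop]; trivial
    obtain ⟨n, hn, hny⟩ := this
    refine ⟨n.1, ⟨n, hn, rfl⟩, ?_⟩
    exact congrArg Subtype.val hny
  have := hK.2.2 _ hsub hle himg
  rw [eq_top_iff]
  intro x _
  have hx : (x : X) ∈ N.map K.subtype := by rw [this]; exact x.2
  obtain ⟨n, hn, hnx⟩ := hx
  have : n = x := Subtype.ext hnx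
  rwa [← this]

end

end Cfsg.Agent.Lib.Helper29

namespace Cfsg.Agent.Lib.Helper29

open Cfsg

section

variable {X : Type*} [Group X] [Finite X] (p : ℕ) [hp : Fact p.Prime] (K : Subgroup X)

theorem ker_subgroupMap_mk' (hK : K.IsSubnormal) :
    ((QuotientGroup.mk' (pPrimeCore p X)).subgroupMap K).ker = pPrimeCore p K := by
  rw [pPrimeCore_eq_subgroupOf_of_subnormal p K hK]
  ext x
  rw [MonoidHom.mem_ker, Subgroup.mem_subgroupOf]
  constructor
  · intro h
    have := congrArg Subtype.val h
    simp only [MonoidHom.subgroupMap_apply_coe, Subgroup.coe_one] at this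
    rwa [QuotientGroup.mk'_apply, QuotientGroup.eq_one_iff] at this
  · intro h
    apply Subtype.ext
    simp only [MonoidHom.subgroupMap_apply_coe, Subgroup.coe_one]
    rwa [QuotientGroup.mk'_apply, QuotientGroup.eq_one_iff]

/-- For `K` subnormal, `K / O_{p'}(K)` is isomorphic to the image of `K` in `X / O_{p'}(X)`. -/
noncomputable def quotientCoreEquivMap (hK : K.IsSubnormal) :
    (K ⧸ pPrimeCore p K) ≃* K.map (QuotientGroup.mk' (pPrimeCore p X)) :=
  (QuotientGroup.quotientMulEquivOfEq (ker_subgroupMap_mk' p K hK).symm).trans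
    (QuotientGroup.quotientKerEquivOfSurjective
      ((QuotientGroup.mk' (pPrimeCore p X)).subgroupMap K)
      ((QuotientGroup.mk' (pPrimeCore p X)).subgroupMap_surjective K))

theorem pcomp_quotient_core_qs (hK : IsPComponent p K) : IsQuasisimple (K ⧸ pPrimeCore p K) :=
  qs_of_mulEquiv (quotientCoreEquivMap p K hK.1).symm hK.2.1.2

end

end Cfsg.Agent.Lib.Helper29
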