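import Mathlib
import Cfsg.Prelude.Def_Local
import Cfsg.Agent.Lib.Helper29.PComponent

set_option autoImplicit false

namespace Cfsg.Agent.Lib.Helper29

open Cfsg

/-- `A` has no proper normal subgroup of index prime to `p`. -/
def NoCoprimeIndexNormal (p : ℕ) (A : Type*) [Group A] : Prop :=
  ∀ N : Subgroup A, N.Normal → (N.index).Coprime p → N = ⊤

theorem noCoprimeIndexNormal_of_mulEquiv {A B : Type*} [Group A] [Group B] (p : ℕ) (e : A ≃* B)
    (h : NoCoprimeIndexNormal p B) : NoCoprimeIndexNormal p A := by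
  intro N hN hidx
  have h1 : (N.comap e.symm.toMonoidHom).Normal := hN.comap _
  have h2 : (N.comap e.symm.toMonoidHom).index = N.index :=
    Subgroup.index_comap_of_surjective N e.symm.surjective
  have h3 := h _ h1 (by rw [h2]; exact hidx)
  rw [eq_top_iff]
  intro x _
  have : e x ∈ N.comap e.symm.toMonoidHom := by rw [h3]; trivial
  rw [Subgroup.mem_comap] at this
  simpa using this

/-- If `K` has no proper normal subgroup of index prime to `p` and `S` is subnormal of index
prime to `p`, then `K ≤ S`. -/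
theorem le_of_subnormal_index_coprime {G : Type*} [Group G] (p : ℕ) (K : Subgroup G)
    (hK : NoCoprimeIndexNormal p K) (S : Subgroup G) (hS : S.IsSubnormal)
    (hidx : (S.index).Coprime p) : K ≤ S := by
  induction hS with
  | top => exact le_top
  | step S T hST hT hN ih =>
    have hKT : K ≤ T :=
      ih (Nat.Coprime.coprime_dvd_left (Subgroup.index_dvd_of_le hST) hidx)
    have hnorm : (S.subgroupOf K).Normal := by
      rw [Subgroup.normal_subgroupOf_iff_le_normalizer_inf]
      rw [Subgroup.normal_subgroupOf_iff_le_normalizer hST] at hN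
      intro k hk
      have h1 := hN (hKT hk)
      have h2 : k ∈ Subgroup.normalizer (K : Set G) := Subgroup.le_normalizer hk
      exact Subgroup.inf_normalizer_le_normalizer_inf ⟨h1, h2⟩
    have hrel : (S.relIndex K).Coprime p := by
      have h1 : (S.subgroupOf T).relIndex (K.subgroupOf T) ∣ (S.subgroupOf T).index :=
        Subgroup.relIndex_dvd_index_of_normal _ _
      rw [Subgroup.relIndex_subgroupOf hKT] at h1
      have h2 : S.relIndex T ∣ S.index := Subgroup.relIndex_dvd_index_of_le hST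
      exact Nat.Coprime.coprime_dvd_left (h1.trans h2) hidx
    have := hK (S.subgroupOf K) hnorm hrel
    rwa [Subgroup.subgroupOf_eq_top] at this


section

variable {X : Type*} [Group X] [Finite X] (p : ℕ) [hp : Fact p.Prime]

theorem pcomp_noCoprimeIndexNormal (K : Subgroup X) (hK : IsPComponent p K) :
    NoCoprimeIndexNormal p K := by
  intro N hN hidx
  haveI := hN
  exact pcomp_eq_top_of_index_coprime p K hK N hidx

omit [Finite X] hp in
theorem le_sup_core_of_map_le (K1 K2 : Subgroup X)
    (h : K1.map (QuotientGroup.mk' (pPrimeCore p X)) ≤ K2.map (QuotientGroup.mk' (pPrimeCore p X))) :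
    K1 ≤ K2 ⊔ pPrimeCore p X := by
  intro x hx
  obtain ⟨k2, hk2, hk2x⟩ := h (Subgroup.mem_map_of_mem _ hx)
  rw [QuotientGroup.mk'_apply, QuotientGroup.mk'_apply, QuotientGroup.eq] at hk2x
  have : x = k2 * (k2⁻¹ * x) := by group
  rw [this]
  exact Subgroup.mul_mem_sup hk2 hk2x

omit hp in
theorem relIndex_sup_core_coprime (S : Subgroup X) :
    (S.relIndex (S ⊔ pPrimeCore p X)).Coprime p := by
  have h1 : Nat.card (S.subgroupOf (S ⊔ pPrimeCore p X)) * S.relIndex (S ⊔ pPrimeCore p X) =
      Nat.card ↥(S ⊔ pPrimeCore p X) := Subgroup.card_mul_index _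
  have h2 : Nat.card (S.subgroupOf (S ⊔ pPrimeCore p X)) = Nat.card S :=
    Nat.card_congr (Subgroup.subgroupOfEquivOfLe (le_sup_left : S ≤ S ⊔ pPrimeCore p X)).toEquiv
  have h3 : Nat.card ↥(pPrimeCore p X ⊔ S) ∣ Nat.card (pPrimeCore p X) * Nat.card S :=
    card_sup_dvd_of_le_normalizer (pPrimeCore p X) S Subgroup.le_normalizer_of_normal
  rw [sup_comm, ← h1, h2, mul_comm (Nat.card (pPrimeCore p X))] at h3
  have h4 : S.relIndex (S ⊔ pPrimeCore p X) ∣ Nat.card (pPrimeCore p X) :=
    Nat.dvd_of_mul_dvd_mul_left Nat.card_pos h3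
  exact Nat.Coprime.coprime_dvd_left h4 (pPrimeCore_coprime p)

/-- A `p`-component lies in every subnormal subgroup whose image contains its image. -/
theorem pcomp_le_of_map_le (K : Subgroup X) (hK : IsPComponent p K) (S : Subgroup X)
    (hS : S.IsSubnormal)
    (h : K.map (QuotientGroup.mk' (pPrimeCore p X)) ≤ S.map (QuotientGroup.mk' (pPrimeCore p X))) :
    K ≤ S := by
  have hKM : K ≤ S ⊔ pPrimeCore p X := le_sup_core_of_map_le p K S h
  have h1 : NoCoprimeIndexNormal p (K.subgroupOf (S ⊔ pPrimeCore p X)) :=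
    noCoprimeIndexNormal_of_mulEquiv p (Subgroup.subgroupOfEquivOfLe hKM)
      (pcomp_noCoprimeIndexNormal p K hK)
  have h2 := le_of_subnormal_index_coprime p (K.subgroupOf (S ⊔ pPrimeCore p X)) h1
    (S.subgroupOf (S ⊔ pPrimeCore p X)) hS.subgroupOf (relIndex_sup_core_coprime p S)
  intro x hx
  exact h2 (show (⟨x, hKM hx⟩ : ↥(S ⊔ pPrimeCore p X)) ∈ K.subgroupOf (S ⊔ pPrimeCore p X) from hx)

/-- A `p`-component is determined by its image modulo the `p'`-core. -/
theorem pcomp_unique (K1 K2 : Subgroup X) (h1 : IsPComponent p K1) (h2 : IsPComponent p K2)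
    (h : K1.map (QuotientGroup.mk' (pPrimeCore p X)) = K2.map (QuotientGroup.mk' (pPrimeCore p X))) :
    K1 = K2 :=
  le_antisymm (pcomp_le_of_map_le p K1 h1 K2 h2.1 h.le) (pcomp_le_of_map_le p K2 h2 K1 h1.1 h.ge)

omit hp in
/-- Every component of `X / O_{p'}(X)` is the image of a `p`-component. -/
theorem exists_pcomp_of_component (Kbar : Subgroup (X ⧸ pPrimeCore p X)) (hKbar : IsComponent Kbar) :
    ∃ K : Subgroup X, IsPComponent p K ∧ K.map (QuotientGroup.mk' (pPrimeCore p X)) = Kbar := by
  set T : Set (Subgroup X) :=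
    {H | H.IsSubnormal ∧ H.map (QuotientGroup.mk' (pPrimeCore p X)) = Kbar} with hT
  have hne : T.Nonempty := ⟨Kbar.comap (QuotientGroup.mk' (pPrimeCore p X)), hKbar.1.comap _,
    Subgroup.map_comap_eq_self_of_surjective (QuotientGroup.mk'_surjective _) _⟩
  obtain ⟨K, hKmin⟩ := (Set.toFinite T).exists_minimal hne
  have hKT : K ∈ T := hKmin.prop
  refine ⟨K, ⟨hKT.1, by rw [hKT.2]; exact hKbar, ?_⟩, hKT.2⟩
  intro H hH hHK himg
  have hHT : H ∈ T := ⟨hH, himg.trans hKT.2⟩
  exact le_antisymm hHK (hKmin.le_of_le hHT hHK)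

/-- The image of the `p`-layer in `X / O_{p'}(X)` is the layer. -/
theorem map_pLayer_eq_layer :
    (pLayer p X).map (QuotientGroup.mk' (pPrimeCore p X)) = layer (X ⧸ pPrimeCore p X) := by
  apply le_antisymm
  · rw [Subgroup.map_le_iff_le_comap]
    apply sSup_le
    intro K hK
    rw [← Subgroup.map_le_iff_le_comap]
    exact le_sSup hK.2.1
  · apply sSup_le
    intro Kbar hKbar
    obtain ⟨K, hK, rfl⟩ := exists_pcomp_of_component p Kbar hKbar
    exact Subgroup.map_mono (le_sSup hK)

end

end Cfsg.Agent.Lib.Helper29
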