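import Mathlib
import Cfsg.Prelude.Def_Local
import Cfsg.Agent.Lib.Helper29.PCompUnique
import Cfsg.Agent.Lib.Helper29.PCore
import Cfsg.Agent.Lib.Helper29.Cores
import Cfsg.Agent.Lib.Helper28.FStarP
import Cfsg.Agent.Lib.Helper28.FStar
import Cfsg.Agent.Lib.Helper28.LocalFStar
import Cfsg.Agent.Lib.Helper30.Layer
import Cfsg.Agent.Lib.Helper15.Lifting

set_option autoImplicit false

namespace Cfsg.Agent.Lib.Helper29

open Cfsg
open Cfsg.Agent.Lib.Helper28 (FStarP)

/-- If `F*(Y)` is a `p`-group, every normal subgroup of order prime to `p` is trivial. -/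
theorem normal_coprime_eq_bot_of_fStarP {Y : Type*} [Group Y] [Finite Y] (p : ℕ) [Fact p.Prime]
    (hY : FStarP p Y) (M : Subgroup Y) [hM : M.Normal] (hc : (Nat.card M).Coprime p) : M = ⊥ := by
  have hFn : (generalizedFittingSubgroup Y).Normal := Cfsg.Agent.Lib.Helper30.genFitting_normal
  have hdisj : M ⊓ generalizedFittingSubgroup Y = ⊥ := by
    rw [inf_comm]
    exact Cfsg.Agent.Lib.Helper15.isPGroup_inf_coprime_eq_bot hY hc
  have hcomm : ⁅M, generalizedFittingSubgroup Y⁆ = ⊥ := by
    rw [eq_bot_iff, ← hdisj]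
    exact Subgroup.commutator_le_inf M _
  have hle : M ≤ Subgroup.centralizer (generalizedFittingSubgroup Y : Set Y) := by
    exact (Subgroup.commutator_eq_bot_iff_le_centralizer).mp hcomm
  have hle2 : M ≤ generalizedFittingSubgroup Y :=
    hle.trans Cfsg.Agent.Lib.Helper28.centralizer_genFitting_le
  rw [eq_bot_iff, ← hdisj]
  exact le_inf le_rfl hle2

/-- `F*(G / O_{p'}(G))` is a `p`-group when the `p`-layer is trivial. -/
theorem fStarP_quotient_of_pLayer_eq_bot {G : Type*} [Group G] [Finite G] (p : ℕ) [Fact p.Prime]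
    (hL : pLayer p G = ⊥) : FStarP p (G ⧸ pPrimeCore p G) := by
  rw [Cfsg.Agent.Lib.Helper28.fStarP_iff]
  refine ⟨?_, ?_⟩
  · intro Kb hKb
    have h1 : Kb ≤ layer (G ⧸ pPrimeCore p G) := le_sSup hKb
    rw [← map_pLayer_eq_layer, hL, Subgroup.map_bot, le_bot_iff] at h1
    have := qs_nontrivial hKb.2
    rw [h1] at this
    exact not_nontrivial _ this
  · intro q hq hqp
    have hq' : Fact q.Prime := ⟨hq⟩
    have hnorm : (pCore q (G ⧸ pPrimeCore p G)).Normal := Cfsg.Agent.Lib.Helper81.pCore_normal q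
    have hqg : IsPGroup q ↥(pCore q (G ⧸ pPrimeCore p G)) :=
      Cfsg.Agent.Lib.Helper28.pCore_isPGroup q
    have hc : (Nat.card ↥(pCore q (G ⧸ pPrimeCore p G))).Coprime p := by
      obtain ⟨n, hn⟩ := IsPGroup.iff_card.mp hqg
      rw [hn]
      apply Nat.Coprime.pow_left
      rw [Nat.coprime_primes hq (Fact.out : p.Prime)]
      exact hqp
    have := normal_le_pPrimeCore p _ hc
    rwa [pPrimeCore_quotient_eq_bot, le_bot_iff] at this

/-- A surjection with `p'`-kernel onto a group whose `F*` is a `p`-group: the source has trivial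
`p`-layer and its `p'`-core is the kernel. -/
theorem pLayer_eq_bot_of_surjective_fStarP {X Y : Type*} [Group X] [Group Y] [Finite X]
    (p : ℕ) [Fact p.Prime] (f : X →* Y) (hf : Function.Surjective f)
    (hker : (Nat.card f.ker).Coprime p) (hY : FStarP p Y) :
    pLayer p X = ⊥ ∧ pPrimeCore p X = f.ker := by
  have hfinY : Finite Y := Finite.of_surjective f hf
  have hcore : pPrimeCore p X = f.ker := by
    apply le_antisymm
    · have hn : ((pPrimeCore p X).map f).Normal :=
        Subgroup.Normal.map inferInstance f hf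
      have hc : (Nat.card ↥((pPrimeCore p X).map f)).Coprime p :=
        Nat.Coprime.coprime_dvd_left (Subgroup.card_map_dvd _ _) (pPrimeCore_coprime p)
      have hbot := normal_coprime_eq_bot_of_fStarP p hY _ hc
      intro x hx
      rw [MonoidHom.mem_ker]
      have : f x ∈ (pPrimeCore p X).map f := Subgroup.mem_map_of_mem _ hx
      rw [hbot, Subgroup.mem_bot] at this
      exact this
    · exact normal_le_pPrimeCore p _ hker
  refine ⟨?_, hcore⟩
  unfold pLayer
  rw [sSup_eq_bot]
  intro K₀ hK₀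
  exfalso
  have hcomp := hK₀.2.1
  let e : X ⧸ pPrimeCore p X ≃* Y :=
    (QuotientGroup.quotientMulEquivOfEq hcore).trans (QuotientGroup.quotientKerEquivOfSurjective f hf)
  have h2 := Cfsg.Agent.Lib.Helper30.isComponent_map_equiv e hcomp
  exact ((Cfsg.Agent.Lib.Helper28.fStarP_iff p).mp hY).1 _ h2

/-- Local subgroups of a group with trivial `p`-layer. -/
theorem pLayer_normalizer_eq_bot {G : Type*} [Group G] [Finite G] (p : ℕ) [Fact p.Prime]
    (hL : pLayer p G = ⊥) (P : Subgroup G) (hP : IsPGroup p ↥P) :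
    pLayer p ↥(Subgroup.normalizer (P : Set G)) = ⊥ ∧
      (pPrimeCore p ↥(Subgroup.normalizer (P : Set G))).map
        (Subgroup.normalizer (P : Set G)).subtype ≤ pPrimeCore p G := by
  have h1 := fStarP_quotient_of_pLayer_eq_bot p hL
  have h2 := Cfsg.Agent.Lib.Helper28.fStarP_normalizer p h1
    (P.map (QuotientGroup.mk' (pPrimeCore p G))) (hP.map _)
  rw [Cfsg.Agent.Lib.Helper15.normalizer_map_mk_of_coprime (pPrimeCore p G)
    (pPrimeCore_coprime p) P hP] at h2
  set N := Subgroup.normalizer (P : Set G) with hN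
  set f := (QuotientGroup.mk' (pPrimeCore p G)).subgroupMap N with hf
  have hsurj : Function.Surjective f := MonoidHom.subgroupMap_surjective _ _
  have hkerle : f.ker.map N.subtype ≤ pPrimeCore p G := by
    rintro _ ⟨x, hx, rfl⟩
    have hx : f x = 1 := hx
    have h3 : ((f x : G ⧸ pPrimeCore p G)) = 1 := by rw [hx]; rfl
    have h4 : (QuotientGroup.mk' (pPrimeCore p G)) (x : G) = 1 := h3
    exact (QuotientGroup.eq_one_iff _).mp h4
  have hker : (Nat.card f.ker).Coprime p := by
    have := coprime_card_of_le_pPrimeCore p _ hkerle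
    rwa [Subgroup.card_map_of_injective N.subtype_injective] at this
  obtain ⟨h5, h6⟩ := pLayer_eq_bot_of_surjective_fStarP p f hsurj hker h2
  refine ⟨h5, ?_⟩
  rw [h6]
  exact hkerle

end Cfsg.Agent.Lib.Helper29
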