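import Mathlib
import Cfsg.Prelude.Def_Local
import Cfsg.Agent.Lib.Helper29.PCompUnique
import Cfsg.Agent.Lib.Helper30.Layer

set_option autoImplicit false

namespace Cfsg.Agent.Lib.Helper29

open Cfsg

theorem map_conj_map_conj_inv {G : Type*} [Group G] (H : Subgroup G) (g : G) :
    (H.map (MulAut.conj g⁻¹).toMonoidHom).map (MulAut.conj g).toMonoidHom = H := by
  rw [Subgroup.map_map]
  have : (MulAut.conj g).toMonoidHom.comp (MulAut.conj g⁻¹).toMonoidHom = MonoidHom.id G := by
    ext x
    simp only [MonoidHom.coe_comp, MulEquiv.coe_toMonoidHom, Function.comp_apply,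
      MulAut.conj_apply, MonoidHom.id_apply]
    group
  rw [this, Subgroup.map_id]

theorem map_conj_inv_map_conj {G : Type*} [Group G] (H : Subgroup G) (g : G) :
    (H.map (MulAut.conj g).toMonoidHom).map (MulAut.conj g⁻¹).toMonoidHom = H := by
  have := map_conj_map_conj_inv H g⁻¹
  rwa [inv_inv] at this

theorem map_conj_map_hom {G Q : Type*} [Group G] [Group Q] (f : G →* Q) (H : Subgroup G) (g : G) :
    (H.map (MulAut.conj g).toMonoidHom).map f = (H.map f).map (MulAut.conj (f g)).toMonoidHom := by
  rw [Subgroup.map_map, Subgroup.map_map]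
  congr 1
  ext x
  simp

theorem mem_normalizer_of_map_conj_eq {G : Type*} [Group G] (H : Subgroup G) (g : G)
    (h : H.map (MulAut.conj g).toMonoidHom = H) : g ∈ Subgroup.normalizer (H : Set G) := by
  rw [Subgroup.mem_normalizer_iff]
  intro x
  constructor
  · intro hx
    rw [← h]
    exact ⟨x, hx, by simp⟩
  · intro hx
    rw [← h] at hx
    obtain ⟨y, hy, hyx⟩ := hx
    have : y = x := by
      have h1 : g * y * g⁻¹ = g * x * g⁻¹ := by simpa using hyx
      have h2 : g * y = g * x := mul_right_cancel h1
      exact mul_left_cancel h2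
    rwa [← this]

theorem map_conj_eq_of_mem_normalizer {G : Type*} [Group G] (H : Subgroup G) (g : G)
    (h : g ∈ Subgroup.normalizer (H : Set G)) : H.map (MulAut.conj g).toMonoidHom = H := by
  rw [Subgroup.mem_normalizer_iff] at h
  ext x
  constructor
  · rintro ⟨y, hy, rfl⟩
    have := (h y).mp hy
    simpa using this
  · intro hx
    refine ⟨g⁻¹ * x * g, ?_, by simp [mul_assoc]⟩
    have e : x = g * (g⁻¹ * x * g) * g⁻¹ := by group
    rw [e] at hx
    exact (h _).mpr hx

section

variable {X : Type*} [Group X] [Finite X] (p : ℕ) [hp : Fact p.Prime]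

omit [Finite X] hp in
/-- Conjugates of `p`-components are `p`-components. -/
theorem isPComponent_conj (K : Subgroup X) (hK : IsPComponent p K) (g : X) :
    IsPComponent p (K.map (MulAut.conj g).toMonoidHom) := by
  refine ⟨hK.1.map (MulAut.conj g).surjective, ?_, ?_⟩
  · rw [map_conj_map_hom]
    exact Cfsg.Agent.Lib.Helper30.isComponent_conj _ hK.2.1
  · intro H hH hHle himg
    have h1 : (H.map (MulAut.conj g⁻¹).toMonoidHom).IsSubnormal :=
      hH.map (MulAut.conj g⁻¹).surjective
    have h2 : H.map (MulAut.conj g⁻¹).toMonoidHom ≤ K := by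
      have := Subgroup.map_mono (f := (MulAut.conj g⁻¹).toMonoidHom) hHle
      rwa [map_conj_inv_map_conj] at this
    have h3 : (H.map (MulAut.conj g⁻¹).toMonoidHom).map (QuotientGroup.mk' (pPrimeCore p X)) =
        K.map (QuotientGroup.mk' (pPrimeCore p X)) := by
      rw [map_conj_map_hom, himg, ← map_conj_map_hom, map_conj_inv_map_conj]
    have h4 := hK.2.2 _ h1 h2 h3
    rw [← h4, map_conj_map_conj_inv]

/-- `p`-components normalize each other. -/
theorem pcomp_le_normalizer (K L : Subgroup X) (hK : IsPComponent p K) (hL : IsPComponent p L) :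
    L ≤ Subgroup.normalizer (K : Set X) := by
  intro l hl
  apply mem_normalizer_of_map_conj_eq
  apply pcomp_unique p _ _ (isPComponent_conj p K hK l) hK
  rw [map_conj_map_hom]
  apply map_conj_eq_of_mem_normalizer
  have hl' : QuotientGroup.mk' (pPrimeCore p X) l ∈ L.map (QuotientGroup.mk' (pPrimeCore p X)) :=
    Subgroup.mem_map_of_mem _ hl
  by_cases heq : L.map (QuotientGroup.mk' (pPrimeCore p X)) =
      K.map (QuotientGroup.mk' (pPrimeCore p X))
  · rw [heq] at hl'
    exact Subgroup.le_normalizer hl'
  · have hc := Cfsg.Agent.Lib.Helper30.component_commute hL.2.1 hK.2.1 heq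
    rw [Subgroup.commutator_eq_bot_iff_le_centralizer] at hc
    exact Subgroup.centralizer_le_normalizer _ (hc hl')

/-- A `p`-component is normal in the `p`-layer. -/
theorem pcomp_normal_in_pLayer (K : Subgroup X) (hK : IsPComponent p K) :
    (K.subgroupOf (pLayer p X)).Normal := by
  have hle : K ≤ pLayer p X := le_sSup hK
  rw [Subgroup.normal_subgroupOf_iff_le_normalizer hle]
  exact sSup_le fun L hL => pcomp_le_normalizer p K L hK hL

end

end Cfsg.Agent.Lib.Helper29
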