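import Mathlib
import Cfsg.Prelude.Def_Balance
import Cfsg.Agent.Lib.Helper29.PCompNormal

set_option autoImplicit false

namespace Cfsg.Agent.Lib.Helper29

open Cfsg

section

variable {G : Type*} [Group G]

theorem le_normalizer_of_conj_mem (A U : Subgroup G) (h : ∀ b ∈ A, ∀ u ∈ U, b * u * b⁻¹ ∈ U) :
    A ≤ Subgroup.normalizer (U : Set G) := by
  intro b hb
  rw [Subgroup.mem_normalizer_iff]
  intro u
  constructor
  · exact h b hb u
  · intro hu
    have := h b⁻¹ (A.inv_mem hb) _ hu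
    have e : b⁻¹ * (b * u * b⁻¹) * b⁻¹⁻¹ = u := by group
    rwa [e] at this

theorem conj_mem_of_le_normalizer (A U : Subgroup G) (h : A ≤ Subgroup.normalizer (U : Set G)) :
    ∀ b ∈ A, ∀ u ∈ U, b * u * b⁻¹ ∈ U :=
  fun b hb u hu => (Subgroup.mem_normalizer_iff.mp (h hb) u).mp hu

theorem mem_centralizer_singleton_iff' (a u : G) :
    u ∈ Subgroup.centralizer ({a} : Set G) ↔ a * u * a⁻¹ = u := by
  rw [Subgroup.mem_centralizer_iff]
  constructor
  · intro h
    rw [h a rfl]; group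
  · intro h b hb
    rw [Set.mem_singleton_iff] at hb
    subst hb
    calc b * u = (b * u * b⁻¹) * b := by group
      _ = u * b := by rw [h]

theorem mem_map_conj_iff (c x : G) (U : Subgroup G) :
    x ∈ U.map (MulAut.conj c).toMonoidHom ↔ c⁻¹ * x * c ∈ U := by
  constructor
  · rintro ⟨u, hu, rfl⟩
    have : c⁻¹ * ((MulAut.conj c).toMonoidHom u) * c = u := by
      simp [mul_assoc]
    rwa [this]
  · intro h
    exact ⟨c⁻¹ * x * c, h, by simp [mul_assoc]⟩

variable (p : ℕ) (A : Subgroup G) (θ : G → Subgroup G)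

theorem family_mono (U V : Subgroup G) (hU : U ∈ signalizerFamily p A θ) (hVU : V ≤ U)
    (hVA : ∀ b ∈ A, ∀ v ∈ V, b * v * b⁻¹ ∈ V) : V ∈ signalizerFamily p A θ := by
  obtain ⟨hs, hp', -, hθ⟩ := hU
  refine ⟨?_, ?_, hVA, ?_⟩
  · haveI := hs
    exact Group.isSolvable_of_isSolvable_injective (Subgroup.inclusion_injective hVU)
  · intro h
    exact hp' (h.trans (Subgroup.card_dvd_of_le hVU))
  · intro a ha ha1
    exact (inf_le_inf_right _ hVU).trans (hθ a ha ha1)

theorem theta_mem_family (hθ : IsSolvableSignalizerFunctor p A θ) (a : G) (ha : a ∈ A) (ha1 : a ≠ 1) :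
    θ a ∈ signalizerFamily p A θ := by
  obtain ⟨⟨-, h2, h3, h4⟩, h5⟩ := hθ
  exact ⟨h5 a ha ha1, h2 a ha ha1, h3 a ha ha1, fun b hb hb1 => h4 a ha ha1 b hb hb1⟩

theorem signalizerInf_le (a : G) (ha : a ∈ A) (ha1 : a ≠ 1) : signalizerInf A θ ≤ θ a :=
  iInf_le (fun a : {a : G // a ∈ A ∧ a ≠ 1} => θ (a : G)) ⟨a, ha, ha1⟩

theorem signalizerInf_le_centralizer (hθ : IsSignalizerFunctor p A θ) :
    signalizerInf A θ ≤ Subgroup.centralizer (A : Set G) := by
  intro c hc
  rw [Subgroup.mem_centralizer_iff]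
  intro b hb
  by_cases hb1 : b = 1
  · rw [hb1]; simp
  · have h1 : c ∈ θ b := signalizerInf_le A θ b hb hb1 hc
    have h2 := hθ.1 b hb hb1 h1
    rw [Subgroup.mem_centralizer_iff] at h2
    exact h2 b rfl

theorem mem_signalizerInf_of_mem_family (U : Subgroup G) (hU : U ∈ signalizerFamily p A θ) (x : G)
    (hxU : x ∈ U) (hx : x ∈ Subgroup.centralizer (A : Set G)) : x ∈ signalizerInf A θ := by
  unfold signalizerInf
  rw [Subgroup.mem_iInf]
  rintro ⟨a, ha, ha1⟩
  apply hU.2.2.2 a ha ha1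
  refine ⟨hxU, ?_⟩
  show x ∈ Subgroup.centralizer ({a} : Set G)
  rw [Subgroup.mem_centralizer_iff] at hx ⊢
  intro b hb
  rw [Set.mem_singleton_iff] at hb
  subst hb
  exact hx b ha

/-- Conjugation by an element of `θ(C_G(A))` preserves the family. -/
theorem family_conj (hθ : IsSignalizerFunctor p A θ) (U : Subgroup G)
    (hU : U ∈ signalizerFamily p A θ) (c : G) (hc : c ∈ signalizerInf A θ) :
    U.map (MulAut.conj c).toMonoidHom ∈ signalizerFamily p A θ := by
  obtain ⟨hs, hp', hA, hθU⟩ := hU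
  have hcA := signalizerInf_le_centralizer p A θ hθ hc
  rw [Subgroup.mem_centralizer_iff] at hcA
  refine ⟨?_, ?_, ?_, ?_⟩
  · haveI := hs
    exact Group.isSolvable_of_surjective
      (f := (MulAut.conj c).toMonoidHom.subgroupMap U) ((MulAut.conj c).toMonoidHom.subgroupMap_surjective U)
  · rw [Subgroup.card_map_of_injective (MulAut.conj c).injective]
    exact hp'
  · intro b hb x hx
    rw [mem_map_conj_iff] at hx ⊢
    have e : c⁻¹ * (b * x * b⁻¹) * c = b * (c⁻¹ * x * c) * b⁻¹ := by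
      have h1 : b * c = c * b := hcA b hb
      have h2 : c⁻¹ * b = b * c⁻¹ := by
        calc c⁻¹ * b = c⁻¹ * (b * c) * c⁻¹ := by group
          _ = c⁻¹ * (c * b) * c⁻¹ := by rw [h1]
          _ = b * c⁻¹ := by group
      have h3 : b⁻¹ * c = c * b⁻¹ := by
        calc b⁻¹ * c = b⁻¹ * (c * b) * b⁻¹ := by group
          _ = b⁻¹ * (b * c) * b⁻¹ := by rw [h1]
          _ = c * b⁻¹ := by group
      calc c⁻¹ * (b * x * b⁻¹) * c = (c⁻¹ * b) * x * (b⁻¹ * c) := by group
        _ = (b * c⁻¹) * x * (c * b⁻¹) := by rw [h2, h3]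
        _ = b * (c⁻¹ * x * c) * b⁻¹ := by group
    rw [e]
    exact hA b hb _ hx
  · intro a ha ha1 x hx
    obtain ⟨hx1, hx2⟩ := hx
    have hx1 : x ∈ U.map (MulAut.conj c).toMonoidHom := hx1
    have hx2 : x ∈ Subgroup.centralizer ({a} : Set G) := hx2
    rw [mem_map_conj_iff] at hx1
    have hca : c ∈ θ a := signalizerInf_le A θ a ha ha1 hc
    have h1 : a * c = c * a := hcA a ha
    have hx2' : a * x * a⁻¹ = x := (mem_centralizer_singleton_iff' a x).mp hx2
    have h2 : c⁻¹ * x * c ∈ θ a := by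
      apply hθU a ha ha1
      refine ⟨hx1, ?_⟩
      show c⁻¹ * x * c ∈ Subgroup.centralizer ({a} : Set G)
      rw [mem_centralizer_singleton_iff']
      have h3 : c⁻¹ * a = a * c⁻¹ := by
        calc c⁻¹ * a = c⁻¹ * (a * c) * c⁻¹ := by group
          _ = c⁻¹ * (c * a) * c⁻¹ := by rw [h1]
          _ = a * c⁻¹ := by group
      have h4 : a⁻¹ * c = c * a⁻¹ := by
        calc a⁻¹ * c = a⁻¹ * (c * a) * a⁻¹ := by group
          _ = a⁻¹ * (a * c) * a⁻¹ := by rw [h1]
          _ = c * a⁻¹ := by group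
      calc a * (c⁻¹ * x * c) * a⁻¹ = (a * c⁻¹) * x * (c * a⁻¹) := by group
        _ = (c⁻¹ * a) * x * (a⁻¹ * c) := by rw [h3, h4]
        _ = c⁻¹ * (a * x * a⁻¹) * c := by group
        _ = c⁻¹ * x * c := by rw [hx2']
    have e : x = c * (c⁻¹ * x * c) * c⁻¹ := by group
    rw [e]
    exact (θ a).mul_mem ((θ a).mul_mem hca h2) ((θ a).inv_mem hca)

end

end Cfsg.Agent.Lib.Helper29
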