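import Mathlib
import Cfsg.Prelude.Def_Balance
import Cfsg.Agent.Lib.Helper29.SigFamily
import Cfsg.Agent.Lib.Helper01.CoprimeSylow2
import Cfsg.Agent.S1280
import Cfsg.Agent.S1282

set_option autoImplicit false

namespace Cfsg.Agent.Lib.Helper29

open Cfsg
open scoped Pointwise

section

variable {G : Type*} [Group G]

theorem map_conj_mul (U : Subgroup G) (x y : G) :
    U.map (MulAut.conj (x * y)).toMonoidHom =
      (U.map (MulAut.conj y).toMonoidHom).map (MulAut.conj x).toMonoidHom := by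
  ext z
  rw [mem_map_conj_iff, mem_map_conj_iff, mem_map_conj_iff]
  have e : (x * y)⁻¹ * z * (x * y) = y⁻¹ * (x⁻¹ * z * x) * y := by group
  rw [e]

theorem map_conj_one (U : Subgroup G) : U.map (MulAut.conj (1 : G)).toMonoidHom = U := by
  ext z
  rw [mem_map_conj_iff]
  simp

theorem card_lt_card_of_lt [Finite G] {H K : Subgroup G} (hle : H ≤ K) (hne : H ≠ K) :
    Nat.card H < Nat.card K := by
  by_contra h
  exact hne (Subgroup.eq_of_le_of_card_ge hle (not_lt.mp h))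

variable (p : ℕ) (A : Subgroup G) (θ : G → Subgroup G) (q : ℕ)

/-- `Q` is maximal among the `q`-subgroups in the family of `θ`. -/
def IsMaxQ (Q : Subgroup G) : Prop :=
  Q ∈ signalizerFamily p A θ ∧ IsPGroup q Q ∧
    ∀ R ∈ signalizerFamily p A θ, IsPGroup q R → Q ≤ R → R = Q

theorem exists_isMaxQ_ge [Finite G] (S : Subgroup G) (hS : S ∈ signalizerFamily p A θ)
    (hSq : IsPGroup q S) : ∃ Q, IsMaxQ p A θ q Q ∧ S ≤ Q := by
  obtain ⟨Q, hSQ, hQmax⟩ := (Set.toFinite {R : Subgroup G | R ∈ signalizerFamily p A θ ∧ IsPGroup q R}).exists_le_maximal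
    (a := S) ⟨hS, hSq⟩
  refine ⟨Q, ⟨hQmax.prop.1, hQmax.prop.2, ?_⟩, hSQ⟩
  intro R hR hRq hQR
  exact le_antisymm (hQmax.le_of_ge ⟨hR, hRq⟩ hQR) hQR

theorem isMaxQ_conj (hθ : IsSignalizerFunctor p A θ) (Q : Subgroup G) (hQ : IsMaxQ p A θ q Q)
    (c : G) (hc : c ∈ signalizerInf A θ) : IsMaxQ p A θ q (Q.map (MulAut.conj c).toMonoidHom) := by
  refine ⟨family_conj p A θ hθ Q hQ.1 c hc, hQ.2.1.map _, ?_⟩
  intro R hR hRq hQR
  have hc' : c⁻¹ ∈ signalizerInf A θ := Subgroup.inv_mem _ hc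
  have h1 : Q ≤ R.map (MulAut.conj c⁻¹).toMonoidHom := by
    have := Subgroup.map_mono (f := (MulAut.conj c⁻¹).toMonoidHom) hQR
    rwa [map_conj_inv_map_conj] at this
  have h2 := hQ.2.2 _ (family_conj p A θ hθ R hR c⁻¹ hc') (hRq.map _) h1
  rw [← h2, map_conj_map_conj_inv]


variable [Finite G] [hp : Fact p.Prime] [hq : Fact q.Prime]

theorem elemAb_comm (hA : IsElementaryAbelian p A) : ∀ a ∈ A, ∀ b ∈ A, a * b = b * a := by
  intro a ha b hb
  have := hA.1.is_comm.comm (⟨a, ha⟩ : A) ⟨b, hb⟩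
  exact congrArg Subtype.val this

theorem elemAb_le_normalizer_centralizer (hA : IsElementaryAbelian p A) (a : G) (ha : a ∈ A) :
    A ≤ Subgroup.normalizer ((Subgroup.centralizer ({a} : Set G) : Subgroup G) : Set G) := by
  intro b hb
  apply Subgroup.le_normalizer
  rw [Subgroup.mem_centralizer_iff]
  intro y hy
  rw [Set.mem_singleton_iff] at hy
  subst hy
  exact elemAb_comm p A hA y ha b hb

theorem elemAb_isPGroup (hA : IsElementaryAbelian p A) : IsPGroup p A := by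
  rintro ⟨g, hg⟩
  refine ⟨1, Subtype.ext ?_⟩
  show g ^ (p ^ 1) = 1
  rw [pow_one]
  exact hA.2 g hg

theorem elemAb_coprime (hA : IsElementaryAbelian p A) (M : Subgroup G) (hM : ¬ p ∣ Nat.card M) :
    (Nat.card A).Coprime (Nat.card M) := by
  obtain ⟨n, hn⟩ := IsPGroup.iff_card.mp (elemAb_isPGroup p A hA)
  rw [hn]
  apply Nat.Coprime.pow_left
  rw [Nat.Prime.coprime_iff_not_dvd hp.out]
  exact hM

theorem elemAb_isSolvable (hA : IsElementaryAbelian p A) : Group.IsSolvable A :=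
  Group.isSolvable_of_comm (fun a b => Subtype.ext (elemAb_comm p A hA a.1 a.2 b.1 b.2))

/-- Key step: an invariant Sylow `q`-subgroup of `M = D (θ a ∩ N(D))` containing
`D (N_Q(D) ∩ C(a))`. -/
theorem exists_sylow_step (hA : IsElementaryAbelian p A) (a : G) (ha : a ∈ A) (ha1 : a ≠ 1)
    (D M Q : Subgroup G) (hAD : A ≤ Subgroup.normalizer (D : Set G))
    (hMfam : M ∈ signalizerFamily p A θ) (hDM : D ≤ M)
    (hLM : θ a ⊓ Subgroup.normalizer (D : Set G) ≤ M)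
    (hQ : IsMaxQ p A θ q Q) (hDQ : D ≤ Q)
    (hn : ¬ (Subgroup.normalizer (D : Set G) ⊓ Q ⊓ Subgroup.centralizer {a} ≤ D)) :
    ∃ S : Subgroup G, Cfsg.Agent.Lib.Helper01.IsSylowIn q S M ∧
      A ≤ Subgroup.normalizer (S : Set G) ∧ Nat.card D < Nat.card ↥(Q ⊓ S) := by
  set C := Subgroup.normalizer (D : Set G) ⊓ Q ⊓ Subgroup.centralizer {a} with hC
  have hAQ : A ≤ Subgroup.normalizer (Q : Set G) := le_normalizer_of_conj_mem A Q hQ.1.2.2.1
  have hAM : A ≤ Subgroup.normalizer (M : Set G) := le_normalizer_of_conj_mem A M hMfam.2.2.1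
  have hAC : A ≤ Subgroup.normalizer (C : Set G) := by
    have h1 : A ≤ Subgroup.normalizer ((Subgroup.normalizer (D : Set G) : Subgroup G) : Set G) :=
      hAD.trans Subgroup.le_normalizer
    have h2 := (le_inf h1 hAQ).trans Subgroup.inf_normalizer_le_normalizer_inf
    exact (le_inf h2 (elemAb_le_normalizer_centralizer p A hA a ha)).trans
      Subgroup.inf_normalizer_le_normalizer_inf
  have hAU : A ≤ Subgroup.normalizer ((D ⊔ C : Subgroup G) : Set G) :=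
    (le_inf hAD hAC).trans (Subgroup.normalizer_inf_normalizer_le_normalizer_sup D C)
  have hCQ : C ≤ Q := inf_le_left.trans inf_le_right
  have hUQ : D ⊔ C ≤ Q := sup_le hDQ hCQ
  have hCM : C ≤ M := by
    apply le_trans _ hLM
    intro x hx
    refine ⟨?_, hx.1.1⟩
    exact hQ.1.2.2.2 a ha ha1 ⟨hx.1.2, hx.2⟩
  have hUM : D ⊔ C ≤ M := sup_le hDM hCM
  have hUq : IsPGroup q ↥(D ⊔ C) := hQ.2.1.to_le hUQ
  have hDU : Nat.card D < Nat.card ↥(D ⊔ C) := by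
    apply card_lt_card_of_lt le_sup_left
    intro h
    apply hn
    rw [h]
    exact le_sup_right
  obtain ⟨S, hS, hUS, hSA⟩ := Cfsg.Agent.Lib.Helper01.exists_invariant_isSylowIn_ge q hAM
    (elemAb_coprime p A hA M hMfam.2.1) (Or.inl (elemAb_isSolvable p A hA)) hUM hUq hAU
  refine ⟨S, hS, hSA, hDU.trans_le (Subgroup.card_le_of_le (le_inf hUQ hUS))⟩


theorem transitivity_aux (hA : IsElementaryAbelian p A) (hA3 : p ^ 3 ≤ Nat.card ↥A)
    (hθ : IsSolvableSignalizerFunctor p A θ) (hqp : q ≠ p) :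
    ∀ k : ℕ, ∀ Q₁ Q₂ : Subgroup G, IsMaxQ p A θ q Q₁ → IsMaxQ p A θ q Q₂ →
      Nat.card G - Nat.card ↥(Q₁ ⊓ Q₂) < k →
      ∃ c ∈ signalizerInf A θ, Q₁.map (MulAut.conj c).toMonoidHom = Q₂ := by
  intro k
  induction k with
  | zero => intro Q₁ Q₂ _ _ h; exact absurd h (Nat.not_lt_zero _)
  | succ k ih =>
    intro Q₁ Q₂ hQ₁ hQ₂ hk
    by_cases hD₁ : Q₁ ⊓ Q₂ = Q₁
    · have hle : Q₁ ≤ Q₂ := inf_eq_left.mp hD₁
      have := hQ₁.2.2 Q₂ hQ₂.1 hQ₂.2.1 hle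
      exact ⟨1, Subgroup.one_mem _, by rw [map_conj_one, this]⟩
    by_cases hD₂ : Q₁ ⊓ Q₂ = Q₂
    · have hle : Q₂ ≤ Q₁ := inf_eq_right.mp hD₂
      have := hQ₂.2.2 Q₁ hQ₁.1 hQ₁.2.1 hle
      exact ⟨1, Subgroup.one_mem _, by rw [map_conj_one, this]⟩
    have hAQ₁ : A ≤ Subgroup.normalizer (Q₁ : Set G) :=
      le_normalizer_of_conj_mem A Q₁ hQ₁.1.2.2.1
    have hAQ₂ : A ≤ Subgroup.normalizer (Q₂ : Set G) :=
      le_normalizer_of_conj_mem A Q₂ hQ₂.1.2.2.1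
    obtain ⟨a, ha, ha1, hn₁, hn₂⟩ := Cfsg.Agent.S1282.result p A hA hA3 q hqp Q₁ Q₂
      hQ₁.2.1 hQ₂.2.1 hAQ₁ hAQ₂ hD₁ hD₂
    set D := Q₁ ⊓ Q₂ with hD
    have hAD : A ≤ Subgroup.normalizer (D : Set G) :=
      (le_inf hAQ₁ hAQ₂).trans Subgroup.inf_normalizer_le_normalizer_inf
    have hDfam : D ∈ signalizerFamily p A θ :=
      family_mono p A θ Q₁ D hQ₁.1 inf_le_left (conj_mem_of_le_normalizer A D hAD)
    have hθa := theta_mem_family p A θ hθ a ha ha1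
    have hAθa : A ≤ Subgroup.normalizer (θ a : Set G) :=
      le_normalizer_of_conj_mem A (θ a) hθa.2.2.1
    set L := θ a ⊓ Subgroup.normalizer (D : Set G) with hL
    have hAL : A ≤ Subgroup.normalizer (L : Set G) :=
      (le_inf hAθa (hAD.trans Subgroup.le_normalizer)).trans
        Subgroup.inf_normalizer_le_normalizer_inf
    have hLfam : L ∈ signalizerFamily p A θ :=
      family_mono p A θ (θ a) L hθa inf_le_left (conj_mem_of_le_normalizer A L hAL)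
    have hA2 : p ^ 2 ≤ Nat.card ↥A :=
      le_trans (Nat.pow_le_pow_right hp.out.pos (by norm_num)) hA3
    have hMfam : D ⊔ L ∈ signalizerFamily p A θ :=
      Cfsg.Agent.S1280.result p A hA hA2 θ hθ D L hDfam hLfam inf_le_right
    set M := D ⊔ L with hM
    obtain ⟨S₁, hS₁, hAS₁, hc₁⟩ := exists_sylow_step p A θ q hA a ha ha1 D M Q₁ hAD hMfam
      le_sup_left le_sup_right hQ₁ inf_le_left hn₁
    obtain ⟨S₂, hS₂, hAS₂, hc₂⟩ := exists_sylow_step p A θ q hA a ha ha1 D M Q₂ hAD hMfam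
      le_sup_left le_sup_right hQ₂ inf_le_right hn₂
    have hAM : A ≤ Subgroup.normalizer (M : Set G) :=
      le_normalizer_of_conj_mem A M hMfam.2.2.1
    obtain ⟨c, hc, hcS⟩ := Cfsg.Agent.Lib.Helper01.exists_centralizer_conj hAM
      (elemAb_coprime p A hA M hMfam.2.1) (Or.inl (elemAb_isSolvable p A hA)) hAS₁ hAS₂
      (hS₁.exists_conj hS₂)
    have hcinf : c ∈ signalizerInf A θ :=
      mem_signalizerInf_of_mem_family p A θ M hMfam c hc.1 hc.2
    have hcS' : S₁.map (MulAut.conj c).toMonoidHom = S₂ := hcS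
    have hS₁fam : S₁ ∈ signalizerFamily p A θ :=
      family_mono p A θ M S₁ hMfam hS₁.1 (conj_mem_of_le_normalizer A S₁ hAS₁)
    have hS₂fam : S₂ ∈ signalizerFamily p A θ :=
      family_mono p A θ M S₂ hMfam hS₂.1 (conj_mem_of_le_normalizer A S₂ hAS₂)
    obtain ⟨R₁, hR₁, hSR₁⟩ := exists_isMaxQ_ge p A θ q S₁ hS₁fam hS₁.2.1
    obtain ⟨R₂, hR₂, hSR₂⟩ := exists_isMaxQ_ge p A θ q S₂ hS₂fam hS₂.2.1
    have key : ∀ X Y : Subgroup G, IsMaxQ p A θ q X → IsMaxQ p A θ q Y →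
        Nat.card D < Nat.card ↥(X ⊓ Y) →
        ∃ c ∈ signalizerInf A θ, X.map (MulAut.conj c).toMonoidHom = Y := by
      intro X Y hX hY hlt
      apply ih X Y hX hY
      have h1 : Nat.card ↥(X ⊓ Y) ≤ Nat.card G := Subgroup.card_le_card_group _
      omega
    obtain ⟨c₁, hc₁', e₁⟩ := key Q₁ R₁ hQ₁ hR₁
      (hc₁.trans_le (Subgroup.card_le_of_le (inf_le_inf_left _ hSR₁)))
    obtain ⟨c₃, hc₃', e₃⟩ := key Q₂ R₂ hQ₂ hR₂
      (hc₂.trans_le (Subgroup.card_le_of_le (inf_le_inf_left _ hSR₂)))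
    have hR₁c := isMaxQ_conj p A θ q hθ.1 R₁ hR₁ c hcinf
    have hS₂le : S₂ ≤ R₁.map (MulAut.conj c).toMonoidHom ⊓ R₂ := by
      refine le_inf ?_ hSR₂
      rw [← hcS']
      exact Subgroup.map_mono hSR₁
    have hDS₂ : Nat.card D < Nat.card S₂ :=
      hc₂.trans_le (Subgroup.card_le_of_le inf_le_right)
    obtain ⟨c₂, hc₂', e₂⟩ := key _ R₂ hR₁c hR₂
      (hDS₂.trans_le (Subgroup.card_le_of_le hS₂le))
    refine ⟨c₃⁻¹ * (c₂ * (c * c₁)), ?_, ?_⟩
    · exact Subgroup.mul_mem _ (Subgroup.inv_mem _ hc₃')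
        (Subgroup.mul_mem _ hc₂' (Subgroup.mul_mem _ hcinf hc₁'))
    · rw [map_conj_mul, map_conj_mul, map_conj_mul, e₁, e₂, ← e₃, map_conj_inv_map_conj]

end

end Cfsg.Agent.Lib.Helper29
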