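import Mathlib
import Cfsg.Prelude.Def_Local
import Cfsg.Agent.Lib.Helper29.SigFamily
import Cfsg.Agent.Lib.Helper29.Transitivity

set_option autoImplicit false

namespace Cfsg.Agent.Lib.Helper29

open Cfsg

section

variable {G : Type*} [Group G]

/-- the ordered product `l * (x l x⁻¹) * ... * (x^(n-1) l x^-(n-1))`. -/
def diagProd (x l : G) : ℕ → G
  | 0 => 1
  | n + 1 => diagProd x l n * (x ^ n * l * (x ^ n)⁻¹)

theorem diagProd_succ (x l : G) (n : ℕ) :
    diagProd x l (n + 1) = diagProd x l n * (x ^ n * l * (x ^ n)⁻¹) := rfl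

theorem diagProd_succ' (x l : G) (n : ℕ) :
    diagProd x l (n + 1) = l * (x * diagProd x l n * x⁻¹) := by
  induction n with
  | zero => simp [diagProd]
  | succ n ih =>
    calc diagProd x l (n + 1 + 1) = diagProd x l (n + 1) * (x ^ (n + 1) * l * (x ^ (n + 1))⁻¹) := rfl
      _ = l * (x * diagProd x l n * x⁻¹) * (x ^ (n + 1) * l * (x ^ (n + 1))⁻¹) := by rw [ih]
      _ = l * (x * (diagProd x l n * (x ^ n * l * (x ^ n)⁻¹)) * x⁻¹) := by
          rw [pow_succ']; group
      _ = l * (x * diagProd x l (n + 1) * x⁻¹) := rfl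

variable (L : Subgroup G) (x : G) (p : ℕ)

/-- conjugates of `L` by the powers `x^i`, `0 < i < p`, commute elementwise with `L`. -/
def DiagHyp : Prop :=
  ∀ i, 0 < i → i < p → ∀ a ∈ L, ∀ b ∈ L, Commute a (x ^ i * b * (x ^ i)⁻¹)

variable {L x p}

theorem diagHyp_conj (h : DiagHyp L x p) {i j : ℕ} (hij : i < j) (hj : j < p) {a b : G}
    (ha : a ∈ L) (hb : b ∈ L) :
    Commute (x ^ i * a * (x ^ i)⁻¹) (x ^ j * b * (x ^ j)⁻¹) := by
  have h1 := h (j - i) (by omega) (by omega) a ha b hb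
  have e : x ^ j * b * (x ^ j)⁻¹ = x ^ i * (x ^ (j - i) * b * (x ^ (j - i))⁻¹) * (x ^ i)⁻¹ := by
    have : x ^ j = x ^ i * x ^ (j - i) := by rw [← pow_add]; congr 1; omega
    rw [this]; group
  rw [e]
  have h2 : Commute (x ^ i * a * (x ^ i)⁻¹)
      (x ^ i * (x ^ (j - i) * b * (x ^ (j - i))⁻¹) * (x ^ i)⁻¹) := by
    unfold Commute SemiconjBy
    have h3 : a * (x ^ (j - i) * b * (x ^ (j - i))⁻¹) = (x ^ (j - i) * b * (x ^ (j - i))⁻¹) * a := h1
    calc x ^ i * a * (x ^ i)⁻¹ * (x ^ i * (x ^ (j - i) * b * (x ^ (j - i))⁻¹) * (x ^ i)⁻¹)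
        = x ^ i * (a * (x ^ (j - i) * b * (x ^ (j - i))⁻¹)) * (x ^ i)⁻¹ := by group
      _ = x ^ i * ((x ^ (j - i) * b * (x ^ (j - i))⁻¹) * a) * (x ^ i)⁻¹ := by rw [h3]
      _ = x ^ i * (x ^ (j - i) * b * (x ^ (j - i))⁻¹) * (x ^ i)⁻¹ * (x ^ i * a * (x ^ i)⁻¹) := by
          group
  exact h2

/-- `P n` commutes with the `j`-th conjugate of any `b ∈ L` for `n ≤ j < p`. -/
theorem diagProd_commute (h : DiagHyp L x p) {l : G} (hl : l ∈ L) :
    ∀ n j, n ≤ j → j < p → ∀ b ∈ L, Commute (diagProd x l n) (x ^ j * b * (x ^ j)⁻¹) := by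
  intro n
  induction n with
  | zero => intro j _ _ b _; simp [diagProd]
  | succ n ih =>
    intro j hnj hj b hb
    rw [diagProd_succ]
    exact (ih j (by omega) hj b hb).mul_left (diagHyp_conj h (by omega) hj hl hb)

/-- `x * P n * x⁻¹` commutes with every element of `L` for `n + 1 ≤ p`. -/
theorem conj_diagProd_commute (h : DiagHyp L x p) {l : G} (hl : l ∈ L) :
    ∀ n, n + 1 ≤ p → ∀ a ∈ L, Commute a (x * diagProd x l n * x⁻¹) := by
  intro n
  induction n with
  | zero => intro _ a _; simp [diagProd]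
  | succ n ih =>
    intro hn a ha
    have e : x * diagProd x l (n + 1) * x⁻¹ =
        (x * diagProd x l n * x⁻¹) * (x ^ (n + 1) * l * (x ^ (n + 1))⁻¹) := by
      rw [diagProd_succ, pow_succ']
      group
    rw [e]
    exact (ih (by omega) a ha).mul_right (h (n + 1) (by omega) (by omega) a ha l hl)

/-- The diagonal element is centralized by `x` (when `x^p = 1`). -/
theorem diagProd_fixed (h : DiagHyp L x p) (hp : 0 < p) (hxp : x ^ p = 1) {l : G} (hl : l ∈ L) :
    x * diagProd x l p * x⁻¹ = diagProd x l p := by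
  have h1 : diagProd x l (p + 1) = diagProd x l p * l := by
    rw [diagProd_succ, hxp]; simp
  have h2 := diagProd_succ' x l p
  obtain ⟨n, rfl⟩ : ∃ n, p = n + 1 := ⟨p - 1, by omega⟩
  have h3 := diagProd_succ' x l n
  have h4 := conj_diagProd_commute h hl n le_rfl l hl
  have h5 : diagProd x l (n + 1) * l = l * diagProd x l (n + 1) := by
    rw [h3]
    have : l * (x * diagProd x l n * x⁻¹) = (x * diagProd x l n * x⁻¹) * l := h4
    calc l * (x * diagProd x l n * x⁻¹) * l = l * ((x * diagProd x l n * x⁻¹) * l) := by group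
      _ = l * (l * (x * diagProd x l n * x⁻¹)) := by rw [this]
  rw [h1, h5] at h2
  exact (mul_left_cancel h2).symm

theorem diagProd_pow (h : DiagHyp L x p) {l : G} (hl : l ∈ L) (m : ℕ) (hm : l ^ m = 1) :
    ∀ n, n ≤ p → diagProd x l n ^ m = 1 := by
  intro n
  induction n with
  | zero => intro _; simp [diagProd]
  | succ n ih =>
    intro hn
    rw [diagProd_succ]
    have hc := diagProd_commute h hl n n le_rfl (by omega) l hl
    rw [hc.mul_pow, ih (by omega)]
    have : (x ^ n * l * (x ^ n)⁻¹) ^ m = x ^ n * l ^ m * (x ^ n)⁻¹ := by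
      have := map_pow (MulAut.conj (x ^ n)) l m
      simpa [MulAut.conj_apply] using this
    rw [this, hm]; simp

end

end Cfsg.Agent.Lib.Helper29
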