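import Mathlib
import Cfsg.Prelude.Def_Local
import Cfsg.Agent.Lib.Helper29.Diagonal
import Cfsg.Agent.Lib.Helper29.PComponent
import Cfsg.Agent.Lib.Helper29.PCore
import Cfsg.Agent.Lib.Helper29.Quasisimple
import Cfsg.Agent.Lib.Helper29.PCompNormal
import Cfsg.Agent.Lib.Helper30.Layer
import Cfsg.Agent.Lib.Helper30.FStar
import Cfsg.Agent.Lib.Helper28.Components
import Cfsg.Agent.Lib.Helper15.CommClosure

set_option autoImplicit false

namespace Cfsg.Agent.Lib.Helper29

open Cfsg
open scoped commutatorElement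

section

variable {G : Type*} [Group G]

theorem conj_commutator_mem {H K : Subgroup G} {g : G} (hg : g ∈ H) :
    ∀ z ∈ ⁅H, K⁆, g * z * g⁻¹ ∈ ⁅H, K⁆ := by
  intro z hz
  rw [Subgroup.commutator_def] at hz
  induction hz using Subgroup.closure_induction with
  | mem z hz =>
    obtain ⟨h, hh, k, hk, rfl⟩ := hz
    have e : g * ⁅h, k⁆ * g⁻¹ = ⁅g * h, k⁆ * ⁅g, k⁆⁻¹ := by
      simp only [commutatorElement_def]; group
    rw [e]
    exact Subgroup.mul_mem _ (Subgroup.commutator_mem_commutator (H.mul_mem hg hh) hk)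
      (Subgroup.inv_mem _ (Subgroup.commutator_mem_commutator hg hk))
  | one => simp
  | mul a b _ _ iha ihb =>
    have e : g * (a * b) * g⁻¹ = (g * a * g⁻¹) * (g * b * g⁻¹) := by group
    rw [e]; exact Subgroup.mul_mem _ iha ihb
  | inv a _ iha =>
    have e : g * a⁻¹ * g⁻¹ = (g * a * g⁻¹)⁻¹ := by group
    rw [e]; exact Subgroup.inv_mem _ iha

theorem le_normalizer_commutator_left (H K : Subgroup G) :
    H ≤ Subgroup.normalizer ((⁅H, K⁆ : Subgroup G) : Set G) :=
  le_normalizer_of_conj_mem H _ (fun _ hg z hz => conj_commutator_mem hg z hz)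

theorem conj_mem_centralizerCore (p : ℕ) (a g x : G)
    (hg : g ∈ Subgroup.centralizer ({a} : Set G)) (hx : x ∈ centralizerPPrimeCore p a) :
    g * x * g⁻¹ ∈ centralizerPPrimeCore p a := by
  obtain ⟨x', hx', rfl⟩ := hx
  have hn : (pPrimeCore p ↥(Subgroup.centralizer ({a} : Set G))).Normal := inferInstance
  exact ⟨⟨g, hg⟩ * x' * ⟨g, hg⟩⁻¹, hn.conj_mem _ hx' _, rfl⟩

theorem centralizerCore_le_centralizer (p : ℕ) (a : G) :
    centralizerPPrimeCore p a ≤ Subgroup.centralizer ({a} : Set G) :=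
  Subgroup.map_subtype_le _

theorem centralizer_le_normalizer_centralizerCore (p : ℕ) (a : G) :
    Subgroup.centralizer ({a} : Set G) ≤
      Subgroup.normalizer ((centralizerPPrimeCore p a : Subgroup G) : Set G) :=
  le_normalizer_of_conj_mem _ _ (fun g hg x hx => conj_mem_centralizerCore p a g x hg hx)

theorem card_centralizerCore_coprime [Finite G] (p : ℕ) (a : G) :
    (Nat.card ↥(centralizerPPrimeCore p a)).Coprime p := by
  unfold centralizerPPrimeCore
  rw [Subgroup.card_map_of_injective (Subgroup.subtype_injective _)]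
  exact pPrimeCore_coprime p

/-- In a component of a group with trivial `p'`-core, not all `p`-elements are central. -/
theorem component_pElements_not_central [Finite G] (p : ℕ) [hp : Fact p.Prime]
    (hO : pPrimeCore p G = ⊥) (L : Subgroup G) (hL : IsComponent L)
    (h : ∀ s ∈ L, (∃ k : ℕ, s ^ p ^ k = 1) → s ∈ Subgroup.centralizer (L : Set G)) : False := by
  have hdvd : p ∣ Nat.card ↥L := component_dvd_card p hO L hL
  have hperf : commutator ↥L = ⊤ := qs_perfect hL.2
  have h1 := perfect_dvd_index_center hperf p hdvd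
  let S : Sylow p ↥L := default
  have hS : (S : Subgroup ↥L) ≤ Subgroup.center ↥L := by
    intro g hg
    obtain ⟨k, hk⟩ := S.isPGroup' ⟨g, hg⟩
    have hk' : (g : G) ^ p ^ k = 1 := by
      have := congrArg (fun z : (S : Subgroup ↥L) => ((z : ↥L) : G)) hk
      simpa using this
    have h2 := h (g : G) g.2 ⟨k, hk'⟩
    rw [Subgroup.mem_center_iff]
    intro y
    rw [Subgroup.mem_centralizer_iff] at h2
    exact Subtype.ext (h2 (y : G) y.2)
  have h3 : (Subgroup.center ↥L).index ∣ (S : Subgroup ↥L).index := Subgroup.index_dvd_of_le hS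
  exact S.not_dvd_index (h1.trans h3)


/-- An element normalizing a component `L` with `[L, ⟨x⟩] ≠ L` centralizes `L`. -/
theorem component_le_centralizer_of_commutator_ne (L : Subgroup G) (hL : IsComponent L) (x : G)
    (hxL : x ∈ Subgroup.normalizer (L : Set G)) (hne : ⁅L, Subgroup.zpowers x⁆ ≠ L) :
    L ≤ Subgroup.centralizer ({x} : Set G) := by
  have hXL : Subgroup.zpowers x ≤ Subgroup.normalizer (L : Set G) := by
    rw [Subgroup.zpowers_le]; exact hxL
  have h1 : ⁅L, Subgroup.zpowers x⁆ ≤ L := by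
    rw [Subgroup.commutator_le]
    intro l hl y hy
    have h2 := (Subgroup.mem_normalizer_iff.mp (hXL hy) l⁻¹).mp (L.inv_mem hl)
    have e : ⁅l, y⁆ = l * (y * l⁻¹ * y⁻¹) := by simp only [commutatorElement_def]; group
    rw [e]
    exact L.mul_mem hl h2
  have h2 := le_normalizer_commutator_left L (Subgroup.zpowers x)
  rcases Cfsg.Agent.Lib.Helper28.component_le_or_commutes_of_normalizes L _ hL h2 with h3 | h3
  · exact absurd (le_antisymm h1 h3) hne
  · have h4 : ⁅⁅L, Subgroup.zpowers x⁆, L⁆ = ⊥ := by rw [Subgroup.commutator_comm]; exact h3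
    have h5 : ⁅⁅Subgroup.zpowers x, L⁆, L⁆ = ⊥ := by
      rw [Subgroup.commutator_comm (Subgroup.zpowers x) L]; exact h4
    have h6 := Subgroup.commutator_commutator_eq_bot_of_rotate h4 h5
    rw [Cfsg.Agent.Lib.Helper30.component_perfect hL] at h6
    have h7 := Subgroup.commutator_eq_bot_iff_le_centralizer.mp h6
    intro l hl
    have h8 := h7 hl
    rw [Subgroup.mem_centralizer_iff] at h8 ⊢
    intro y hy
    rw [Set.mem_singleton_iff] at hy
    subst hy
    exact h8 y (Subgroup.mem_zpowers y)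

/-- Case (i): `x` normalizes `L`. -/
theorem component_commutes_core_of_normalizes [Finite G] (p : ℕ) [hp : Fact p.Prime]
    (hO : pPrimeCore p G = ⊥) (x : G) (L : Subgroup G) (hL : IsComponent L)
    (hxL : x ∈ Subgroup.normalizer (L : Set G)) (hne : ⁅L, Subgroup.zpowers x⁆ ≠ L) :
    ⁅L, centralizerPPrimeCore p x⁆ = ⊥ := by
  have h1 := component_le_centralizer_of_commutator_ne L hL x hxL hne
  have h2 := h1.trans (centralizer_le_normalizer_centralizerCore p x)
  rcases Cfsg.Agent.Lib.Helper28.component_le_or_commutes_of_normalizes L _ hL h2 with h3 | h3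
  · exfalso
    have hdvd : p ∣ Nat.card ↥L := component_dvd_card p hO L hL
    have h4 := hdvd.trans (Subgroup.card_dvd_of_le h3)
    have h5 := card_centralizerCore_coprime (G := G) p x
    rw [Nat.coprime_comm, Nat.Prime.coprime_iff_not_dvd hp.out] at h5
    exact h5 h4
  · exact h3


theorem mem_of_pow_mem_of_coprime {N : Subgroup G} {y : G} {p n : ℕ} (hp : 1 < p)
    (hy : orderOf y = p) (hn : Nat.Coprime n p) (h : y ^ n ∈ N) : y ∈ N := by
  obtain ⟨t, -, ht⟩ := Nat.exists_mul_mod_eq_one_of_coprime hn hp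
  have h1 : (y ^ n) ^ t ∈ N := N.pow_mem h t
  rw [← pow_mul, ← pow_mod_orderOf, hy, ht, pow_one] at h1
  exact h1

theorem eq_one_of_pow_eq_one_of_mem_coprime [Finite G] {D : Subgroup G} {y : G} {p k : ℕ}
    (hD : (Nat.card ↥D).Coprime p) (hy : y ∈ D) (hk : y ^ p ^ k = 1) : y = 1 := by
  have h1 : orderOf y ∣ p ^ k := orderOf_dvd_of_pow_eq_one hk
  have h2 : orderOf y ∣ Nat.card ↥D := Subgroup.orderOf_dvd_natCard D hy
  have h3 : Nat.Coprime (Nat.card ↥D) (p ^ k) := Nat.Coprime.pow_right k hD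
  have h4 : orderOf y ∣ 1 := by
    have := Nat.dvd_gcd h2 h1
    rwa [h3] at this
  exact orderOf_eq_one_iff.mp (Nat.dvd_one.mp h4)

section caseTwo

variable (p : ℕ) [hp : Fact p.Prime] (x : G)
  (hx : orderOf x = p) (L : Subgroup G) (hL : IsComponent L)
  (hxL : x ∉ Subgroup.normalizer (L : Set G))

include hx hxL in
theorem dvd_of_pow_mem_normalizer {i : ℕ} (h : x ^ i ∈ Subgroup.normalizer (L : Set G)) :
    p ∣ i := by
  by_contra hnd
  have hc : Nat.Coprime i p := by
    rw [Nat.coprime_comm, Nat.Prime.coprime_iff_not_dvd hp.out]; exact hnd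
  exact hxL (mem_of_pow_mem_of_coprime hp.out.one_lt hx hc h)

include hx hxL hL in
theorem diagHyp_of_not_normalizes : DiagHyp L x p := by
  intro i hi hip a ha b hb
  have hcomp := Cfsg.Agent.Lib.Helper30.isComponent_conj (x ^ i) hL
  have hne : L ≠ L.map (MulAut.conj (x ^ i)).toMonoidHom := by
    intro h
    have h1 := mem_normalizer_of_map_conj_eq L (x ^ i) h.symm
    have h2 := dvd_of_pow_mem_normalizer p x hx L hxL h1
    exact absurd (Nat.le_of_dvd hi h2) (by omega)
  have h3 := Cfsg.Agent.Lib.Helper30.component_commute hL hcomp hne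
  have h4 := Subgroup.commutator_eq_bot_iff_le_centralizer.mp h3 ha
  rw [Subgroup.mem_centralizer_iff] at h4
  have hb' : x ^ i * b * (x ^ i)⁻¹ ∈ L.map (MulAut.conj (x ^ i)).toMonoidHom :=
    ⟨b, hb, rfl⟩
  exact (h4 _ hb').symm

/-- the product of the conjugates `L^(x^i)`, `i < p`. -/
def orbitSup : Subgroup G := ⨆ i : Fin p, L.map (MulAut.conj (x ^ (i : ℕ))).toMonoidHom

theorem diagProd_mem_orbitSup {l : G} (hl : l ∈ L) :
    ∀ n, n ≤ p → diagProd x l n ∈ orbitSup p x L := by
  intro n
  induction n with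
  | zero => intro _; simp [diagProd]
  | succ n ih =>
    intro hn
    rw [diagProd_succ]
    refine Subgroup.mul_mem _ (ih (by omega)) ?_
    have : x ^ n * l * (x ^ n)⁻¹ ∈ L.map (MulAut.conj (x ^ n)).toMonoidHom :=
      ⟨l, hl, rfl⟩
    exact Subgroup.mem_iSup_of_mem (⟨n, by omega⟩ : Fin p) this

theorem le_orbitSup : L ≤ orbitSup p x L := by
  have h0 : 0 < p := hp.out.pos
  have : L.map (MulAut.conj (x ^ ((⟨0, h0⟩ : Fin p) : ℕ))).toMonoidHom ≤ orbitSup p x L :=
    le_iSup (fun i : Fin p => L.map (MulAut.conj (x ^ (i : ℕ))).toMonoidHom) ⟨0, h0⟩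
  rw [show ((⟨0, h0⟩ : Fin p) : ℕ) = 0 from rfl, pow_zero, map_conj_one] at this
  exact this


/-- From `δ = l * Q` with `Q` centralizing `L`: if `δ` commutes with `L` then so does `l`. -/
theorem mem_centralizer_of_diag {l Q : G} (hQ : Q ∈ Subgroup.centralizer (L : Set G))
    (hδ : l * Q ∈ Subgroup.centralizer (L : Set G)) : l ∈ Subgroup.centralizer (L : Set G) := by
  have : l = (l * Q) * Q⁻¹ := by group
  rw [this]
  exact Subgroup.mul_mem _ hδ (Subgroup.inv_mem _ hQ)

include hx hxL hL in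
theorem diag_decomp {l : G} (hl : l ∈ L) :
    ∃ Q ∈ Subgroup.centralizer (L : Set G), diagProd x l p = l * Q ∧
      diagProd x l p ∈ Subgroup.centralizer ({x} : Set G) := by
  have hD := diagHyp_of_not_normalizes p x hx L hL hxL
  have hp0 : 0 < p := hp.out.pos
  obtain ⟨n, hn⟩ : ∃ n, p = n + 1 := ⟨p - 1, by omega⟩
  refine ⟨x * diagProd x l n * x⁻¹, ?_, ?_, ?_⟩
  · rw [Subgroup.mem_centralizer_iff]
    intro a ha
    exact conj_diagProd_commute hD hl n (by omega) a ha
  · rw [hn]; exact diagProd_succ' x l n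
  · have hxp : x ^ p = 1 := by rw [← hx]; exact pow_orderOf_eq_one x
    have h1 := diagProd_fixed hD hp0 hxp hl
    rw [Subgroup.mem_centralizer_iff]
    intro y hy
    rw [Set.mem_singleton_iff] at hy
    subst hy
    calc y * diagProd y l p = (y * diagProd y l p * y⁻¹) * y := by group
      _ = diagProd y l p * y := by rw [h1]

end caseTwo

section caseTwoFinite

variable [Finite G] (p : ℕ) [hp : Fact p.Prime] (hO : pPrimeCore p G = ⊥) (x : G)
  (hx : orderOf x = p) (L : Subgroup G) (hL : IsComponent L)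
  (hxL : x ∉ Subgroup.normalizer (L : Set G))

include hO hx hL hxL in
/-- `O_{p'}(C_G(x))` normalizes `L`. -/
theorem core_le_normalizer_component :
    centralizerPPrimeCore p x ≤ Subgroup.normalizer (L : Set G) := by
  intro d hd
  have hdC := centralizerCore_le_centralizer p x hd
  have hdx : x * d = d * x := by
    rw [Subgroup.mem_centralizer_iff] at hdC
    exact hdC x rfl
  have hdxi : ∀ i : ℕ, Commute (x ^ i) d := fun i => (show Commute x d from hdx).pow_left i
  have hcop := card_centralizerCore_coprime (G := G) p x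
  have hxp : x ^ p = 1 := by rw [← hx]; exact pow_orderOf_eq_one x
  by_cases hex : ∃ j < p, L.map (MulAut.conj d).toMonoidHom =
      L.map (MulAut.conj (x ^ j)).toMonoidHom
  · obtain ⟨j, hj, hjeq⟩ := hex
    have hg : (x ^ j)⁻¹ * d ∈ Subgroup.normalizer (L : Set G) := by
      apply mem_normalizer_of_map_conj_eq
      rw [map_conj_mul, hjeq, map_conj_inv_map_conj]
    set m := orderOf d with hm
    have hgm : ((x ^ j)⁻¹ * d) ^ m ∈ Subgroup.normalizer (L : Set G) := Subgroup.pow_mem _ hg m
    have hc : Commute (x ^ j)⁻¹ d := (hdxi j).inv_left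
    rw [hc.mul_pow, hm, pow_orderOf_eq_one, mul_one, inv_pow, ← pow_mul] at hgm
    have h2 := dvd_of_pow_mem_normalizer p x hx L hxL (by simpa using hgm)
    have hmc : Nat.Coprime (orderOf d) p :=
      Nat.Coprime.coprime_dvd_left (Subgroup.orderOf_dvd_natCard _ hd) hcop
    have h3 : p ∣ j := (Nat.Coprime.dvd_mul_right hmc.symm).mp h2
    have hj0 : j = 0 := Nat.eq_zero_of_dvd_of_lt h3 hj
    rw [hj0, pow_zero, map_conj_one] at hjeq
    exact mem_normalizer_of_map_conj_eq L d hjeq
  · exfalso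
    have hex' : ∀ j < p, L.map (MulAut.conj d).toMonoidHom ≠
        L.map (MulAut.conj (x ^ j)).toMonoidHom := fun j hj h => hex ⟨j, hj, h⟩
    -- conjugates under d of the orbit commute with the orbit
    have hcommute : ∀ i i' : Fin p,
        ⁅L.map (MulAut.conj (x ^ (i' : ℕ))).toMonoidHom,
          (L.map (MulAut.conj (x ^ (i : ℕ))).toMonoidHom).map (MulAut.conj d).toMonoidHom⁆ = ⊥ := by
      intro i i'
      apply Cfsg.Agent.Lib.Helper30.component_commute
        (Cfsg.Agent.Lib.Helper30.isComponent_conj _ hL)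
        (Cfsg.Agent.Lib.Helper30.isComponent_conj _ (Cfsg.Agent.Lib.Helper30.isComponent_conj _ hL))
      intro heq
      rw [← map_conj_mul, ← (hdxi i).eq, map_conj_mul] at heq
      have h1 := congrArg (fun U : Subgroup G => U.map (MulAut.conj (x ^ (i : ℕ))⁻¹).toMonoidHom) heq
      simp only [map_conj_inv_map_conj] at h1
      rw [← map_conj_mul] at h1
      have h2 : (x ^ (i : ℕ))⁻¹ * x ^ (i' : ℕ) = x ^ (((i' : ℕ) + (p - (i : ℕ))) % p) := by
        have hi : (i : ℕ) < p := i.2
        have h3 : x ^ ((i' : ℕ) + (p - (i : ℕ))) = (x ^ (i : ℕ))⁻¹ * x ^ (i' : ℕ) := by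
          have h4 : x ^ (i : ℕ) * x ^ ((i' : ℕ) + (p - (i : ℕ))) = x ^ (i' : ℕ) := by
            rw [← pow_add]
            have : (i : ℕ) + ((i' : ℕ) + (p - (i : ℕ))) = (i' : ℕ) + p := by omega
            rw [this, pow_add, hxp, mul_one]
          rw [← h4]; group
        rw [← h3]
        have h5 := pow_mod_orderOf x ((i' : ℕ) + (p - (i : ℕ)))
        rw [hx] at h5
        exact h5.symm
      rw [h2] at h1
      exact hex' _ (Nat.mod_lt _ hp.out.pos) h1.symm
    have hMcent : orbitSup p x L ≤ Subgroup.centralizer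
        (((orbitSup p x L).map (MulAut.conj d).toMonoidHom : Subgroup G) : Set G) := by
      unfold orbitSup
      apply iSup_le
      intro i'
      rw [Subgroup.le_centralizer_iff, Subgroup.map_iSup]
      apply iSup_le
      intro i
      rw [Subgroup.le_centralizer_iff]
      exact Subgroup.commutator_eq_bot_iff_le_centralizer.mp (hcommute i i')
    apply component_pElements_not_central p hO L hL
    rintro s hs ⟨k, hk⟩
    obtain ⟨Q, hQ, hδeq, hδC⟩ := diag_decomp p x hx L hL hxL hs
    have hD := diagHyp_of_not_normalizes p x hx L hL hxL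
    set δ := diagProd x s p with hδ
    have hδM : δ ∈ orbitSup p x L := diagProd_mem_orbitSup p x L hs p le_rfl
    have hδpow : δ ^ p ^ k = 1 := diagProd_pow hD hs (p ^ k) hk p le_rfl
    have hδd : d * δ * d⁻¹ ∈ (orbitSup p x L).map (MulAut.conj d).toMonoidHom := ⟨δ, hδM, rfl⟩
    have hcomm1 : Commute δ (d * δ * d⁻¹) := by
      have := hMcent hδM
      rw [Subgroup.mem_centralizer_iff] at this
      exact (this _ hδd).symm
    have hy : δ⁻¹ * (d * δ * d⁻¹) ∈ centralizerPPrimeCore p x := by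
      have h1 := conj_mem_centralizerCore p x δ⁻¹ d (Subgroup.inv_mem _ hδC) hd
      rw [inv_inv] at h1
      have e : δ⁻¹ * (d * δ * d⁻¹) = (δ⁻¹ * d * δ) * d⁻¹ := by group
      rw [e]
      exact Subgroup.mul_mem _ h1 (Subgroup.inv_mem _ hd)
    have hypow : (δ⁻¹ * (d * δ * d⁻¹)) ^ p ^ k = 1 := by
      rw [(hcomm1.inv_left).mul_pow, inv_pow, hδpow]
      have : (d * δ * d⁻¹) ^ p ^ k = d * δ ^ p ^ k * d⁻¹ := by
        have := map_pow (MulAut.conj d) δ (p ^ k)
        simpa [MulAut.conj_apply] using this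
      rw [this, hδpow]; simp
    have hy1 := eq_one_of_pow_eq_one_of_mem_coprime hcop hy hypow
    have hfix : d * δ * d⁻¹ = δ := by
      have : δ * (δ⁻¹ * (d * δ * d⁻¹)) = δ * 1 := by rw [hy1]
      simpa using this
    have hδcL : δ ∈ Subgroup.centralizer (L : Set G) := by
      rw [hfix] at hδd
      rw [Subgroup.mem_centralizer_iff]
      intro l hl
      have := hMcent (le_orbitSup p x L hl)
      rw [Subgroup.mem_centralizer_iff] at this
      exact (this _ hδd).symm
    rw [hδeq] at hδcL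
    exact mem_centralizer_of_diag L hQ hδcL


include hO hx hL hxL in
/-- commutators of `L` with `O_{p'}(C_G(x))` centralize `L`. -/
theorem commutator_core_mem_centralizer {l d : G} (hl : l ∈ L)
    (hd : d ∈ centralizerPPrimeCore p x) : ⁅l, d⁆ ∈ Subgroup.centralizer (L : Set G) := by
  have hDN := core_le_normalizer_component p hO x hx L hL hxL
  have hcop := card_centralizerCore_coprime (G := G) p x
  have hNC := Cfsg.Agent.Lib.Helper15.normalizer_le_normalizer_centralizer L
  have hDNC : centralizerPPrimeCore p x ≤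
      Subgroup.normalizer ((Subgroup.centralizer (L : Set G) : Subgroup G) : Set G) := hDN.trans hNC
  set CL := Subgroup.centralizer (L : Set G) with hCL
  set D := centralizerPPrimeCore p x with hD
  -- L normalizes D ⊔ C_L
  have hLR : L ≤ Subgroup.normalizer ((D ⊔ CL : Subgroup G) : Set G) := by
    intro l' hl'
    obtain ⟨Q, hQ, hδeq, hδC⟩ := diag_decomp p x hx L hL hxL hl'
    have h1 : diagProd x l' p ∈ Subgroup.normalizer ((D ⊔ CL : Subgroup G) : Set G) := by
      apply Subgroup.normalizer_inf_normalizer_le_normalizer_sup D CL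
      refine ⟨centralizer_le_normalizer_centralizerCore p x hδC, ?_⟩
      apply hNC
      rw [hδeq]
      exact Subgroup.mul_mem _ (Subgroup.le_normalizer hl')
        (Subgroup.centralizer_le_normalizer _ hQ)
    have h2 : Q⁻¹ ∈ Subgroup.normalizer ((D ⊔ CL : Subgroup G) : Set G) :=
      Subgroup.le_normalizer (le_sup_right (a := D) (Subgroup.inv_mem _ hQ))
    have e : l' = diagProd x l' p * Q⁻¹ := by rw [hδeq]; group
    rw [e]
    exact Subgroup.mul_mem _ h1 h2
  rcases Cfsg.Agent.Lib.Helper28.component_le_or_commutes_of_normalizes L _ hL hLR with h3 | h3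
  · exfalso
    apply component_pElements_not_central p hO L hL
    rintro s hs ⟨k, hk⟩
    obtain ⟨y, hy, c, hc, hyc⟩ :=
      (Cfsg.Agent.Lib.Helper30.mem_sup_of_le_normalizer hDNC).mp (h3 hs)
    have hyN : y ∈ Subgroup.normalizer (L : Set G) := hDN hy
    have hconj : ∀ j : ℕ, ∀ l ∈ L, s ^ j * l * (s ^ j)⁻¹ = y ^ j * l * (y ^ j)⁻¹ ∧
        y ^ j * l * (y ^ j)⁻¹ ∈ L := by
      intro j
      induction j with
      | zero => intro l hl; simpa using hl
      | succ j ih =>
        intro l hl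
        obtain ⟨h4, h5⟩ := ih l hl
        have h6 : c * (y ^ j * l * (y ^ j)⁻¹) = (y ^ j * l * (y ^ j)⁻¹) * c := by
          rw [Subgroup.mem_centralizer_iff] at hc
          exact (hc _ h5).symm
        have h7 : y ^ (j + 1) * l * (y ^ (j + 1))⁻¹ = y * (y ^ j * l * (y ^ j)⁻¹) * y⁻¹ := by
          rw [pow_succ']; group
        refine ⟨?_, ?_⟩
        · have h8 : s ^ (j + 1) * l * (s ^ (j + 1))⁻¹ = s * (s ^ j * l * (s ^ j)⁻¹) * s⁻¹ := by
            rw [pow_succ']; group
          rw [h8, h4, h7, ← hyc]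
          calc y * c * (y ^ j * l * (y ^ j)⁻¹) * (y * c)⁻¹
              = y * (c * (y ^ j * l * (y ^ j)⁻¹)) * c⁻¹ * y⁻¹ := by group
            _ = y * ((y ^ j * l * (y ^ j)⁻¹) * c) * c⁻¹ * y⁻¹ := by rw [h6]
            _ = y * (y ^ j * l * (y ^ j)⁻¹) * y⁻¹ := by group
        · rw [h7]
          exact (Subgroup.mem_normalizer_iff.mp hyN _).mp h5
    have hypk : y ^ p ^ k ∈ CL := by
      rw [hCL, Subgroup.mem_centralizer_iff]
      intro l hl
      have h4 := (hconj (p ^ k) l hl).1
      rw [hk] at h4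
      have h5 : l = y ^ p ^ k * l * (y ^ p ^ k)⁻¹ := by simpa using h4
      calc l * y ^ p ^ k = (y ^ p ^ k * l * (y ^ p ^ k)⁻¹) * y ^ p ^ k := by rw [← h5]
        _ = y ^ p ^ k * l := by group
    have hyCL : y ∈ CL := by
      have hmc : Nat.Coprime (orderOf y) p :=
        Nat.Coprime.coprime_dvd_left (Subgroup.orderOf_dvd_natCard _ hy) hcop
      by_cases hy1 : orderOf y = 1
      · rw [orderOf_eq_one_iff] at hy1
        rw [hy1]; exact Subgroup.one_mem _
      · have hlt : 1 < orderOf y := by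
          have := orderOf_pos y
          omega
        have hc2 : Nat.Coprime (p ^ k) (orderOf y) := (Nat.Coprime.pow_right k hmc).symm
        exact mem_of_pow_mem_of_coprime hlt rfl hc2 hypk
    rw [← hyc]
    exact Subgroup.mul_mem _ hyCL hc
  · have hRle : D ⊔ CL ≤ CL := by
      have := Subgroup.commutator_eq_bot_iff_le_centralizer.mp h3
      rw [Subgroup.le_centralizer_iff] at this
      exact this
    apply hRle
    obtain ⟨Q, hQ, hδeq, hδC⟩ := diag_decomp p x hx L hL hxL hl
    have hdN : d ∈ Subgroup.normalizer ((CL : Subgroup G) : Set G) := hDNC hd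
    have hQd : ⁅Q, d⁆ ∈ CL := by
      have h4 : d * Q⁻¹ * d⁻¹ ∈ CL :=
        (Subgroup.mem_normalizer_iff.mp hdN _).mp (Subgroup.inv_mem _ hQ)
      have e : ⁅Q, d⁆ = Q * (d * Q⁻¹ * d⁻¹) := by simp only [commutatorElement_def]; group
      rw [e]
      exact Subgroup.mul_mem _ hQ h4
    have hδd : ⁅diagProd x l p, d⁆ ∈ D := by
      have h4 := conj_mem_centralizerCore p x (diagProd x l p) d hδC hd
      have e : ⁅diagProd x l p, d⁆ = (diagProd x l p * d * (diagProd x l p)⁻¹) * d⁻¹ := by
        simp only [commutatorElement_def]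
      rw [e]
      exact Subgroup.mul_mem _ h4 (Subgroup.inv_mem _ hd)
    have hcomm : l * ⁅Q, d⁆ * l⁻¹ = ⁅Q, d⁆ := by
      rw [hCL, Subgroup.mem_centralizer_iff] at hQd
      rw [hQd l hl]; group
    have e : ⁅l, d⁆ = ⁅Q, d⁆⁻¹ * ⁅diagProd x l p, d⁆ := by
      have e1 : ⁅l * Q, d⁆ = (l * ⁅Q, d⁆ * l⁻¹) * ⁅l, d⁆ := by
        simp only [commutatorElement_def]; group
      rw [hδeq, e1, hcomm]; group
    rw [e]
    exact Subgroup.mul_mem _ (le_sup_right (a := D) (Subgroup.inv_mem _ hQd))
      (le_sup_left (b := CL) hδd)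

include hO hx hL hxL in
/-- Case (ii): `x` does not normalize `L`. -/
theorem component_commutes_core_of_not_normalizes :
    ⁅L, centralizerPPrimeCore p x⁆ = ⊥ := by
  have h1 : ⁅L, centralizerPPrimeCore p x⁆ ≤ Subgroup.centralizer (L : Set G) := by
    rw [Subgroup.commutator_le]
    intro l hl d hd
    exact commutator_core_mem_centralizer p hO x hx L hL hxL hl hd
  have h2 : ⁅⁅L, centralizerPPrimeCore p x⁆, L⁆ = ⊥ :=
    Subgroup.commutator_eq_bot_iff_le_centralizer.mpr h1
  have h3 : ⁅⁅centralizerPPrimeCore p x, L⁆, L⁆ = ⊥ := by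
    rw [Subgroup.commutator_comm (centralizerPPrimeCore p x) L]; exact h2
  have h4 := Subgroup.commutator_commutator_eq_bot_of_rotate h2 h3
  rwa [Cfsg.Agent.Lib.Helper30.component_perfect hL] at h4

end caseTwoFinite

/-- If `O_{p'}(G) = 1`, `x` has order `p` and `L` is a component with `[L, x] ≠ L`, then `L` commutes
with `O_{p'}(C_G(x))`. -/
theorem component_commutes_core [Finite G] (p : ℕ) [hp : Fact p.Prime]
    (hO : pPrimeCore p G = ⊥) (x : G) (hx : orderOf x = p) (L : Subgroup G) (hL : IsComponent L)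
    (hne : ⁅L, Subgroup.zpowers x⁆ ≠ L) : ⁅L, centralizerPPrimeCore p x⁆ = ⊥ := by
  by_cases hxL : x ∈ Subgroup.normalizer (L : Set G)
  · exact component_commutes_core_of_normalizes p hO x L hL hxL hne
  · exact component_commutes_core_of_not_normalizes p hO x hx L hL hxL

end

end Cfsg.Agent.Lib.Helper29
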