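import Mathlib
import Cfsg.Prelude.Def_Local
import Cfsg.Agent.Lib.Helper29.PLayerBot
import Cfsg.Agent.Lib.Helper28.Quasisimple
import Cfsg.Agent.S0028
import Cfsg.Agent.Lib.Helper29.Coprime

set_option autoImplicit false

namespace Cfsg.Agent.Lib.Helper29

open Cfsg
open Cfsg.Agent.Lib.Helper28 (FStarP)

theorem mem_centralizer_zpowers_iff {H : Type*} [Group H] (a x : H) :
    x ∈ Subgroup.centralizer ((Subgroup.zpowers a : Subgroup H) : Set H) ↔ a * x = x * a := by
  rw [Subgroup.mem_centralizer_iff]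
  constructor
  · intro h
    exact h a (Subgroup.mem_zpowers a)
  · intro h y hy
    obtain ⟨n, rfl⟩ := Subgroup.mem_zpowers_iff.mp hy
    have : Commute a x := h
    exact (this.zpow_left n).eq

theorem centralizer_zpowers_eq {H : Type*} [Group H] (a : H) :
    Subgroup.centralizer ((Subgroup.zpowers a : Subgroup H) : Set H) =
      Subgroup.centralizer ({a} : Set H) := by
  ext x
  rw [mem_centralizer_zpowers_iff, Subgroup.mem_centralizer_iff]
  constructor
  · intro h y hy
    rw [Set.mem_singleton_iff] at hy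
    subst hy
    exact h
  · intro h
    exact h a rfl

/-- `F*` of a solvable group with trivial `p'`-core is a `p`-group. -/
theorem fStarP_of_solvable {H : Type*} [Group H] [Finite H] (p : ℕ) [Fact p.Prime]
    (hs : Group.IsSolvable H) (hO : pPrimeCore p H = ⊥) : FStarP p H := by
  rw [Cfsg.Agent.Lib.Helper28.fStarP_iff]
  refine ⟨?_, ?_⟩
  · intro K hK
    apply Cfsg.Agent.Lib.Helper28.quasisimple_not_solvable hK.2
    exact Group.isSolvable_of_isSolvable_injective K.subtype_injective
  · intro q hq hqp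
    have hq' : Fact q.Prime := ⟨hq⟩
    have hnorm : (pCore q H).Normal := Cfsg.Agent.Lib.Helper81.pCore_normal q
    have hqg : IsPGroup q ↥(pCore q H) := Cfsg.Agent.Lib.Helper28.pCore_isPGroup q
    have hc : (Nat.card ↥(pCore q H)).Coprime p := by
      obtain ⟨n, hn⟩ := IsPGroup.iff_card.mp hqg
      rw [hn]
      apply Nat.Coprime.pow_left
      rw [Nat.coprime_primes hq (Fact.out : p.Prime)]
      exact hqp
    have := normal_le_pPrimeCore p _ hc
    rwa [hO, le_bot_iff] at this

/-- Core lemma with trivial `p'`-core: if `F*(H)` is a `p`-group, `a` is a `p`-element and `D` is a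
`p'`-subgroup of `C_H(a)` normalized by `C_H(a)`, then `D = 1`. -/
theorem eq_bot_of_normal_in_centralizer {H : Type*} [Group H] [Finite H] (p : ℕ) [Fact p.Prime]
    (hF : FStarP p H) (a : H) (ha : IsPGroup p (Subgroup.zpowers a)) (D : Subgroup H)
    (hD : (Nat.card D).Coprime p) (hDa : D ≤ Subgroup.centralizer ({a} : Set H))
    (hDn : Subgroup.centralizer ({a} : Set H) ≤ Subgroup.normalizer (D : Set H)) : D = ⊥ := by
  set R := pCore p H with hR
  have hRn : R.Normal := Cfsg.Agent.Lib.Helper81.pCore_normal p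
  have hRp : IsPGroup p R := Cfsg.Agent.Lib.Helper28.pCore_isPGroup p
  have hFR : generalizedFittingSubgroup H = R := Cfsg.Agent.Lib.Helper28.fStarP_genFitting_eq p hF
  have hdisj : R ⊓ D = ⊥ := Cfsg.Agent.Lib.Helper15.isPGroup_inf_coprime_eq_bot hRp hD
  have hPQ : Subgroup.zpowers a ≤ Subgroup.centralizer (D : Set H) := by
    rw [Subgroup.zpowers_le, Subgroup.mem_centralizer_iff]
    intro d hd
    have := hDa hd
    rw [Subgroup.mem_centralizer_iff] at this
    exact (this a rfl).symm
  have hnorm : ∀ K : Subgroup H, K ≤ Subgroup.normalizer (R : Set H) := by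
    intro K
    rw [Subgroup.normalizer_eq_top]
    exact le_top
  have hC : R ⊓ Subgroup.centralizer ((Subgroup.zpowers a : Subgroup H) : Set H) ≤
      Subgroup.centralizer (D : Set H) := by
    rw [centralizer_zpowers_eq]
    intro x hx
    rw [Subgroup.mem_centralizer_iff]
    intro d hd
    have hxn := hDn hx.2
    -- [x, d] lies in R ⊓ D
    have h1 : x * d * x⁻¹ ∈ D := (Subgroup.mem_normalizer_iff.mp hxn d).mp hd
    have h2 : x * d * x⁻¹ * d⁻¹ ∈ D := D.mul_mem h1 (D.inv_mem hd)
    have h3 : x * d * x⁻¹ * d⁻¹ ∈ R := by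
      have : x * (d * x⁻¹ * d⁻¹) ∈ R := R.mul_mem hx.1 (hRn.conj_mem _ (R.inv_mem hx.1) d)
      have e : x * d * x⁻¹ * d⁻¹ = x * (d * x⁻¹ * d⁻¹) := by group
      rw [e]; exact this
    have h4 : x * d * x⁻¹ * d⁻¹ ∈ R ⊓ D := ⟨h3, h2⟩
    rw [hdisj, Subgroup.mem_bot] at h4
    calc d * x = (x * d * x⁻¹ * d⁻¹)⁻¹ * (x * d) := by group
      _ = x * d := by rw [h4]; group
  have hcent := Cfsg.Agent.S0028.result p (Subgroup.zpowers a) D R ha hD hRp hPQ (hnorm _) (hnorm _) hC
  have hle : D ≤ R := by
    have h1 : D ≤ Subgroup.centralizer (generalizedFittingSubgroup H : Set H) := by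
      rw [hFR]; exact hcent
    have h2 := h1.trans Cfsg.Agent.Lib.Helper28.centralizer_genFitting_le
    rwa [hFR] at h2
  rw [eq_bot_iff, ← hdisj]
  exact le_inf hle le_rfl

/-- If `F*(H / O_{p'}(H))` is a `p`-group, `a^p = 1` and `D` is a `p'`-subgroup of `C_H(a)` normalized by
`C_H(a)`, then `D ≤ O_{p'}(H)`. -/
theorem le_pPrimeCore_of_normal_in_centralizer {H : Type*} [Group H] [Finite H] (p : ℕ)
    [Fact p.Prime] (hF : FStarP p (H ⧸ pPrimeCore p H)) (a : H) (ha : a ^ p = 1) (D : Subgroup H)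
    (hD : (Nat.card D).Coprime p) (hDa : D ≤ Subgroup.centralizer ({a} : Set H))
    (hDn : Subgroup.centralizer ({a} : Set H) ≤ Subgroup.normalizer (D : Set H)) :
    D ≤ pPrimeCore p H := by
  set N := pPrimeCore p H with hN
  set π := QuotientGroup.mk' N with hπ
  have hazp : IsPGroup p (Subgroup.zpowers a) := isPGroup_zpowers_of_pow_eq_one a ha
  have hazp' : IsPGroup p (Subgroup.zpowers (π a)) :=
    isPGroup_zpowers_of_pow_eq_one (π a) (by rw [← map_pow, ha, map_one])
  have hD' : (Nat.card (D.map π)).Coprime p :=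
    Nat.Coprime.coprime_dvd_left (Subgroup.card_map_dvd _ _) hD
  have hDa' : D.map π ≤ Subgroup.centralizer ({π a} : Set (H ⧸ N)) := by
    rintro _ ⟨d, hd, rfl⟩
    rw [Subgroup.mem_centralizer_iff]
    intro y hy
    rw [Set.mem_singleton_iff] at hy
    subst hy
    have := hDa hd
    rw [Subgroup.mem_centralizer_iff] at this
    rw [← map_mul, ← map_mul, this a rfl]
  have hDn' : Subgroup.centralizer ({π a} : Set (H ⧸ N)) ≤
      Subgroup.normalizer ((D.map π : Subgroup (H ⧸ N)) : Set (H ⧸ N)) := by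
    have h1 := Cfsg.Agent.Lib.Helper15.centralizer_map_mk_of_coprime N (pPrimeCore_coprime p)
      (Subgroup.zpowers a) hazp
    rw [MonoidHom.map_zpowers, centralizer_zpowers_eq, centralizer_zpowers_eq] at h1
    rw [h1]
    exact (Subgroup.map_mono hDn).trans (Subgroup.le_normalizer_map π)
  have hbot := eq_bot_of_normal_in_centralizer p hF (π a) hazp' (D.map π) hD' hDa' hDn'
  intro d hd
  have : π d ∈ D.map π := Subgroup.mem_map_of_mem _ hd
  rw [hbot, Subgroup.mem_bot] at this
  exact (QuotientGroup.eq_one_iff d).mp this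

/-- Solvable version. -/
theorem le_pPrimeCore_of_normal_in_centralizer_solvable {H : Type*} [Group H] [Finite H] (p : ℕ)
    [Fact p.Prime] (hs : Group.IsSolvable H) (a : H) (ha : a ^ p = 1) (D : Subgroup H)
    (hD : (Nat.card D).Coprime p) (hDa : D ≤ Subgroup.centralizer ({a} : Set H))
    (hDn : Subgroup.centralizer ({a} : Set H) ≤ Subgroup.normalizer (D : Set H)) :
    D ≤ pPrimeCore p H := by
  have hs' : Group.IsSolvable (H ⧸ pPrimeCore p H) :=
    Group.isSolvable_of_surjective (QuotientGroup.mk'_surjective (pPrimeCore p H))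
  exact le_pPrimeCore_of_normal_in_centralizer p
    (fStarP_of_solvable p hs' (pPrimeCore_quotient_eq_bot p)) a ha D hD hDa hDn

end Cfsg.Agent.Lib.Helper29
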