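import Mathlib
import Cfsg.Prelude.Def_Local
import Cfsg.Agent.Lib.Helper29.CorePrime
import Cfsg.Agent.Lib.Helper15.Cores
import Cfsg.Agent.Lib.Helper15.PSolv
import Cfsg.Agent.Lib.Helper30.PLayer

set_option autoImplicit false

namespace Cfsg.Agent.Lib.Helper29

open Cfsg
open Cfsg.Agent.Lib.Helper28 (FStarP)

/-- `O_{p',p}` is preserved by automorphisms (one inclusion). -/
theorem pPrimePCore_map_equiv_le {X : Type*} [Group X] (p : ℕ) (e : X ≃* X) :
    (pPrimePCore p X).map e.toMonoidHom ≤ pPrimePCore p X := by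
  rintro _ ⟨x, hx, rfl⟩
  have hx : QuotientGroup.mk' (pPrimeCore p X) x ∈ pCore p (X ⧸ pPrimeCore p X) := hx
  show QuotientGroup.mk' (pPrimeCore p X) (e x) ∈ pCore p (X ⧸ pPrimeCore p X)
  have h1 := Cfsg.Agent.Lib.Helper15.pCore_map_equiv p (Cfsg.Agent.Lib.Helper30.quotCoreEquiv p e)
  rw [← h1]
  exact ⟨_, hx, rfl⟩

/-- Conjugation by an element normalizing `K`, as an automorphism of `K`. -/
def conjEquivOfMemNormalizer {H : Type*} [Group H] (K : Subgroup H) (a : H)
    (ha : a ∈ Subgroup.normalizer (K : Set H)) : ↥K ≃* ↥K where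
  toFun x := ⟨a * x * a⁻¹, (Subgroup.mem_normalizer_iff.mp ha x).mp x.2⟩
  invFun x := ⟨a⁻¹ * x * a, by
    have := (Subgroup.mem_normalizer_iff.mp (Subgroup.inv_mem _ ha) x).mp x.2
    rwa [inv_inv] at this⟩
  left_inv x := by
    apply Subtype.ext
    show a⁻¹ * (a * x * a⁻¹) * a = x
    group
  right_inv x := by
    apply Subtype.ext
    show a * (a⁻¹ * x * a) * a⁻¹ = x
    group
  map_mul' x y := by
    apply Subtype.ext
    show a * (x * y) * a⁻¹ = (a * x * a⁻¹) * (a * y * a⁻¹)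
    group

/-- The image in `H` of a characteristic-type subgroup `O_{p',p}(K)` is normalized by `N_H(K)`. -/
theorem normalizer_le_normalizer_map_pPrimePCore {H : Type*} [Group H] (p : ℕ) (K : Subgroup H) :
    Subgroup.normalizer (K : Set H) ≤
      Subgroup.normalizer (((pPrimePCore p ↥K).map K.subtype : Subgroup H) : Set H) := by
  have key : ∀ a ∈ Subgroup.normalizer (K : Set H), ∀ x ∈ (pPrimePCore p ↥K).map K.subtype,
      a * x * a⁻¹ ∈ (pPrimePCore p ↥K).map K.subtype := by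
    intro a ha x hx
    obtain ⟨x', hx', rfl⟩ := hx
    have := pPrimePCore_map_equiv_le p (conjEquivOfMemNormalizer K a ha)
      (Subgroup.mem_map_of_mem _ hx')
    exact ⟨_, this, rfl⟩
  intro a ha
  rw [Subgroup.mem_normalizer_iff]
  intro x
  constructor
  · exact key a ha x
  · intro hx
    have := key a⁻¹ (Subgroup.inv_mem _ ha) _ hx
    have e : a⁻¹ * (a * x * a⁻¹) * a⁻¹⁻¹ = x := by group
    rwa [e] at this

/-- In a solvable group `K`, a subgroup of `O_{q',q}(K)` of order prime to `q` lies in `O_{q'}(K)`. -/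
theorem le_pPrimeCore_of_le_pPrimePCore {K : Type*} [Group K] [Finite K] (q : ℕ) [Fact q.Prime]
    (R : Subgroup K) (hR : R ≤ pPrimePCore q K) (hc : (Nat.card R).Coprime q) :
    R ≤ pPrimeCore q K := by
  set π := QuotientGroup.mk' (pPrimeCore q K) with hπ
  have h1 : R.map π ≤ pCore q (K ⧸ pPrimeCore q K) := by
    rintro _ ⟨x, hx, rfl⟩
    exact hR hx
  have h2 : IsPGroup q ↥(R.map π) :=
    (Cfsg.Agent.Lib.Helper28.pCore_isPGroup q).to_le h1
  have h3 : (Nat.card ↥(R.map π)).Coprime q :=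
    Nat.Coprime.coprime_dvd_left (Subgroup.card_map_dvd _ _) hc
  have h4 : R.map π = ⊥ := by
    obtain ⟨n, hn⟩ := IsPGroup.iff_card.mp h2
    rw [hn] at h3
    rcases Nat.eq_zero_or_pos n with h0 | hpos
    · rw [h0, pow_zero] at hn
      exact Subgroup.card_eq_one.mp hn
    · exfalso
      have h5 : q ∣ q ^ n := dvd_pow_self q hpos.ne'
      have h6 : q ∣ Nat.gcd (q ^ n) q := Nat.dvd_gcd h5 dvd_rfl
      rw [h3] at h6
      exact (Fact.out : q.Prime).one_lt.ne' (Nat.dvd_one.mp h6)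
  intro x hx
  have : π x ∈ R.map π := Subgroup.mem_map_of_mem _ hx
  rw [h4, Subgroup.mem_bot] at this
  exact (QuotientGroup.eq_one_iff x).mp this

/-- In a solvable group `K`, a subgroup `U` of order prime to `q` acting trivially on
`O_{q',q}(K) / O_{q'}(K)` lies in `O_{q'}(K)`. -/
theorem le_pPrimeCore_of_centralizes_quotient {K : Type*} [Group K] [Finite K] (q : ℕ)
    [Fact q.Prime] (hs : Group.IsSolvable K) (U : Subgroup K) (hU : (Nat.card U).Coprime q)
    (hcent : ∀ u ∈ U, ∀ x ∈ pPrimePCore q K, u * x * u⁻¹ * x⁻¹ ∈ pPrimeCore q K) :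
    U ≤ pPrimeCore q K := by
  set π := QuotientGroup.mk' (pPrimeCore q K) with hπ
  have hs' : Group.IsSolvable (K ⧸ pPrimeCore q K) :=
    Group.isSolvable_of_surjective (QuotientGroup.mk'_surjective (pPrimeCore q K))
  have hF : FStarP q (K ⧸ pPrimeCore q K) :=
    fStarP_of_solvable q hs' (pPrimeCore_quotient_eq_bot q)
  have hFR := Cfsg.Agent.Lib.Helper28.fStarP_genFitting_eq q hF
  have h1 : U.map π ≤ Subgroup.centralizer
      ((generalizedFittingSubgroup (K ⧸ pPrimeCore q K) : Subgroup _) : Set _) := by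
    rw [hFR]
    rintro _ ⟨u, hu, rfl⟩
    rw [Subgroup.mem_centralizer_iff]
    intro y hy
    obtain ⟨x, rfl⟩ := QuotientGroup.mk'_surjective (pPrimeCore q K) y
    have hx : x ∈ pPrimePCore q K := hy
    have h2 := hcent u hu x hx
    have h3 : π (u * x * u⁻¹ * x⁻¹) = 1 := (QuotientGroup.eq_one_iff _).mpr h2
    rw [map_mul, map_mul, map_mul, map_inv, map_inv] at h3
    calc π x * π u = (π u * π x * (π u)⁻¹ * (π x)⁻¹)⁻¹ * (π u * π x) := by group
      _ = π u * π x := by rw [h3]; group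
  have h2 := h1.trans Cfsg.Agent.Lib.Helper28.centralizer_genFitting_le
  rw [hFR] at h2
  apply le_pPrimeCore_of_le_pPrimePCore q U _ hU
  intro u hu
  exact h2 (Subgroup.mem_map_of_mem _ hu)

end Cfsg.Agent.Lib.Helper29
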