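import Mathlib
import Cfsg.Prelude.Def_Local
import Cfsg.Agent.Lib.Helper29.CompCore
import Cfsg.Agent.Lib.Helper29.QPrimeCore
import Cfsg.Agent.Lib.Helper29.Transitivity
import Cfsg.Agent.Lib.Helper28.AxB
import Cfsg.Agent.Lib.Helper28.Layer
import Cfsg.Agent.Lib.Helper30.Layer
import Cfsg.Agent.Lib.Helper30.PLayer
import Cfsg.Agent.Lib.Helper76.Fitting
import Cfsg.Agent.Lib.Helper71.PGroupNormalizer
import Cfsg.Agent.Lib.Helper15.Lifting
import Cfsg.Agent.Lib.Helper15.CommClosure

set_option autoImplicit false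

namespace Cfsg.Agent.Lib.Helper29

open Cfsg
open scoped commutatorElement

section general

/-- The image in `H` of `O_{p'}(K)` is normalized by `N_H(K)`. -/
theorem normalizer_le_normalizer_map_pPrimeCore {H : Type*} [Group H] (p : ℕ) (K : Subgroup H) :
    Subgroup.normalizer (K : Set H) ≤
      Subgroup.normalizer (((pPrimeCore p ↥K).map K.subtype : Subgroup H) : Set H) := by
  have key : ∀ a ∈ Subgroup.normalizer (K : Set H), ∀ x ∈ (pPrimeCore p ↥K).map K.subtype,
      a * x * a⁻¹ ∈ (pPrimeCore p ↥K).map K.subtype := by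
    intro a ha x hx
    obtain ⟨x', hx', rfl⟩ := hx
    have := Cfsg.Agent.Lib.Helper30.pPrimeCore_map_equiv_le p (conjEquivOfMemNormalizer K a ha)
      (Subgroup.mem_map_of_mem _ hx')
    exact ⟨_, this, rfl⟩
  intro a ha
  rw [Subgroup.mem_normalizer_iff]
  intro x
  constructor
  · exact key a ha x
  · intro hx
    have := key a⁻¹ (Subgroup.inv_mem _ ha) _ hx
    have e : a⁻¹ * (a * x * a⁻¹) * a⁻¹⁻¹ = x := by group
    rwa [e] at this

/-- If `O_{p'}(G) = 1` then `F(G) ≤ O_p(G)`. -/
theorem fitting_le_pCore_of_pPrimeCore_eq_bot {G : Type*} [Group G] [Finite G] (p : ℕ)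
    [hp : Fact p.Prime] (hO : pPrimeCore p G = ⊥) : fittingSubgroup G ≤ pCore p G := by
  rw [Cfsg.Agent.Lib.Helper76.fittingSubgroup_eq_pCoreJoin]
  unfold Cfsg.Agent.Lib.Helper76.pCoreJoin
  apply iSup_le
  intro q
  have hq : (q : ℕ).Prime := Nat.prime_of_mem_primeFactors q.2
  by_cases hqp : (q : ℕ) = p
  · rw [hqp]
  · have hqg : IsPGroup (q : ℕ) (pCore (q : ℕ) G) := Cfsg.Agent.Lib.Helper76.pCore_isPGroup _
    have : Fact (q : ℕ).Prime := ⟨hq⟩
    obtain ⟨n, hn⟩ := IsPGroup.iff_card.mp hqg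
    have hcop : (Nat.card (pCore (q : ℕ) G)).Coprime p := by
      rw [hn]
      apply Nat.Coprime.pow_left
      exact (Nat.coprime_primes hq hp.out).mpr hqp
    have hnorm : (pCore (q : ℕ) G).Normal := Cfsg.Agent.Lib.Helper76.pCore_normal _
    have := normal_le_pPrimeCore p (pCore (q : ℕ) G) hcop
    rw [hO] at this
    exact this.trans bot_le

/-- A `p`-element that is a power-coprime root: if `t ^ (p ^ j) = 1` and `n` is prime to `p`,
then `t` is a power of `t ^ n`. -/
theorem exists_pow_pow_eq_self {G : Type*} [Group G] {p : ℕ} {t : G} {j n : ℕ}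
    (ht : t ^ p ^ j = 1) (hn : n.Coprime p) : ∃ m : ℕ, (t ^ n) ^ m = t := by
  apply exists_pow_eq_self_of_coprime
  have h1 : orderOf t ∣ p ^ j := orderOf_dvd_of_pow_eq_one ht
  exact Nat.Coprime.coprime_dvd_right h1 (Nat.Coprime.pow_right j hn)

end general

section sylowS

variable {M : Type*} [Group M] [Finite M] (p : ℕ) [hp : Fact p.Prime]

omit [Finite M] hp in
theorem isPGroup_zpowers_of_pow_pow_eq_one {x : M} {j : ℕ} (hx : x ^ p ^ j = 1) :
    IsPGroup p (Subgroup.zpowers x) := by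
  intro g
  obtain ⟨i, hi⟩ := Subgroup.mem_zpowers_iff.mp g.2
  refine ⟨j, ?_⟩
  apply Subtype.ext
  rw [Subgroup.coe_pow, ← hi, ← zpow_natCast, ← zpow_mul, mul_comm, zpow_mul, zpow_natCast, hx]
  simp

/-- If `M = K R` with `K` normal and `R` a `p`-group such that every `p`-element of `N_K(R)`
lies in `R`, then `R` is a Sylow `p`-subgroup: every `p`-element of `M` is conjugate into `R`. -/
theorem exists_conj_mem_of_pElements (K R : Subgroup M) [hK : K.Normal] (hR : IsPGroup p R)
    (hKR : K ⊔ R = ⊤)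
    (h : ∀ k ∈ K, k ∈ Subgroup.normalizer (R : Set M) → (∃ j : ℕ, k ^ p ^ j = 1) → k ∈ R)
    (x : M) (hx : ∃ j : ℕ, x ^ p ^ j = 1) : ∃ g : M, g * x * g⁻¹ ∈ R := by
  obtain ⟨P, hRP⟩ := hR.exists_le_sylow
  have hPR : (P : Subgroup M) = R := by
    by_contra hne
    have hlt : R < (P : Subgroup M) := lt_of_le_of_ne hRP (Ne.symm hne)
    obtain ⟨t, htP, htN, htR⟩ :=
      Cfsg.Agent.Lib.Helper71.exists_mem_normalizer_notMem_of_lt p R P P.isPGroup' hlt
    have htop : t ∈ K ⊔ R := by rw [hKR]; trivial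
    have hmul : t ∈ ((K ⊔ R : Subgroup M) : Set M) := htop
    rw [Subgroup.normal_mul] at hmul
    obtain ⟨k, hk, r, hr, rfl⟩ := Set.mem_mul.mp hmul
    have hkP : k ∈ (P : Subgroup M) := by
      have : k = (k * r) * r⁻¹ := by group
      rw [this]
      exact Subgroup.mul_mem _ htP (Subgroup.inv_mem _ (hRP hr))
    have hkN : k ∈ Subgroup.normalizer (R : Set M) := by
      have : k = (k * r) * r⁻¹ := by group
      rw [this]
      exact Subgroup.mul_mem _ htN (Subgroup.inv_mem _ (Subgroup.le_normalizer hr))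
    have hkp : ∃ j : ℕ, k ^ p ^ j = 1 := by
      obtain ⟨j, hj⟩ := P.isPGroup' ⟨k, hkP⟩
      refine ⟨j, ?_⟩
      have := congrArg Subtype.val hj
      simpa using this
    exact htR (Subgroup.mul_mem _ (h k hk hkN hkp) hr)
  obtain ⟨j, hj⟩ := hx
  obtain ⟨Q, hxQ⟩ := (isPGroup_zpowers_of_pow_pow_eq_one p hj).exists_le_sylow
  obtain ⟨g, hg⟩ := MulAction.exists_smul_eq M Q P
  refine ⟨g, ?_⟩
  rw [← hPR, ← hg, Sylow.coe_subgroup_smul]
  exact ⟨x, hxQ (Subgroup.mem_zpowers x), rfl⟩

end sylowS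

section thmA

variable {G : Type*} [Group G] [Finite G] {p : ℕ} [hp : Fact p.Prime]

/-- `W` and `R` commute elementwise when `W` is a normal `p'`-subgroup of `N_G(R)`. -/
theorem localCore_commute (R W : Subgroup G) (hR : IsPGroup p R)
    (hWR : W ≤ Subgroup.normalizer (R : Set G))
    (hRW : Subgroup.normalizer (R : Set G) ≤ Subgroup.normalizer (W : Set G))
    (hW : (Nat.card W).Coprime p) : ⁅W, R⁆ = ⊥ := by
  have h1 : ⁅W, R⁆ ≤ R := Subgroup.le_normalizer_iff_commutator_le_right.1 hWR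
  have h2 : ⁅W, R⁆ ≤ W := by
    rw [Subgroup.commutator_comm]
    exact Subgroup.le_normalizer_iff_commutator_le_right.1 (Subgroup.le_normalizer.trans hRW)
  have h3 : R ⊓ W = ⊥ := Cfsg.Agent.Lib.Helper15.isPGroup_inf_coprime_eq_bot hR hW
  rw [eq_bot_iff, ← h3]
  exact le_inf h1 h2

/-- A normal `p'`-subgroup of a `p`-local subgroup centralizes `O_p(G)`. -/
theorem localCore_centralizes_pCore (R W : Subgroup G) (hR : IsPGroup p R)
    (hWR : W ≤ Subgroup.normalizer (R : Set G))
    (hRW : Subgroup.normalizer (R : Set G) ≤ Subgroup.normalizer (W : Set G))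
    (hW : (Nat.card W).Coprime p) : ⁅W, pCore p G⁆ = ⊥ := by
  have hcl : Cfsg.Agent.Lib.Helper28.PClosing p W := by
    apply Cfsg.Agent.Lib.Helper28.pClosing_of_coprime
    intro x hx
    exact Nat.Coprime.coprime_dvd_left (Subgroup.orderOf_dvd_natCard W hx) hW
  apply Cfsg.Agent.Lib.Helper28.pClosing_centralizes_pCore R hR W hcl
    (localCore_commute R W hR hWR hRW hW)
  have hZn : (pCore p G).Normal := Cfsg.Agent.Lib.Helper76.pCore_normal p
  have h1 : ⁅W, pCore p G ⊓ Subgroup.normalizer (R : Set G)⁆ ≤ pCore p G := by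
    have : ⁅W, pCore p G ⊓ Subgroup.normalizer (R : Set G)⁆ ≤ ⁅(⊤ : Subgroup G), pCore p G⁆ :=
      Subgroup.commutator_mono le_top inf_le_left
    exact this.trans (Subgroup.commutator_le_right _ _)
  have h2 : ⁅W, pCore p G ⊓ Subgroup.normalizer (R : Set G)⁆ ≤ W := by
    rw [Subgroup.commutator_comm]
    exact Subgroup.le_normalizer_iff_commutator_le_right.1 (inf_le_right.trans hRW)
  have h3 : pCore p G ⊓ W = ⊥ :=
    Cfsg.Agent.Lib.Helper15.isPGroup_inf_coprime_eq_bot
      (Cfsg.Agent.Lib.Helper76.pCore_isPGroup p) hW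
  rw [eq_bot_iff, ← h3]
  exact le_inf h1 h2

end thmA

section cj

variable {G : Type*} [Group G]

/-- The conjugate `g L g⁻¹`. -/
def cjMap (L : Subgroup G) (g : G) : Subgroup G :=
  L.map (MulAut.conj g).toMonoidHom

theorem cjMap_one (L : Subgroup G) : cjMap L 1 = L := map_conj_one L

theorem cjMap_mul (L : Subgroup G) (x y : G) :
    cjMap L (x * y) = (cjMap L y).map (MulAut.conj x).toMonoidHom := map_conj_mul L x y

theorem isComponent_cjMap {L : Subgroup G} (hL : IsComponent L) (g : G) :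
    IsComponent (cjMap L g) := Cfsg.Agent.Lib.Helper30.isComponent_conj g hL

theorem le_normalizer_iSup_cjMap (L R : Subgroup G) :
    R ≤ Subgroup.normalizer ((⨆ r : R, cjMap L (r : G) : Subgroup G) : Set G) := by
  intro s hs
  apply mem_normalizer_of_map_conj_eq
  rw [Subgroup.map_iSup]
  apply le_antisymm
  · apply iSup_le
    intro r
    rw [← cjMap_mul]
    exact le_iSup (fun r : R => cjMap L (r : G)) ((⟨s, hs⟩ : R) * r)
  · apply iSup_le
    intro r
    let r' : R := (⟨s, hs⟩ : R)⁻¹ * r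
    have h1 : cjMap L (r : G) = (cjMap L (r' : G)).map (MulAut.conj s).toMonoidHom := by
      rw [← cjMap_mul]
      congr 1
      simp [r']
    exact le_iSup_of_le r' (le_of_eq h1)

theorem map_conj_iSup_cjMap (L R : Subgroup G) (w : G) :
    (⨆ r : R, cjMap L (r : G)).map (MulAut.conj w).toMonoidHom = ⨆ r : R, cjMap L (w * (r : G)) := by
  rw [Subgroup.map_iSup]
  apply iSup_congr
  intro r
  exact (cjMap_mul L _ _).symm

end cj

section thmB

variable {G : Type*} [Group G] [Finite G] {p : ℕ} [hp : Fact p.Prime]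

omit [Finite G] hp in
theorem pow_eq_one_of_mem_isPGroup {R : Subgroup G} (hR : IsPGroup p R) {r : G} (hr : r ∈ R) :
    ∃ j : ℕ, r ^ p ^ j = 1 := by
  obtain ⟨j, hj⟩ := hR ⟨r, hr⟩
  refine ⟨j, ?_⟩
  have h' := congrArg Subtype.val hj
  rw [Subgroup.coe_pow] at h'
  exact h'

omit hp in
theorem pow_card_eq_one_of_mem {W : Subgroup G} {w : G} (hw : w ∈ W) : w ^ Nat.card W = 1 := by
  have h := pow_card_eq_one' (G := W) (x := ⟨w, hw⟩)
  have h' := congrArg Subtype.val h
  rw [Subgroup.coe_pow] at h'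
  exact h'

/-- Semiregularity: if `w` (of order prime to `p`) commutes with the `p`-group `R` and moves `L`,
then `w L w⁻¹` is not an `R`-conjugate of `L`. -/
theorem cjMap_ne_of_commute (R : Subgroup G) (hR : IsPGroup p R) (L : Subgroup G) (w : G) (n : ℕ)
    (hwn : w ^ n = 1) (hn : n.Coprime p) (hcomm : ∀ r ∈ R, w * r = r * w)
    (hwL : w ∉ Subgroup.normalizer (L : Set G)) : ∀ r ∈ R, cjMap L w ≠ cjMap L r := by
  intro r hr heq
  have hpow : ∀ k : ℕ, cjMap L (w ^ k) = cjMap L (r ^ k) := by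
    intro k
    induction k with
    | zero => simp
    | succ k ih =>
      have hc : w * r ^ k = r ^ k * w := hcomm _ (Subgroup.pow_mem _ hr k)
      calc cjMap L (w ^ (k + 1)) = cjMap L (w * w ^ k) := by rw [pow_succ']
        _ = (cjMap L (w ^ k)).map (MulAut.conj w).toMonoidHom := cjMap_mul _ _ _
        _ = (cjMap L (r ^ k)).map (MulAut.conj w).toMonoidHom := by rw [ih]
        _ = cjMap L (w * r ^ k) := (cjMap_mul _ _ _).symm
        _ = cjMap L (r ^ k * w) := by rw [hc]
        _ = (cjMap L w).map (MulAut.conj (r ^ k)).toMonoidHom := cjMap_mul _ _ _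
        _ = (cjMap L r).map (MulAut.conj (r ^ k)).toMonoidHom := by rw [heq]
        _ = cjMap L (r ^ k * r) := (cjMap_mul _ _ _).symm
        _ = cjMap L (r ^ (k + 1)) := by rw [pow_succ]
  have h1 := hpow n
  rw [hwn, cjMap_one] at h1
  have h2 : r ^ n ∈ Subgroup.normalizer (L : Set G) := mem_normalizer_of_map_conj_eq L _ h1.symm
  obtain ⟨j, hj⟩ := pow_eq_one_of_mem_isPGroup hR hr
  obtain ⟨m, hm⟩ := exists_pow_pow_eq_self hj hn
  have h3 : r ∈ Subgroup.normalizer (L : Set G) := by
    rw [← hm]; exact Subgroup.pow_mem _ h2 m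
  have h4 : cjMap L r = L := map_conj_eq_of_mem_normalizer L r h3
  rw [h4] at heq
  exact hwL (mem_normalizer_of_map_conj_eq L w heq)

omit hp in
/-- The centre of a product of an orbit of components lies in `F(G)`. -/
theorem orbit_center_le_fitting (R L : Subgroup G) (hL : IsComponent L) :
    (⨆ r : R, cjMap L (r : G)) ⊓
      Subgroup.centralizer ((⨆ r : R, cjMap L (r : G) : Subgroup G) : Set G) ≤
      fittingSubgroup G := by
  set K : Subgroup G := ⨆ r : R, cjMap L (r : G) with hK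
  have hcomp : ∀ g, IsComponent (cjMap L g) := isComponent_cjMap hL
  have hKE : K ≤ layer G := iSup_le fun r => Cfsg.Agent.Lib.Helper30.component_le_layer (hcomp _)
  have hEC : layer G ≤ Subgroup.centralizer
      ((K ⊓ Subgroup.centralizer (K : Set G) : Subgroup G) : Set G) := by
    apply Cfsg.Agent.Lib.Helper30.layer_le
    intro L' hL'
    by_cases hex : ∃ r : R, L' = cjMap L (r : G)
    · obtain ⟨r, rfl⟩ := hex
      have h1 : cjMap L (r : G) ≤ K := le_iSup (fun r : R => cjMap L (r : G)) r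
      refine h1.trans ?_
      rw [Subgroup.le_centralizer_iff]
      exact inf_le_right
    · push Not at hex
      have h1 : K ≤ Subgroup.centralizer (L' : Set G) := by
        apply iSup_le
        intro r
        rw [← Subgroup.commutator_eq_bot_iff_le_centralizer]
        exact Cfsg.Agent.Lib.Helper30.component_commute (hcomp _) hL' (hex r).symm
      rw [Subgroup.le_centralizer_iff] at h1
      exact h1.trans (Subgroup.centralizer_le inf_le_left)
  have h2 : K ⊓ Subgroup.centralizer (K : Set G) ≤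
      layer G ⊓ Subgroup.centralizer (layer G : Set G) := by
    refine le_inf (inf_le_left.trans hKE) ?_
    rw [Subgroup.le_centralizer_iff]
    exact hEC
  have h3 := Cfsg.Agent.Lib.Helper30.center_layer_eq (G := G)
  rw [Cfsg.Agent.Lib.Helper30.map_center_subtype] at h3
  rw [h3] at h2
  exact h2.trans inf_le_left

/-- Core case of the normalization theorem: `O_p(G) ≤ R`. -/
theorem localCore_le_normalizer_component_aux (hO : pPrimeCore p G = ⊥) (R W : Subgroup G)
    (hR : IsPGroup p R) (hZR : pCore p G ≤ R)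
    (hWR : W ≤ Subgroup.normalizer (R : Set G))
    (hRW : Subgroup.normalizer (R : Set G) ≤ Subgroup.normalizer (W : Set G))
    (hW : (Nat.card W).Coprime p) (L : Subgroup G) (hL : IsComponent L) :
    W ≤ Subgroup.normalizer (L : Set G) := by
  intro w hw
  by_contra hwL
  have hcomp : ∀ g, IsComponent (cjMap L g) := isComponent_cjMap hL
  -- `w` commutes with `R`
  have hWRc : ⁅W, R⁆ = ⊥ := localCore_commute R W hR hWR hRW hW
  have hcomm : ∀ r ∈ R, w * r = r * w := by
    intro r hr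
    have h1 : ⁅w, r⁆ ∈ ⁅W, R⁆ := Subgroup.commutator_mem_commutator hw hr
    rw [hWRc, Subgroup.mem_bot, commutatorElement_eq_one_iff_mul_comm] at h1
    exact h1
  have hwn : w ^ Nat.card W = 1 := pow_card_eq_one_of_mem hw
  have hB2 := cjMap_ne_of_commute R hR L w _ hwn hW hcomm hwL
  -- the orbit products
  set K : Subgroup G := ⨆ r : R, cjMap L (r : G) with hK
  set K' : Subgroup G := ⨆ r : R, cjMap L (w * (r : G)) with hK'
  have hLK : L ≤ K := by
    have h := le_iSup (fun r : R => cjMap L (r : G)) (1 : R)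
    rw [show ((1 : R) : G) = 1 from rfl, cjMap_one] at h
    exact h
  have hKK' : K' ≤ Subgroup.centralizer (K : Set G) := by
    apply iSup_le
    intro r'
    rw [Subgroup.le_centralizer_iff]
    apply iSup_le
    intro r
    rw [← Subgroup.commutator_eq_bot_iff_le_centralizer]
    apply Cfsg.Agent.Lib.Helper30.component_commute (hcomp _) (hcomp _)
    intro heq
    have h1 : cjMap L ((r' : G)⁻¹ * (r : G)) = cjMap L w := by
      have hc : w * (r' : G) = (r' : G) * w := hcomm _ r'.2
      calc cjMap L ((r' : G)⁻¹ * (r : G))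
          = (cjMap L (r : G)).map (MulAut.conj (r' : G)⁻¹).toMonoidHom := cjMap_mul _ _ _
        _ = (cjMap L (w * (r' : G))).map (MulAut.conj (r' : G)⁻¹).toMonoidHom := by rw [heq]
        _ = cjMap L ((r' : G)⁻¹ * (w * (r' : G))) := (cjMap_mul _ _ _).symm
        _ = cjMap L w := by rw [hc]; congr 1; group
    exact hB2 _ (Subgroup.mul_mem _ (Subgroup.inv_mem _ r'.2) r.2) h1.symm
  have hKw : ∀ k ∈ K, w * k * w⁻¹ ∈ K' := by
    intro k hk
    rw [hK', ← map_conj_iSup_cjMap L R w]
    exact ⟨k, hk, rfl⟩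
  have hRK : R ≤ Subgroup.normalizer (K : Set G) := le_normalizer_iSup_cjMap L R
  -- `Z(K) ≤ O_p(G)`
  have hA : K ⊓ Subgroup.centralizer (K : Set G) ≤ pCore p G :=
    (orbit_center_le_fitting R L hL).trans (fitting_le_pCore_of_pPrimeCore_eq_bot p hO)
  -- the diagonal argument
  have hα : ∀ t ∈ K, t ∈ Subgroup.normalizer (R : Set G) → (∃ j : ℕ, t ^ p ^ j = 1) → t ∈ R := by
    intro t htK htN ⟨j, hj⟩
    have htW : t⁻¹ ∈ Subgroup.normalizer (W : Set G) := hRW (Subgroup.inv_mem _ htN)
    have h1 : t⁻¹ * w * t⁻¹⁻¹ ∈ W := (Subgroup.mem_normalizer_iff.mp htW w).mp hw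
    rw [inv_inv] at h1
    have h2 : t⁻¹ * w * t * w⁻¹ ∈ W := Subgroup.mul_mem _ h1 (Subgroup.inv_mem _ hw)
    have ht'K : w * t * w⁻¹ ∈ K' := hKw t htK
    have ht'C : w * t * w⁻¹ ∈ Subgroup.centralizer (K : Set G) := hKK' ht'K
    have hc : Commute t⁻¹ (w * t * w⁻¹) := by
      rw [Subgroup.mem_centralizer_iff] at ht'C
      exact ht'C _ (Subgroup.inv_mem _ htK)
    have h3 : t⁻¹ * w * t * w⁻¹ = t⁻¹ * (w * t * w⁻¹) := by group
    have h4 : (t⁻¹ * (w * t * w⁻¹)) ^ Nat.card W = 1 := by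
      rw [← h3]; exact pow_card_eq_one_of_mem h2
    rw [hc.mul_pow] at h4
    have h5 : t ^ Nat.card W = (w * t * w⁻¹) ^ Nat.card W := by
      have : (w * t * w⁻¹) ^ Nat.card W = ((t⁻¹) ^ Nat.card W)⁻¹ :=
        (eq_inv_of_mul_eq_one_right h4)
      rw [this, inv_pow, inv_inv]
    have h6 : t ^ Nat.card W ∈ K ⊓ Subgroup.centralizer (K : Set G) :=
      ⟨Subgroup.pow_mem _ htK _, by rw [h5]; exact Subgroup.pow_mem _ ht'C _⟩
    obtain ⟨m, hm⟩ := exists_pow_pow_eq_self hj hW
    have h7 : t ∈ K ⊓ Subgroup.centralizer (K : Set G) := by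
      rw [← hm]; exact Subgroup.pow_mem _ h6 m
    exact hZR (hA h7)
  -- Sylow argument in `M = K R`
  set M : Subgroup G := K ⊔ R with hM
  have hKM : K ≤ M := le_sup_left
  have hRM : R ≤ M := le_sup_right
  have hMK : M ≤ Subgroup.normalizer (K : Set G) := sup_le Subgroup.le_normalizer hRK
  have hKn : (K.subgroupOf M).Normal := (Subgroup.normal_subgroupOf_iff_le_normalizer hKM).2 hMK
  have hR0 : IsPGroup p (R.subgroupOf M) :=
    hR.comap_of_injective M.subtype M.subtype_injective
  have htop : K.subgroupOf M ⊔ R.subgroupOf M = ⊤ := by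
    rw [← Subgroup.subgroupOf_sup hKM hRM, Subgroup.subgroupOf_self]
  have hS := exists_conj_mem_of_pElements p (K.subgroupOf M) (R.subgroupOf M) hR0 htop (by
    intro k hk hkN ⟨j, hj⟩
    rw [← Subgroup.subgroupOf_normalizer_eq hRM] at hkN
    rw [Subgroup.mem_subgroupOf] at hk hkN ⊢
    refine hα _ hk hkN ⟨j, ?_⟩
    have h' := congrArg Subtype.val hj
    rw [Subgroup.coe_pow] at h'
    exact h')
  -- final contradiction
  apply component_pElements_not_central p hO L hL
  intro s hs ⟨k, hk⟩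
  have hsM : s ∈ M := hKM (hLK hs)
  obtain ⟨g, hg⟩ := hS ⟨s, hsM⟩ ⟨k, by apply Subtype.ext; rw [Subgroup.coe_pow]; exact hk⟩
  rw [Subgroup.mem_subgroupOf] at hg
  have hyR : (g : G) * s * (g : G)⁻¹ ∈ R := hg
  have hyK : (g : G) * s * (g : G)⁻¹ ∈ K :=
    (Subgroup.mem_normalizer_iff.mp (hMK g.2) s).mp (hLK hs)
  have hyw : w * ((g : G) * s * (g : G)⁻¹) * w⁻¹ = (g : G) * s * (g : G)⁻¹ := by
    rw [hcomm _ hyR]; group
  have hyC : (g : G) * s * (g : G)⁻¹ ∈ Subgroup.centralizer (K : Set G) := by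
    have := hKK' (hKw _ hyK)
    rwa [hyw] at this
  have hyZ : (g : G) * s * (g : G)⁻¹ ∈ pCore p G := hA ⟨hyK, hyC⟩
  have hZn : (pCore p G).Normal := Cfsg.Agent.Lib.Helper76.pCore_normal p
  have hsZ : s ∈ pCore p G := by
    have h1 := hZn.conj_mem _ hyZ (g : G)⁻¹
    have h2 : (g : G)⁻¹ * ((g : G) * s * (g : G)⁻¹) * (g : G)⁻¹⁻¹ = s := by group
    rwa [h2] at h1
  have hLZ := Cfsg.Agent.Lib.Helper28.component_centralizes_pCore p hL
  rw [Subgroup.commutator_comm, Subgroup.commutator_eq_bot_iff_le_centralizer] at hLZ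
  exact hLZ hsZ

end thmB

section thmB2

variable {G : Type*} [Group G] [Finite G] {p : ℕ} [hp : Fact p.Prime]

/-- **Normalization theorem.** If `O_{p'}(G) = 1`, `R` is a `p`-subgroup and `W` is a normal
`p'`-subgroup of `N_G(R)`, then `W` normalizes every component of `G`. -/
theorem localCore_le_normalizer_component (hO : pPrimeCore p G = ⊥) (R W : Subgroup G)
    (hR : IsPGroup p R)
    (hWR : W ≤ Subgroup.normalizer (R : Set G))
    (hRW : Subgroup.normalizer (R : Set G) ≤ Subgroup.normalizer (W : Set G))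
    (hW : (Nat.card W).Coprime p) (L : Subgroup G) (hL : IsComponent L) :
    W ≤ Subgroup.normalizer (L : Set G) := by
  have hZn : (pCore p G).Normal := Cfsg.Agent.Lib.Helper76.pCore_normal p
  have hZp : IsPGroup p (pCore p G) := Cfsg.Agent.Lib.Helper76.pCore_isPGroup p
  set R' : Subgroup G := R ⊔ pCore p G with hR'
  have hR'p : IsPGroup p R' := IsPGroup.to_sup_of_normal_right hR hZp
  set C' : Subgroup G := Subgroup.centralizer (R' : Set G) with hC'
  set W' : Subgroup G := (pPrimeCore p ↥C').map C'.subtype with hW'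
  -- `W ≤ C'`
  have hWRc : ⁅W, R⁆ = ⊥ := localCore_commute R W hR hWR hRW hW
  have hWZc : ⁅W, pCore p G⁆ = ⊥ := localCore_centralizes_pCore R W hR hWR hRW hW
  have hWC' : W ≤ C' := by
    rw [hC', Subgroup.le_centralizer_iff, hR']
    apply sup_le
    · rw [← Subgroup.le_centralizer_iff, ← Subgroup.commutator_eq_bot_iff_le_centralizer]
      exact hWRc
    · rw [← Subgroup.le_centralizer_iff, ← Subgroup.commutator_eq_bot_iff_le_centralizer]
      exact hWZc
  have hC'N : C' ≤ Subgroup.normalizer (W : Set G) := by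
    have h1 : C' ≤ Subgroup.centralizer (R : Set G) := Subgroup.centralizer_le (show R ≤ R' from le_sup_left)
    exact (h1.trans (Subgroup.centralizer_le_normalizer _)).trans hRW
  have hWW' : W ≤ W' := by
    have hn : (W.subgroupOf C').Normal :=
      (Subgroup.normal_subgroupOf_iff_le_normalizer hWC').2 hC'N
    have hc : (Nat.card (W.subgroupOf C')).Coprime p := by
      rw [Nat.card_congr (Subgroup.subgroupOfEquivOfLe hWC').toEquiv]
      exact hW
    have h1 := normal_le_pPrimeCore p (W.subgroupOf C') hc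
    intro x hx
    exact ⟨⟨x, hWC' hx⟩, h1 (Subgroup.mem_subgroupOf.mpr hx), rfl⟩
  have hW'C' : W' ≤ C' := Subgroup.map_subtype_le _
  have hW'R' : W' ≤ Subgroup.normalizer (R' : Set G) :=
    hW'C'.trans (Subgroup.centralizer_le_normalizer _)
  have hR'W' : Subgroup.normalizer (R' : Set G) ≤ Subgroup.normalizer (W' : Set G) :=
    (Cfsg.Agent.Lib.Helper15.normalizer_le_normalizer_centralizer R').trans
      (normalizer_le_normalizer_map_pPrimeCore p C')
  have hW'c : (Nat.card W').Coprime p := by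
    rw [hW', Subgroup.card_map_of_injective (Subgroup.subtype_injective _)]
    exact pPrimeCore_coprime p
  exact hWW'.trans
    (localCore_le_normalizer_component_aux hO R' W' hR'p le_sup_right hW'R' hR'W' hW'c L hL)

end thmB2

end Cfsg.Agent.Lib.Helper29
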