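import Mathlib
import Cfsg.Prelude.Def_Transfer

set_option autoImplicit false

/-!
# Bender–Glauberman Theorem 3.6: the final configuration, auxiliary lemmas
-/

namespace Cfsg.Agent.Lib.Helper29.BG36

open Cfsg

variable {Γ : Type*} [Group Γ]


/-- commutators of elements normalizing a cyclic subgroup centralize it -/
theorem comm_mem_centralizer_of_isCyclic (Q : Subgroup Γ) (hQ : IsCyclic Q) {a b : Γ}
    (ha : a ∈ Subgroup.normalizer (Q : Set Γ)) (hb : b ∈ Subgroup.normalizer (Q : Set Γ)) :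
    a * b * a⁻¹ * b⁻¹ ∈ Subgroup.centralizer (Q : Set Γ) := by
  obtain ⟨g, hg⟩ := hQ.exists_generator
  have hgen : ∀ y ∈ Q, ∃ k : ℤ, (g : Γ) ^ k = y := by
    intro y hy
    obtain ⟨k, hk⟩ := Subgroup.mem_zpowers_iff.mp (hg ⟨y, hy⟩)
    exact ⟨k, by simpa using congrArg Subtype.val hk⟩
  have hconj : ∀ u ∈ Subgroup.normalizer (Q : Set Γ), ∃ i : ℤ, (g : Γ) ^ i = u * g * u⁻¹ := by
    intro u hu
    exact hgen _ ((Subgroup.mem_normalizer_iff.mp hu _).mp g.2)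
  have hu : a⁻¹ ∈ Subgroup.normalizer (Q : Set Γ) := Subgroup.inv_mem _ ha
  have hw : b⁻¹ ∈ Subgroup.normalizer (Q : Set Γ) := Subgroup.inv_mem _ hb
  obtain ⟨i, hi⟩ := hconj _ hu
  obtain ⟨j, hj⟩ := hconj _ hw
  have h1 : (a⁻¹ * b⁻¹) * g * (a⁻¹ * b⁻¹)⁻¹ = (g : Γ) ^ (i * j) := by
    have : (a⁻¹ * b⁻¹) * g * (a⁻¹ * b⁻¹)⁻¹ = a⁻¹ * (b⁻¹ * g * b⁻¹⁻¹) * a⁻¹⁻¹ := by group
    rw [this, ← hj, ← conj_zpow, ← hi, ← zpow_mul]
  have h2 : (b⁻¹ * a⁻¹) * g * (b⁻¹ * a⁻¹)⁻¹ = (g : Γ) ^ (i * j) := by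
    have : (b⁻¹ * a⁻¹) * g * (b⁻¹ * a⁻¹)⁻¹ = b⁻¹ * (a⁻¹ * g * a⁻¹⁻¹) * b⁻¹⁻¹ := by group
    rw [this, ← hi, ← conj_zpow, ← hj, ← zpow_mul, mul_comm]
  have hc : (a * b * a⁻¹ * b⁻¹) * g * (a * b * a⁻¹ * b⁻¹)⁻¹ = g := by
    have e : (a * b * a⁻¹ * b⁻¹) * g * (a * b * a⁻¹ * b⁻¹)⁻¹ =
        (b⁻¹ * a⁻¹)⁻¹ * ((a⁻¹ * b⁻¹) * g * (a⁻¹ * b⁻¹)⁻¹) * (b⁻¹ * a⁻¹) := by group
    rw [e, h1, ← h2]; group
  rw [Subgroup.mem_centralizer_iff]
  intro y hy
  obtain ⟨k, rfl⟩ := hgen y hy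
  have h3 : (a * b * a⁻¹ * b⁻¹) * (g : Γ) ^ k * (a * b * a⁻¹ * b⁻¹)⁻¹ = (g : Γ) ^ k := by
    rw [← conj_zpow, hc]
  calc (g : Γ) ^ k * (a * b * a⁻¹ * b⁻¹)
      = ((a * b * a⁻¹ * b⁻¹) * (g : Γ) ^ k * (a * b * a⁻¹ * b⁻¹)⁻¹) * (a * b * a⁻¹ * b⁻¹) := by rw [h3]
    _ = (a * b * a⁻¹ * b⁻¹) * (g : Γ) ^ k := by group

/-- a cyclic group of exponent dividing a prime `p` has order at most `p` -/
theorem card_le_of_isCyclic_of_pow_eq_one {A : Type*} [Group A] [Finite A] (hA : IsCyclic A) {p : ℕ}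
    (hp : 0 < p) (h : ∀ a : A, a ^ p = 1) : Nat.card A ≤ p := by
  have h1 : Monoid.exponent A ∣ p := Monoid.exponent_dvd_of_forall_pow_eq_one h
  rw [IsCyclic.exponent_eq_card] at h1
  exact Nat.le_of_dvd hp h1



/-- in a finite cyclic group, an element killed by `p` lies in the subgroup generated by any element
of order `p` -/
theorem mem_zpowers_of_isCyclic {A : Type*} [Group A] [Finite A] (hA : IsCyclic A) {p : ℕ}
    (hp : p.Prime) (v z : A) (hv : orderOf v = p) (hz : z ^ p = 1) : z ∈ Subgroup.zpowers v := by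
  classical
  have : Fintype A := Fintype.ofFinite A
  have hle := IsCyclic.card_pow_eq_one_le (α := A) hp.pos
  set S := Finset.univ.filter (fun a : A => a ^ p = 1) with hS
  set T := (Finset.range p).image (fun i => v ^ i) with hT
  have hTS : T ⊆ S := by
    intro a ha
    rw [hT, Finset.mem_image] at ha
    obtain ⟨i, -, rfl⟩ := ha
    rw [hS, Finset.mem_filter]
    refine ⟨Finset.mem_univ _, ?_⟩
    rw [← pow_mul, mul_comm, pow_mul, ← hv, pow_orderOf_eq_one, one_pow]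
  have hTc : T.card = p := by
    rw [hT, Finset.card_image_of_injOn, Finset.card_range]
    intro i hi j hj hij
    have hi' : i < orderOf v := by rw [hv]; exact Finset.mem_range.mp hi
    have hj' : j < orderOf v := by rw [hv]; exact Finset.mem_range.mp hj
    exact pow_injOn_Iio_orderOf hi' hj' hij
  have hST : T = S := Finset.eq_of_subset_of_card_le hTS (by rw [hTc]; exact hle)
  have hzS : z ∈ S := by
    rw [hS, Finset.mem_filter]; exact ⟨Finset.mem_univ _, hz⟩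
  rw [← hST, hT, Finset.mem_image] at hzS
  obtain ⟨i, -, rfl⟩ := hzS
  exact Subgroup.npow_mem_zpowers v i

theorem isPGroup_of_isElementaryAbelian {p : ℕ} {V : Subgroup Γ} (hV : IsElementaryAbelian p V) :
    IsPGroup p V := by
  intro g
  refine ⟨1, ?_⟩
  apply Subtype.ext
  rw [pow_one]
  simpa using hV.2 g g.2

theorem comm_of_isElementaryAbelian {p : ℕ} {V : Subgroup Γ} (hV : IsElementaryAbelian p V) :
    ∀ a ∈ V, ∀ b ∈ V, a * b = b * a := by
  intro a ha b hb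
  have := hV.1.is_comm.comm ⟨a, ha⟩ ⟨b, hb⟩
  exact congrArg Subtype.val this

/-- `V ∩ P₀ = 1` in the configuration -/
theorem inf_eq_bot_of_faithful {p q : ℕ} [Fact p.Prime] [Fact q.Prime] (hpq : p ≠ q)
    (V Q P₀ : Subgroup Γ) (hV : IsPGroup p V) (hQ : IsPGroup q Q)
    (hQV : Q ≤ Subgroup.normalizer (V : Set Γ)) (hPQ : P₀ ≤ Subgroup.normalizer (Q : Set Γ))
    (hfPQ : P₀ ⊓ Subgroup.centralizer (Q : Set Γ) = ⊥) : V ⊓ P₀ = ⊥ := by
  rw [eq_bot_iff]
  intro v hv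
  rw [Subgroup.mem_inf] at hv
  rw [← hfPQ]
  refine Subgroup.mem_inf.mpr ⟨hv.2, ?_⟩
  rw [Subgroup.mem_centralizer_iff]
  intro y hy
  have h1 : v * y * v⁻¹ * y⁻¹ ∈ Q :=
    Q.mul_mem ((Subgroup.mem_normalizer_iff.mp (hPQ hv.2) y).mp hy) (Q.inv_mem hy)
  have h2 : v * y * v⁻¹ * y⁻¹ ∈ V := by
    have : v * y * v⁻¹ * y⁻¹ = v * (y * v⁻¹ * y⁻¹) := by group
    rw [this]
    exact V.mul_mem hv.1 ((Subgroup.mem_normalizer_iff.mp (hQV hy) _).mp (V.inv_mem hv.1))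
  have hdisj : Disjoint V Q := IsPGroup.disjoint_of_ne p q hpq V Q hV hQ
  have h3 : v * y * v⁻¹ * y⁻¹ = 1 := by
    have := Subgroup.disjoint_def.mp hdisj h2 h1
    exact this
  calc y * v = (v * y * v⁻¹ * y⁻¹)⁻¹ * (v * y) := by group
    _ = v * y := by rw [h3]; group

/-- **(★)** if some `1 ≠ z ∈ P₀` commutes with `x` then `C_V(x) = 1`. -/
theorem star [Finite Γ] {p q : ℕ} [Fact p.Prime] [Fact q.Prime] (hpq : p ≠ q)
    (V Q P₀ : Subgroup Γ) (x : Γ) (hV : IsElementaryAbelian p V) (hQ : IsPGroup q Q)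
    (hP₀ : IsPGroup p P₀)
    (hPV : P₀ ≤ Subgroup.normalizer (V : Set Γ)) (hQV : Q ≤ Subgroup.normalizer (V : Set Γ))
    (hPQ : P₀ ≤ Subgroup.normalizer (Q : Set Γ))
    (hfPQ : P₀ ⊓ Subgroup.centralizer (Q : Set Γ) = ⊥)
    (hcyc : ∀ A : Subgroup Γ, IsPGroup p A → A ≤ V ⊔ Q ⊔ P₀ → (∀ a ∈ A, a * x = x * a) → IsCyclic A)
    (z : Γ) (hz : z ∈ P₀) (hz1 : z ≠ 1) (hzx : z * x = x * z) :
    ∀ v ∈ V, v * x = x * v → v = 1 := by
  intro v hv hvx
  by_contra hv1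
  have hp : p.Prime := Fact.out
  have hVp : IsPGroup p V := isPGroup_of_isElementaryAbelian hV
  have hVP : V ⊓ P₀ = ⊥ := inf_eq_bot_of_faithful hpq V Q P₀ hVp hQ hQV hPQ hfPQ
  -- an element of order p in ⟨z⟩
  have hzp : IsPGroup p (Subgroup.zpowers z) := hP₀.to_le (Subgroup.zpowers_le.mpr hz)
  have hznt : Nontrivial (Subgroup.zpowers z) := by
    rw [Subgroup.nontrivial_iff_ne_bot, Ne, Subgroup.zpowers_eq_bot]
    exact hz1
  obtain ⟨n, hn⟩ := IsPGroup.exists_card_eq hzp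
  have hn1 : n ≠ 0 := by
    intro h0
    rw [h0, pow_zero] at hn
    have := (Subgroup.card_eq_one (H := Subgroup.zpowers z)).mp hn
    rw [Subgroup.zpowers_eq_bot] at this
    exact hz1 this
  have hpd : p ∣ Nat.card (Subgroup.zpowers z) := by
    rw [hn]; exact dvd_pow_self p hn1
  obtain ⟨z', hz'⟩ := exists_prime_orderOf_dvd_card' p hpd
  have hz'P : (z' : Γ) ∈ P₀ := (Subgroup.zpowers_le.mpr hz) z'.2
  have hz'x : (z' : Γ) * x = x * z' := by
    obtain ⟨k, hk⟩ := Subgroup.mem_zpowers_iff.mp z'.2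
    rw [← hk]
    exact ((Commute.zpow_left (show Commute z x from hzx) k)).eq
  have hz'o : orderOf (z' : Γ) = p := by rw [Subgroup.orderOf_coe]; exact hz'
  -- the subgroup A
  set C : Subgroup Γ := V ⊓ Subgroup.centralizer ({x} : Set Γ) with hC
  have hCx : ∀ a ∈ C, a * x = x * a := by
    intro a ha
    have h2 : a ∈ Subgroup.centralizer ({x} : Set Γ) := (Subgroup.mem_inf.mp ha).2
    rw [Subgroup.mem_centralizer_iff] at h2
    exact (h2 x rfl).symm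
  have hz'N : Subgroup.zpowers (z' : Γ) ≤ Subgroup.normalizer (C : Set Γ) := by
    rw [Subgroup.zpowers_le]
    have h1 : (z' : Γ) ∈ Subgroup.normalizer (V : Set Γ) := hPV hz'P
    have h2 : (z' : Γ) ∈ Subgroup.normalizer ((Subgroup.centralizer ({x} : Set Γ) : Subgroup Γ) : Set Γ) := by
      apply Subgroup.le_normalizer
      rw [Subgroup.mem_centralizer_iff]
      intro y hy
      rw [Set.mem_singleton_iff.mp hy]
      exact hz'x.symm
    rw [Subgroup.mem_normalizer_iff] at h1 h2 ⊢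
    intro a
    rw [hC, Subgroup.mem_inf, Subgroup.mem_inf, ← h1 a, ← h2 a]
  set A : Subgroup Γ := Subgroup.zpowers (z' : Γ) ⊔ C with hA
  have hAp : IsPGroup p A :=
    IsPGroup.to_sup_of_normal_right' (hP₀.to_le (Subgroup.zpowers_le.mpr hz'P))
      (hVp.to_le inf_le_left) hz'N
  have hAle : A ≤ V ⊔ Q ⊔ P₀ := by
    apply sup_le
    · exact (Subgroup.zpowers_le.mpr hz'P).trans le_sup_right
    · exact inf_le_left.trans (le_sup_left.trans le_sup_left)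
  have hAx : ∀ a ∈ A, a * x = x * a := by
    have hle : A ≤ Subgroup.centralizer ({x} : Set Γ) := by
      apply sup_le
      · rw [Subgroup.zpowers_le, Subgroup.mem_centralizer_iff]
        intro y hy
        rw [Set.mem_singleton_iff.mp hy]
        exact hz'x.symm
      · exact inf_le_right
    intro a ha
    have := hle ha
    rw [Subgroup.mem_centralizer_iff] at this
    exact (this x rfl).symm
  have hAc : IsCyclic A := hcyc A hAp hAle hAx
  have hvA : v ∈ A := by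
    apply (le_sup_right : C ≤ A)
    refine Subgroup.mem_inf.mpr ⟨hv, ?_⟩
    rw [Subgroup.mem_centralizer_iff]
    intro y hy
    rw [Set.mem_singleton_iff.mp hy]
    exact hvx.symm
  have hz'A : (z' : Γ) ∈ A := (le_sup_left : Subgroup.zpowers (z' : Γ) ≤ A) (Subgroup.mem_zpowers _)
  have hvo : orderOf v = p := by
    have h1 : orderOf v ∣ p := orderOf_dvd_of_pow_eq_one (hV.2 v hv)
    rcases (Nat.dvd_prime hp).mp h1 with h | h
    · exact absurd (orderOf_eq_one_iff.mp h) hv1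
    · exact h
  have hmem := mem_zpowers_of_isCyclic hAc hp (⟨v, hvA⟩ : A) ⟨(z' : Γ), hz'A⟩
    (by rw [← Subgroup.orderOf_coe]; exact hvo)
    (by apply Subtype.ext; simp only [Subgroup.coe_pow, Subgroup.coe_one]; rw [← hz'o, pow_orderOf_eq_one])
  obtain ⟨k, hk⟩ := Subgroup.mem_zpowers_iff.mp hmem
  have hk' : v ^ k = (z' : Γ) := by
    have := congrArg Subtype.val hk
    simpa using this
  have hz'V : (z' : Γ) ∈ V := by rw [← hk']; exact V.zpow_mem hv k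
  have : (z' : Γ) ∈ V ⊓ P₀ := Subgroup.mem_inf.mpr ⟨hz'V, hz'P⟩
  rw [hVP, Subgroup.mem_bot] at this
  rw [this, orderOf_one] at hz'o
  exact hp.one_lt.ne hz'o


end Cfsg.Agent.Lib.Helper29.BG36
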