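import Mathlib
import Cfsg.Prelude.Def_Transfer
import Cfsg.Agent.S3736
import Cfsg.Agent.Lib.Helper61.HHGlue
import Cfsg.Agent.Lib.Helper67.Conj
import Cfsg.Agent.Lib.Helper29.BG36ConfigA
import Cfsg.Agent.Lib.Helper40.BG36C1
import Cfsg.Agent.Lib.Helper05.BG36C2

set_option autoImplicit false

namespace Cfsg.Agent.Lib.Helper29.BG36

open Cfsg
open scoped commutatorElement

variable {Γ : Type*} [Group Γ]

/-- `[H, K] ≤ H` when `K` normalizes `H` -/
theorem commutator_le_left_of_le_normalizer {H K : Subgroup Γ}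
    (h : K ≤ Subgroup.normalizer (H : Set Γ)) : ⁅H, K⁆ ≤ H := by
  rw [Subgroup.commutator_le]
  intro a ha b hb
  rw [commutatorElement_def]
  have : a * b * a⁻¹ * b⁻¹ = a * (b * a⁻¹ * b⁻¹) := by group
  rw [this]
  exact H.mul_mem ha ((Subgroup.mem_normalizer_iff.mp (h hb) _).mp (H.inv_mem ha))

/-- `[H, K] = 1` gives elementwise commutation -/
theorem comm_of_commutator_eq_bot {H K : Subgroup Γ} (h : ⁅H, K⁆ = ⊥) :
    ∀ a ∈ H, ∀ b ∈ K, a * b = b * a := by
  intro a ha b hb
  have h1 : ⁅a, b⁆ ∈ ⁅H, K⁆ := Subgroup.commutator_mem_commutator ha hb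
  rw [h, Subgroup.mem_bot, commutatorElement_def] at h1
  calc a * b = (a * b * a⁻¹ * b⁻¹) * (b * a) := by group
    _ = b * a := by rw [h1, one_mul]

theorem config_false [Finite Γ] (hodd : Odd (Nat.card Γ))
    {p q r : ℕ} [hp : Fact p.Prime] [hq : Fact q.Prime] [hr : Fact r.Prime]
    (hpq : p ≠ q) (hpr : p ≠ r) (hqr : q ≠ r)
    (V Q P₀ R : Subgroup Γ) (x : Γ)
    (hV : IsElementaryAbelian p V)
    (hQ : IsPGroup q Q) (hP₀ : IsPGroup p P₀) (hP₀1 : P₀ ≠ ⊥)
    (hQV : Q ≤ Subgroup.normalizer (V : Set Γ)) (hPV : P₀ ≤ Subgroup.normalizer (V : Set Γ))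
    (hRV : R ≤ Subgroup.normalizer (V : Set Γ))
    (hPQ : P₀ ≤ Subgroup.normalizer (Q : Set Γ)) (hRQ : R ≤ Subgroup.normalizer (Q : Set Γ))
    (hRP : R ≤ Subgroup.normalizer (P₀ : Set Γ))
    (hxR : x ∈ R) (hx : orderOf x = r)
    (hfQV : Q ⊓ Subgroup.centralizer (V : Set Γ) = ⊥)
    (hfPQ : P₀ ⊓ Subgroup.centralizer (Q : Set Γ) = ⊥)
    (hfVQ : V ⊓ Subgroup.centralizer (Q : Set Γ) = ⊥)
    (hcyc : ∀ (ℓ : ℕ) (A : Subgroup Γ), ℓ.Prime → IsPGroup ℓ A → A ≤ V ⊔ Q ⊔ P₀ →
      (∀ a ∈ A, a * x = x * a) → IsCyclic A)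
    (m1 : ∀ P₁ : Subgroup Γ, P₁ ≤ P₀ → R ≤ Subgroup.normalizer (P₁ : Set Γ) → P₁ ≠ P₀ → ⁅P₁, R⁆ = ⊥)
    (m2 : ∀ Q₁ : Subgroup Γ, Q₁ ≤ Q → P₀ ≤ Subgroup.normalizer (Q₁ : Set Γ) →
      R ≤ Subgroup.normalizer (Q₁ : Set Γ) → Q₁ ≠ Q → ⁅Q₁, P₀⁆ = ⊥)
    (m3 : ⁅P₀, R⁆ = P₀)
    (m4 : R ≠ Subgroup.zpowers x → x ∈ Subgroup.centralizer (P₀ : Set Γ)) : False := by
  have hVp : IsPGroup p V := isPGroup_of_isElementaryAbelian hV
  have hxV := hRV hxR
  have hxQ := hRQ hxR
  have hxP := hRP hxR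
  -- Q ≠ ⊥
  have hQ1 : Q ≠ ⊥ := by
    intro h
    apply hP₀1
    rw [eq_bot_iff, ← hfPQ, h]
    intro z hz
    refine Subgroup.mem_inf.mpr ⟨hz, ?_⟩
    rw [Subgroup.mem_centralizer_iff]
    intro y hy
    rw [Subgroup.coe_bot, Set.mem_singleton_iff] at hy
    rw [hy, one_mul, mul_one]
  have hV1 : V ≠ ⊥ := by
    intro h
    apply hQ1
    rw [eq_bot_iff, ← hfQV, h]
    intro z hz
    refine Subgroup.mem_inf.mpr ⟨hz, ?_⟩
    rw [Subgroup.mem_centralizer_iff]
    intro y hy
    rw [Subgroup.coe_bot, Set.mem_singleton_iff] at hy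
    rw [hy, one_mul, mul_one]
  have hq2 : q ≠ 2 := by
    intro h2
    have hQnt : Nontrivial Q := (Subgroup.nontrivial_iff_ne_bot Q).mpr hQ1
    obtain ⟨n, hn⟩ := IsPGroup.exists_card_eq hQ
    have hn0 : n ≠ 0 := by
      intro h0
      rw [h0, pow_zero] at hn
      exact hQ1 (Subgroup.card_eq_one.mp hn)
    have h1 : q ∣ Nat.card Γ := by
      have : q ∣ Nat.card Q := by rw [hn]; exact dvd_pow_self q hn0
      exact this.trans (Subgroup.card_subgroup_dvd_card Q)
    rw [h2] at h1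
    rcases hodd with ⟨k, hk⟩
    omega
  -- the cyclic case
  have hQcyc : IsCyclic Q → False := by
    intro hc
    apply hP₀1
    have h1 : ⁅P₀, R⁆ ≤ Subgroup.centralizer (Q : Set Γ) := by
      rw [Subgroup.commutator_le]
      intro a ha b hb
      rw [commutatorElement_def]
      exact comm_mem_centralizer_of_isCyclic Q hc (hPQ ha) (hRQ hb)
    rw [eq_bot_iff, ← hfPQ]
    apply le_inf le_rfl
    rw [m3] at h1
    exact h1
  set X : Subgroup Γ := Subgroup.zpowers x with hX
  have hXR : X ≤ R := Subgroup.zpowers_le.mpr hxR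
  have hXcard : Nat.card X = r := by rw [hX, Nat.card_zpowers, hx]
  by_cases hB : ∃ z ∈ P₀, z ≠ 1 ∧ z * x = x * z
  · -- Branch B
    obtain ⟨z, hz, hz1, hzx⟩ := hB
    have hCV := star hpq V Q P₀ x hV hQ hP₀ hPV hQV hPQ hfPQ
      (fun A hA => hcyc p A hp.out hA) z hz hz1 hzx
    have hCVX : V ⊓ Subgroup.centralizer (X : Set Γ) = ⊥ := by
      rw [eq_bot_iff]
      intro v hv
      rw [Subgroup.mem_inf] at hv
      have h2 := hv.2
      rw [Subgroup.mem_centralizer_iff] at h2
      rw [Subgroup.mem_bot]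
      exact hCV v hv.1 (h2 x (Subgroup.mem_zpowers x)).symm
    have h1 := Cfsg.Agent.Lib.Helper61.HHGlue.commutator_le_centralizer_of_fpf hp.out hq.out hr.out
      hpq hpr hqr hq2 V Q X hV hQ hXcard (hXR.trans hRQ) (hXR.trans hRV) hQV hCVX
    have h2 : ⁅Q, X⁆ ≤ Q := commutator_le_left_of_le_normalizer (hXR.trans hRQ)
    have h3 : ⁅Q, X⁆ = ⊥ := by
      rw [eq_bot_iff, ← hfQV]
      exact le_inf h2 h1
    have h4 := comm_of_commutator_eq_bot h3
    apply hQcyc
    exact hcyc q Q hq.out hQ (le_sup_right.trans le_sup_left)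
      (fun a ha => h4 a ha x (Subgroup.mem_zpowers x))
  · -- Case C
    have hfpf : ∀ z ∈ P₀, z * x = x * z → z = 1 := by
      intro z hz hzx
      by_contra hz1
      exact hB ⟨z, hz, hz1, hzx⟩
    have hRX : R = X := by
      by_contra hne
      have h1 := m4 hne
      rw [Subgroup.mem_centralizer_iff] at h1
      apply hP₀1
      rw [eq_bot_iff]
      intro z hz
      rw [Subgroup.mem_bot]
      exact hfpf z hz (h1 z hz)
    have hXn : ∀ K : Subgroup Γ, x ∈ Subgroup.normalizer (K : Set Γ) →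
        R ≤ Subgroup.normalizer (K : Set Γ) := by
      intro K hK
      rw [hRX, hX, Subgroup.zpowers_le]
      exact hK
    have hirrP : ∀ P₁ : Subgroup Γ, P₁ ≤ P₀ → x ∈ Subgroup.normalizer (P₁ : Set Γ) →
        P₁ = ⊥ ∨ P₁ = P₀ := by
      intro P₁ hP₁ hxP₁
      by_cases h : P₁ = P₀
      · exact Or.inr h
      · left
        have h1 := m1 P₁ hP₁ (hXn P₁ hxP₁) h
        have h2 := comm_of_commutator_eq_bot h1
        rw [eq_bot_iff]
        intro z hz
        rw [Subgroup.mem_bot]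
        exact hfpf z (hP₁ hz) (h2 z hz x hxR)
    -- P₀ abelian
    have hP₀c : ∀ a ∈ P₀, ∀ b ∈ P₀, a * b = b * a := by
      have hnt : Nontrivial P₀ := (Subgroup.nontrivial_iff_ne_bot P₀).mpr hP₀1
      have : Group.IsNilpotent P₀ := hP₀.isNilpotent
      have hlt : commutator P₀ < ⊤ := Group.IsSolvable.commutator_lt_top_of_nontrivial P₀
      have hne : ⁅P₀, P₀⁆ ≠ P₀ := by
        intro h
        rw [← Subgroup.map_subtype_commutator] at h
        have h2 : (commutator P₀).map P₀.subtype = (⊤ : Subgroup P₀).map P₀.subtype := by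
          rw [h, ← MonoidHom.range_eq_map, Subgroup.range_subtype]
        exact hlt.ne (Subgroup.map_injective P₀.subtype_injective h2)
      have hn : x ∈ Subgroup.normalizer ((⁅P₀, P₀⁆ : Subgroup Γ) : Set Γ) := by
        rw [Subgroup.mem_normalizer_iff_map_conj_eq] -- placeholder
        rw [Subgroup.map_commutator, Subgroup.mem_normalizer_iff_map_conj_eq.mp hxP]
      rcases hirrP ⁅P₀, P₀⁆ (Subgroup.commutator_le_self P₀) hn with h | h
      · exact comm_of_commutator_eq_bot h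
      · exact absurd h hne
    -- S3736
    have hBQ : P₀ ⊔ R ≤ Subgroup.normalizer (Q : Set Γ) := sup_le hPQ hRQ
    have hBP : P₀ ⊔ R ≤ Subgroup.normalizer (P₀ : Set Γ) := sup_le Subgroup.le_normalizer hRP
    have hcopq : (Nat.card P₀).Coprime q := by
      obtain ⟨n, hn⟩ := IsPGroup.exists_card_eq hP₀
      rw [hn]
      exact Nat.Coprime.pow_left n ((Nat.coprime_primes hp.out hq.out).mpr hpq)
    have hnotcent : ¬ Q ≤ Subgroup.centralizer (P₀ : Set Γ) := by
      intro h
      apply hP₀1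
      rw [eq_bot_iff, ← hfPQ]
      intro z hz
      refine Subgroup.mem_inf.mpr ⟨hz, ?_⟩
      rw [Subgroup.mem_centralizer_iff]
      intro y hy
      have := h hy
      rw [Subgroup.mem_centralizer_iff] at this
      exact (this z hz).symm
    have hnt : ⁅Q, P₀⁆ ≠ ⊥ := by
      intro h
      have h2 := comm_of_commutator_eq_bot h
      apply hnotcent
      intro y hy
      rw [Subgroup.mem_centralizer_iff]
      intro z hz
      exact (h2 y hy z hz).symm
    have hmin : ∀ U : Subgroup Γ, U < Q → P₀ ⊔ R ≤ Subgroup.normalizer (U : Set Γ) → ⁅U, P₀⁆ = ⊥ :=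
      fun U hU hn => m2 U hU.le (le_sup_left.trans hn) (le_sup_right.trans hn) hU.ne
    obtain ⟨hQP, hdich, hirr, hexp⟩ :=
      Cfsg.Agent.S3736.result (P₀ ⊔ R) P₀ Q hQ hBQ le_sup_left hBP hcopq hnt hmin
    have hQexp := hexp hq2
    have hCVx : ∀ A : Subgroup Γ, A ≤ V → (∀ a ∈ A, a * x = x * a) → Nat.card A ≤ p := by
      intro A hA hAx
      have hc := hcyc p A hp.out (hVp.to_le hA) (hA.trans (le_sup_left.trans le_sup_left)) hAx
      apply card_le_of_isCyclic_of_pow_eq_one hc hp.out.pos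
      intro a
      apply Subtype.ext
      simpa using hV.2 a (hA a.2)
    have hcycQ : ∀ A : Subgroup Γ, A ≤ Q → (∀ a ∈ A, a * x = x * a) → IsCyclic A :=
      fun A hA hAx => hcyc q A hq.out (hQ.to_le hA) (hA.trans (le_sup_right.trans le_sup_left)) hAx
    -- the Frattini subgroup
    set Z : Subgroup Γ := (frattini Q).map Q.subtype with hZ
    have hZQ : Z ≤ Q := Subgroup.map_subtype_le _
    have hQnt : Nontrivial Q := (Subgroup.nontrivial_iff_ne_bot Q).mpr hQ1
    have hfr : frattini Q ≠ ⊤ := by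
      intro h
      rcases eq_top_or_exists_le_coatom (⊥ : Subgroup Q) with h1 | ⟨K, hK, -⟩
      · exact bot_ne_top h1
      · have := frattini_le_coatom hK
        rw [h] at this
        exact hK.1 (top_le_iff.mp this)
    have hZne : Z ≠ Q := by
      intro h
      apply hfr
      have h2 : (frattini Q).map Q.subtype = (⊤ : Subgroup Q).map Q.subtype := by
        rw [← hZ, h, ← MonoidHom.range_eq_map, Subgroup.range_subtype]
      exact Subgroup.map_injective Q.subtype_injective h2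
    have hNZ : Subgroup.normalizer (Q : Set Γ) ≤ Subgroup.normalizer (Z : Set Γ) :=
      Cfsg.Agent.Lib.Helper67.normalizer_le_normalizer_map_characteristic Q (frattini Q)
    have hPZ' : ⁅Z, P₀⁆ = ⊥ := m2 Z hZQ (hPQ.trans hNZ) (hRQ.trans hNZ) hZne
    have hPZc := comm_of_commutator_eq_bot hPZ'
    have hPZ : P₀ ≤ Subgroup.centralizer (Z : Set Γ) := by
      intro b hb
      rw [Subgroup.mem_centralizer_iff]
      intro a ha
      exact hPZc a ha b hb
    have hZcen : Z ≤ Subgroup.centralizer (Q : Set Γ) := by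
      rcases hdich with hea | hsp
      · intro z hz
        rw [Subgroup.mem_centralizer_iff]
        intro y hy
        exact comm_of_isElementaryAbelian hea y hy z (hZQ hz)
      · intro z hz
        obtain ⟨z', hz', rfl⟩ := hz
        rw [hsp.2.1] at hz'
        rw [Subgroup.mem_centralizer_iff]
        intro y hy
        have := Subgroup.mem_center_iff.mp hz' ⟨y, hy⟩
        exact congrArg Subtype.val this
    have hncent : ∀ K : Subgroup Γ, Subgroup.normalizer (K : Set Γ) ≤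
        Subgroup.normalizer ((Subgroup.centralizer (K : Set Γ) : Subgroup Γ) : Set Γ) := by
      intro K g hg
      rw [Subgroup.mem_normalizer_iff]
      intro c
      rw [Subgroup.mem_centralizer_iff, Subgroup.mem_centralizer_iff]
      constructor
      · intro hc k hk
        have hk' : g⁻¹ * k * g ∈ K := by
          have := (Subgroup.mem_normalizer_iff.mp (Subgroup.inv_mem _ hg) k).mp hk
          simpa using this
        have := hc _ hk'
        calc k * (g * c * g⁻¹) = g * ((g⁻¹ * k * g) * c) * g⁻¹ := by group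
          _ = g * (c * (g⁻¹ * k * g)) * g⁻¹ := by rw [this]
          _ = g * c * g⁻¹ * k := by group
      · intro hc k hk
        have hk' : g * k * g⁻¹ ∈ K := (Subgroup.mem_normalizer_iff.mp hg k).mp hk
        have := hc _ hk'
        calc k * c = g⁻¹ * ((g * k * g⁻¹) * (g * c * g⁻¹)) * g := by group
          _ = g⁻¹ * ((g * c * g⁻¹) * (g * k * g⁻¹)) * g := by rw [this]
          _ = c * k := by group
    have hCQP : Q ⊓ Subgroup.centralizer (P₀ : Set Γ) ≤ Z := by
      have h1 : Z ≤ Q ⊓ Subgroup.centralizer (P₀ : Set Γ) := by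
        apply le_inf hZQ
        intro z hz
        rw [Subgroup.mem_centralizer_iff]
        intro b hb
        exact (hPZc z hz b hb).symm
      have h2 : P₀ ⊔ R ≤ Subgroup.normalizer ((Q ⊓ Subgroup.centralizer (P₀ : Set Γ) : Subgroup Γ) : Set Γ) := by
        intro g hg
        have hgQ := hBQ hg
        have hgC := hncent P₀ (hBP hg)
        rw [Subgroup.mem_normalizer_iff] at hgQ hgC ⊢
        intro y
        rw [Subgroup.mem_inf, Subgroup.mem_inf, ← hgQ y, ← hgC y]
      rcases hirr _ h1 inf_le_left h2 with h | h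
      · exact h.le
      · exfalso
        apply hnotcent
        rw [← h]
        exact inf_le_right
    by_cases hZ1 : Z = ⊥
    · -- C2
      have hfr0 : frattini Q = ⊥ := (Subgroup.map_eq_bot_iff_of_injective _ Q.subtype_injective).mp hZ1
      have hQea : IsElementaryAbelian q Q := by
        rcases hdich with hea | hsp
        · exact hea
        · have hcomm : commutator Q = ⊥ := by rw [hsp.2.2, ← hsp.2.1, hfr0]
          refine ⟨⟨⟨fun a b => ?_⟩⟩, hQexp⟩
          have h1 : ⁅a, b⁆ ∈ commutator Q :=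
            Subgroup.commutator_mem_commutator (Subgroup.mem_top a) (Subgroup.mem_top b)
          rw [hcomm, Subgroup.mem_bot, commutatorElement_def] at h1
          calc a * b = (a * b * a⁻¹ * b⁻¹) * (b * a) := by group
            _ = b * a := by rw [h1, one_mul]
      have hirrQ : ∀ Q₁ : Subgroup Γ, Q₁ ≤ Q → P₀ ≤ Subgroup.normalizer (Q₁ : Set Γ) →
          x ∈ Subgroup.normalizer (Q₁ : Set Γ) → Q₁ = ⊥ ∨ Q₁ = Q := by
        intro Q₁ hQ₁ hP hxQ₁
        have := hirr Q₁ (by rw [hZ1]; exact bot_le) hQ₁ (sup_le hP (hXn Q₁ hxQ₁))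
        rw [hZ1] at this
        exact this
      by_cases hQq : Nat.card Q = q
      · exact hQcyc (isCyclic_of_prime_card hQq)
      · exact Cfsg.Agent.Lib.Helper05.BG36C2.config_C2 hodd hpq V Q P₀ x hV hV1 hQea hP₀ hP₀1 hP₀c hQV hPV hxV hPQ hxQ hxP hx hfVQ
          hfpf hirrP hirrQ hQP hCVx hQq
    · exact Cfsg.Agent.Lib.Helper40.BG36C1.config_C1 hpq hpr hqr V Q P₀ Z x hV hQ hP₀ hQV hPV hxV hPQ hxQ hxP hx hZQ hZ1 hZne hZcen
        (hNZ hxQ) hPZ hCQP hfpf hfQV hQP hQexp hcycQ hCVx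

end Cfsg.Agent.Lib.Helper29.BG36
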