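import Mathlib
import Cfsg.Prelude.Def_Local
import Cfsg.Prelude.Def_Amalgam
import Cfsg.Agent.Lib.Helper42.PComponents
import Cfsg.Agent.Lib.Helper67.PLen3
import Cfsg.Agent.Lib.Helper67.PLen
import Cfsg.Agent.Lib.Helper32.PLength
import Cfsg.Agent.Lib.Helper29.Sup
import Cfsg.Agent.Lib.Helper29.Cores
import Cfsg.Agent.Lib.Helper15.Lifting
import Cfsg.Agent.Lib.Helper54.Subnormal
import Cfsg.Agent.Lib.Helper52.CharP
import Cfsg.Agent.Lib.Helper01.HallHigman

set_option autoImplicit false

/-!
# Bender–Glauberman Theorem 3.6: plumbing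

The hypothesis package `Hyp` ("top form": `H ⊴ G = H R`), the induction hypothesis `IH`, the
transfer lemmas to subgroups and quotients, and the `p`-length bookkeeping.
-/

namespace Cfsg.Agent.Lib.Helper29.BG36

open Cfsg

universe u


/-- the hypotheses of BG 3.6 in "top form" -/
structure Hyp {G : Type u} [Group G] (H R R₀ : Subgroup G) : Prop where
  normal : H.Normal
  sup : H ⊔ R = ⊤
  cop : (Nat.card H).Coprime (Nat.card R)
  le : R₀ ≤ R
  prime : (Nat.card R₀).Prime
  zgrp : IsZGroup ↥(H ⊓ Subgroup.centralizer (R₀ : Set G))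

/-- the induction hypothesis: the theorem for all groups of order `< n` -/
def IH (p n : ℕ) : Prop :=
  ∀ (G : Type u) [Group G] [Finite G], Nat.card G < n → Group.IsSolvable G → Odd (Nat.card G) →
    ∀ H R R₀ : Subgroup G, Hyp H R R₀ → PLengthLE p 1 ↥⁅H, R⁆

theorem card_subgroupOf_of_le {G : Type u} [Group G] {A K : Subgroup G} (h : A ≤ K) :
    Nat.card ↥(A.subgroupOf K) = Nat.card ↥A :=
  Nat.card_congr (Subgroup.subgroupOfEquivOfLe h).toEquiv

/-- **sub-configurations**: the induction hypothesis applies to `(H', R₁)` inside `G` as soon as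
`H' ⊔ R₁` is a proper subgroup. -/
theorem subConfig {p : ℕ} [Fact p.Prime] {G : Type u} [Group G] [Finite G] (hsolv : Group.IsSolvable G)
    (hodd : Odd (Nat.card G)) (ih : IH.{u} p (Nat.card G)) (H' R₁ R₀ : Subgroup G)
    (hn : R₁ ≤ Subgroup.normalizer (H' : Set G)) (hcop : (Nat.card H').Coprime (Nat.card R₁))
    (hle : R₀ ≤ R₁) (hprime : (Nat.card R₀).Prime)
    (hz : IsZGroup ↥(H' ⊓ Subgroup.centralizer (R₀ : Set G)))
    (hlt : Nat.card ↥(H' ⊔ R₁) < Nat.card G) :
    PLengthLE p 1 ↥⁅H', R₁⁆ := by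
  set K : Subgroup G := H' ⊔ R₁ with hK
  have hHK : H' ≤ K := le_sup_left
  have hRK : R₁ ≤ K := le_sup_right
  have hR₀K : R₀ ≤ K := hle.trans hRK
  have hoddK : Odd (Nat.card ↥K) := by
    have hd : Nat.card ↥K ∣ Nat.card G := Subgroup.card_subgroup_dvd_card K
    rcases hodd with ⟨k, hk⟩
    rw [Nat.odd_iff]
    by_contra hne
    have h2 : 2 ∣ Nat.card ↥K := by omega
    have := h2.trans hd
    omega
  have hyp : Hyp (H'.subgroupOf K) (R₁.subgroupOf K) (R₀.subgroupOf K) := by
    refine ⟨Cfsg.Agent.Lib.Helper29.subgroupOf_sup_normal_of_le_normalizer H' R₁ hn, ?_, ?_, ?_, ?_, ?_⟩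
    · rw [← Subgroup.subgroupOf_sup hHK hRK]
      exact Subgroup.subgroupOf_self K
    · rw [card_subgroupOf_of_le hHK, card_subgroupOf_of_le hRK]
      exact hcop
    · exact Subgroup.subgroupOf_mono K hle
    · rw [card_subgroupOf_of_le hR₀K]
      exact hprime
    · -- Z-group
      let f : ↥(H'.subgroupOf K ⊓ Subgroup.centralizer ((R₀.subgroupOf K : Subgroup ↥K) : Set ↥K)) →*
          ↥(H' ⊓ Subgroup.centralizer (R₀ : Set G)) :=
        { toFun := fun y => ⟨((y : ↥K) : G), by
            have hy := y.2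
            rw [Subgroup.mem_inf] at hy
            refine Subgroup.mem_inf.mpr ⟨Subgroup.mem_subgroupOf.mp hy.1, ?_⟩
            rw [Subgroup.mem_centralizer_iff]
            intro g hg
            have h2 := hy.2
            rw [Subgroup.mem_centralizer_iff] at h2
            have h3 := h2 ⟨g, hR₀K hg⟩ (Subgroup.mem_subgroupOf.mpr hg)
            exact congrArg Subtype.val h3⟩
          map_one' := rfl
          map_mul' := fun _ _ => rfl }
      have hf : Function.Injective f := by
        intro a b hab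
        apply Subtype.ext
        apply Subtype.ext
        have := congrArg Subtype.val hab
        exact this
      have := hz
      exact IsZGroup.of_injective hf
  have hres := ih ↥K hlt inferInstance hoddK _ _ _ hyp
  -- transfer back
  have hmap : (⁅H'.subgroupOf K, R₁.subgroupOf K⁆ : Subgroup ↥K).map K.subtype = ⁅H', R₁⁆ := by
    rw [Subgroup.map_commutator, Subgroup.subgroupOf_map_subtype, Subgroup.subgroupOf_map_subtype,
      inf_of_le_left hHK, inf_of_le_left hRK]
  have h1 : PLengthLE p 1 ↥((⁅H'.subgroupOf K, R₁.subgroupOf K⁆ : Subgroup ↥K).map K.subtype) :=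
    Cfsg.Agent.Lib.Helper67.pLengthLE_of_surjective p
      (K.subtype.subgroupMap _) (MonoidHom.subgroupMap_surjective _ _) 1 hres
  rw [hmap] at h1
  exact h1


theorem odd_of_dvd_odd {a b : ℕ} (h : a ∣ b) (hb : Odd b) : Odd a := by
  rw [Nat.odd_iff] at hb ⊢
  by_contra hne
  have h2 : 2 ∣ a := by omega
  have := h2.trans h
  omega

/-- **quotients**: the induction hypothesis applies to `G ⧸ N` for `1 ≠ N ⊴ G`, `N ≤ H`. -/
theorem quotConfig {p : ℕ} [Fact p.Prime] {G : Type u} [Group G] [Finite G] (hsolv : Group.IsSolvable G)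
    (hodd : Odd (Nat.card G)) (ih : IH.{u} p (Nat.card G)) (H R R₀ : Subgroup G) (hyp : Hyp H R R₀)
    (N : Subgroup G) [N.Normal] (hNH : N ≤ H) (hN : N ≠ ⊥) :
    PLengthLE p 1 ↥((⁅H, R⁆ : Subgroup G).map (QuotientGroup.mk' N)) := by
  have hHn := hyp.normal
  set f := QuotientGroup.mk' N with hf
  have hfs : Function.Surjective f := QuotientGroup.mk'_surjective N
  have hcard : Nat.card (G ⧸ N) * Nat.card N = Nat.card G :=
    (Subgroup.card_eq_card_quotient_mul_card_subgroup N).symm
  have hNcard : 1 < Nat.card N := by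
    rcases Nat.lt_or_ge 1 (Nat.card N) with h | h
    · exact h
    · exfalso
      apply hN
      have h1 : Nat.card N = 1 := le_antisymm h Nat.card_pos
      exact Subgroup.card_eq_one.mp h1
  have hlt : Nat.card (G ⧸ N) < Nat.card G := by
    have hpos : 0 < Nat.card (G ⧸ N) := Nat.card_pos
    nlinarith
  have hoddQ : Odd (Nat.card (G ⧸ N)) := odd_of_dvd_odd (Dvd.intro _ hcard) hodd
  -- the prime r
  set r := Nat.card R₀ with hr
  have : Fact r.Prime := ⟨hyp.prime⟩
  have hR₀p : IsPGroup r R₀ := IsPGroup.of_card (n := 1) (by rw [pow_one])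
  have hNr : (Nat.card N).Coprime r := by
    have h1 : Nat.card N ∣ Nat.card H := Subgroup.card_dvd_of_le hNH
    have h2 : r ∣ Nat.card R := Subgroup.card_dvd_of_le hyp.le
    exact Nat.Coprime.coprime_dvd_left h1 (Nat.Coprime.coprime_dvd_right h2 hyp.cop)
  have hdisj : R₀ ⊓ N = ⊥ := by
    exact disjoint_iff.mp (Subgroup.disjoint_of_coprime_natCard hNr.symm)
  have hcardR₀ : Nat.card ↥(R₀.map f) = r := by
    have hinj : Function.Injective (f.comp R₀.subtype) := by
      rw [← MonoidHom.ker_eq_bot_iff]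
      ext x
      rw [MonoidHom.mem_ker, Subgroup.mem_bot]
      constructor
      · intro hx
        have hx1 : (x : G) ∈ N := by
          have : f (x : G) = 1 := hx
          rwa [hf, QuotientGroup.mk'_apply, QuotientGroup.eq_one_iff] at this
        have hx2 : (x : G) ∈ R₀ ⊓ N := Subgroup.mem_inf.mpr ⟨x.2, hx1⟩
        rw [hdisj, Subgroup.mem_bot] at hx2
        exact Subtype.ext hx2
      · rintro rfl
        exact map_one _
    have h1 : R₀.map f = (f.comp R₀.subtype).range := by
      rw [MonoidHom.range_eq_map, ← Subgroup.map_map, ← MonoidHom.range_eq_map, Subgroup.range_subtype]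
    rw [h1]
    exact (Nat.card_congr (MonoidHom.ofInjective hinj).toEquiv).symm
  have hyp' : Hyp (H.map f) (R.map f) (R₀.map f) := by
    refine ⟨Subgroup.Normal.map hHn f hfs, ?_, ?_, Subgroup.map_mono hyp.le, ?_, ?_⟩
    · rw [← Subgroup.map_sup, hyp.sup]
      exact Subgroup.map_top_of_surjective f hfs
    · exact Nat.Coprime.coprime_dvd_left (Subgroup.card_map_dvd _ _)
        (Nat.Coprime.coprime_dvd_right (Subgroup.card_map_dvd _ _) hyp.cop)
    · rw [hcardR₀]
      exact hyp.prime
    · -- Z-group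
      have hcen := Cfsg.Agent.Lib.Helper15.centralizer_map_mk_of_coprime N hNr R₀ hR₀p
      have heq : H.map f ⊓ Subgroup.centralizer ((R₀.map f : Subgroup (G ⧸ N)) : Set (G ⧸ N)) =
          (H ⊓ Subgroup.centralizer (R₀ : Set G)).map f := by
        apply le_antisymm
        · intro y hy
          rw [Subgroup.mem_inf] at hy
          obtain ⟨h, hh, hhy⟩ := hy.1
          have hy2 := hy.2
          rw [hcen] at hy2
          obtain ⟨c, hc, hcy⟩ := hy2
          have h3 : h⁻¹ * c ∈ N := by
            rw [← QuotientGroup.eq_one_iff, QuotientGroup.mk_mul, QuotientGroup.mk_inv]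
            have e1 : (QuotientGroup.mk h : G ⧸ N) = y := hhy
            have e2 : (QuotientGroup.mk c : G ⧸ N) = y := hcy
            rw [e1, e2]; group
          have hcH : c ∈ H := by
            have : c = h * (h⁻¹ * c) := by group
            rw [this]
            exact H.mul_mem hh (hNH h3)
          exact ⟨c, Subgroup.mem_inf.mpr ⟨hcH, hc⟩, hcy⟩
        · apply le_inf
          · exact Subgroup.map_mono inf_le_left
          · rw [hcen]
            exact Subgroup.map_mono inf_le_right
      rw [heq]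
      have := hyp.zgrp
      exact IsZGroup.of_surjective (f := f.subgroupMap (H ⊓ Subgroup.centralizer (R₀ : Set G)))
        (MonoidHom.subgroupMap_surjective _ _)
  have hres := ih (G ⧸ N) hlt inferInstance hoddQ _ _ _ hyp'
  rw [Subgroup.map_commutator]
  exact hres




/-- Hall–Higman 1.2.3 in the ambient group -/
theorem inf_centralizer_pCoreOf_le {p : ℕ} [Fact p.Prime] {G : Type u} [Group G] [Finite G] (H : Subgroup G)
    (hsolv : Group.IsSolvable ↥H) (hH : Cfsg.Agent.Lib.Helper42.pPrimeCoreOf p H = ⊥) :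
    H ⊓ Subgroup.centralizer (pCoreOf p H : Set G) ≤ pCoreOf p H := by
  have h1 : pPrimeCore p ↥H = ⊥ := by
    unfold Cfsg.Agent.Lib.Helper42.pPrimeCoreOf at hH
    exact (Subgroup.map_eq_bot_iff_of_injective _ H.subtype_injective).mp hH
  exact Cfsg.Agent.Lib.Helper52.inf_centralizer_pCoreOf_le p H
    (Cfsg.Agent.Lib.Helper01.centralizer_pCore_le p h1)

/-- relIndex of `pCoreOf` is the index of `pCore` -/
theorem relIndex_pCoreOf {p : ℕ} {G : Type u} [Group G] (K : Subgroup G) :
    (pCoreOf p K).relIndex K = (pCore p ↥K).index := by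
  unfold pCoreOf Subgroup.relIndex Subgroup.subgroupOf
  rw [Subgroup.comap_map_eq_self_of_injective K.subtype_injective]

/-- a subgroup with `O_p` of index prime to `p` has `p`-length at most one -/
theorem pLengthLE_one_of_relIndex_pCoreOf {p : ℕ} [Fact p.Prime] {G : Type u} [Group G] [Finite G] (K : Subgroup G)
    (h : ((pCoreOf p K).relIndex K).Coprime p) : PLengthLE p 1 ↥K := by
  rw [relIndex_pCoreOf] at h
  have : (pCore p ↥K).Normal := Cfsg.Agent.Lib.Helper01.pCore_normal p
  have h1 : PLengthLE p 1 ↥(pCore p ↥K) :=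
    Cfsg.Agent.Lib.Helper67.pLengthLE_one_of_isPGroup p (Cfsg.Agent.Lib.Helper01.pCore_isPGroup p)
  have h0 : PLengthLE p 0 (↥K ⧸ pCore p ↥K) := by
    apply Cfsg.Agent.Lib.Helper67.pLengthLE_zero_of_coprime
    rw [← Subgroup.index_eq_card]
    exact h
  exact Cfsg.Agent.Lib.Helper67.pLengthLE_add p (pCore p ↥K) 1 0 h1 h0

/-- `p`-length at most one and `O_{p'} = 1` force a normal Sylow `p`-subgroup -/
theorem relIndex_pCoreOf_coprime {p : ℕ} [hp : Fact p.Prime] {G : Type u} [Group G] [Finite G] (K : Subgroup G)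
    (hpl : PLengthLE p 1 ↥K) (hK : Cfsg.Agent.Lib.Helper42.pPrimeCoreOf p K = ⊥) :
    ((pCoreOf p K).relIndex K).Coprime p := by
  rw [relIndex_pCoreOf]
  have h1 : pPrimeCore p ↥K = ⊥ := by
    unfold Cfsg.Agent.Lib.Helper42.pPrimeCoreOf at hK
    exact (Subgroup.map_eq_bot_iff_of_injective _ K.subtype_injective).mp hK
  obtain ⟨A, L, hAn, hLn, hAL, hAc, ⟨k, hk⟩, hLi⟩ :=
    Cfsg.Agent.Lib.Helper32.exists_of_pLengthLE_one p hpl
  have hA : A = ⊥ := by
    have := Cfsg.Agent.Lib.Helper29.normal_le_pPrimeCore p A hAc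
    rw [h1] at this
    exact le_bot_iff.mp this
  have hL : IsPGroup p L := by
    rw [hA, Subgroup.relIndex_bot_left] at hk
    exact IsPGroup.of_card hk
  have hLle : L ≤ pCore p ↥K := Cfsg.Agent.Lib.Helper01.le_pCore hLn hL
  have hdvd : (pCore p ↥K).index ∣ L.index := Subgroup.index_dvd_of_le hLle
  rw [Nat.coprime_comm, Nat.Prime.coprime_iff_not_dvd hp.out]
  exact fun h => hLi (h.trans hdvd)




/-- extension: `p`-length of `K` from `N ≤ K` and `K N / N`. -/
theorem pLengthLE_of_map_mk {p : ℕ} [Fact p.Prime] {G : Type u} [Group G] [Finite G] (N K : Subgroup G) [N.Normal]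
    (hNK : N ≤ K) (a b : ℕ) (hN : PLengthLE p a ↥N)
    (hK : PLengthLE p b ↥(K.map (QuotientGroup.mk' N))) : PLengthLE p (a + b) ↥K := by
  set f : ↥K →* ↥(K.map (QuotientGroup.mk' N)) := (QuotientGroup.mk' N).subgroupMap K with hf
  have hfs : Function.Surjective f := MonoidHom.subgroupMap_surjective _ _
  have hker : f.ker = N.subgroupOf K := by
    ext x
    rw [MonoidHom.mem_ker, Subgroup.mem_subgroupOf]
    constructor
    · intro h
      have h1 : ((f x : ↥(K.map (QuotientGroup.mk' N))) : G ⧸ N) = 1 := by rw [h]; rfl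
      have h2 : (QuotientGroup.mk' N) (x : G) = 1 := h1
      rwa [QuotientGroup.mk'_apply, QuotientGroup.eq_one_iff] at h2
    · intro h
      apply Subtype.ext
      show (QuotientGroup.mk' N) (x : G) = 1
      rw [QuotientGroup.mk'_apply, QuotientGroup.eq_one_iff]
      exact h
  have h1 : PLengthLE p a ↥(f.ker) := by
    rw [hker]
    exact Cfsg.Agent.Lib.Helper67.pLengthLE_of_surjective p
      (Subgroup.subgroupOfEquivOfLe hNK).symm.toMonoidHom (Subgroup.subgroupOfEquivOfLe hNK).symm.surjective a hN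
  have h2 : PLengthLE p b (↥K ⧸ f.ker) :=
    Cfsg.Agent.Lib.Helper67.pLengthLE_of_surjective p
      (QuotientGroup.quotientKerEquivOfSurjective f hfs).symm.toMonoidHom
      (QuotientGroup.quotientKerEquivOfSurjective f hfs).symm.surjective b hK
  exact Cfsg.Agent.Lib.Helper67.pLengthLE_add p f.ker a b h1 h2

/-- lifting a normal Sylow `p`-subgroup through a quotient by a normal `p`-subgroup -/
theorem relIndex_pCoreOf_coprime_of_map {p : ℕ} [Fact p.Prime] {G : Type u} [Group G] [Finite G] (H N : Subgroup G)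
    [N.Normal] (hNH : N ≤ H) (hN : IsPGroup p N)
    (h : ((pCoreOf p (H.map (QuotientGroup.mk' N))).relIndex (H.map (QuotientGroup.mk' N))).Coprime p) :
    ((pCoreOf p H).relIndex H).Coprime p := by
  set T := pCoreOf p (H.map (QuotientGroup.mk' N)) with hT
  set L := T.comap (QuotientGroup.mk' N) with hL
  have hLH : L ≤ H := by
    intro x hx
    have hx1 : (QuotientGroup.mk' N) x ∈ T := hx
    have hx2 := Cfsg.Agent.Lib.Helper54.pCoreOf_le p _ hx1
    obtain ⟨y, hy, hyx⟩ := hx2
    have h3 : y⁻¹ * x ∈ N := by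
      rw [← QuotientGroup.eq_one_iff, QuotientGroup.mk_mul, QuotientGroup.mk_inv]
      have : (QuotientGroup.mk y : G ⧸ N) = QuotientGroup.mk x := hyx
      rw [this]; group
    have : x = y * (y⁻¹ * x) := by group
    rw [this]
    exact H.mul_mem hy (hNH h3)
  have hLn : H ≤ Subgroup.normalizer (L : Set G) := by
    intro g hg
    have hg1 : (QuotientGroup.mk' N) g ∈ Subgroup.normalizer (T : Set (G ⧸ N)) :=
      Cfsg.Agent.Lib.Helper54.le_normalizer_pCoreOf p _ (Subgroup.mem_map_of_mem _ hg)
    rw [Subgroup.mem_normalizer_iff] at hg1 ⊢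
    intro x
    rw [hL, Subgroup.mem_comap, Subgroup.mem_comap, map_mul, map_mul, map_inv]
    exact hg1 _
  have hLp : IsPGroup p L := by
    apply IsPGroup.comap_of_ker_isPGroup (Cfsg.Agent.Lib.Helper54.isPGroup_pCoreOf p _)
    rw [QuotientGroup.ker_mk']
    exact hN
  have hLle : L ≤ pCoreOf p H := Cfsg.Agent.Lib.Helper54.le_pCoreOf hLH hLn hLp
  have hrel : L.relIndex H = T.relIndex (H.map (QuotientGroup.mk' N)) := Subgroup.relIndex_comap _ _ _
  have hdvd : (pCoreOf p H).relIndex H ∣ L.relIndex H := Subgroup.relIndex_dvd_of_le_left H hLle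
  rw [hrel] at hdvd
  exact Nat.Coprime.coprime_dvd_left hdvd h


end Cfsg.Agent.Lib.Helper29.BG36
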