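import Mathlib
import Cfsg.Agent.Lib.Helper29.BG36Base
import Cfsg.Agent.Lib.Helper29.PCore
import Cfsg.Agent.Lib.Helper33.SolvPSolv
import Cfsg.Agent.Lib.Helper02.HHDual

set_option autoImplicit false

/-!
# Bender–Glauberman Theorem 3.6: the subgroup `O_{p,p'}`

For `V ⊴ G` and `H ≤ G` we define `Xsub p H V`, the preimage in `G` of `O_{p'}(H V / V)`, and prove
its basic properties (normality, order, maximality, faithfulness of `p`-subgroups).
-/

namespace Cfsg.Agent.Lib.Helper29.BG36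

open Cfsg

universe u

variable {G : Type u} [Group G]

/-- a `p`-subgroup `T` of `K` lies in any `p`-subgroup `P` of `K` of index prime to `p` as soon as one
of them normalizes the other -/
theorem pSubgroup_le_of_not_dvd_relIndex [Finite G] {p : ℕ} [hp : Fact p.Prime] (T P K : Subgroup G)
    (hT : IsPGroup p T) (hP : IsPGroup p P) (hTK : T ≤ K) (hPK : P ≤ K) (hidx : ¬ p ∣ P.relIndex K)
    (hn : T ≤ Subgroup.normalizer (P : Set G) ∨ P ≤ Subgroup.normalizer (T : Set G)) : T ≤ P := by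
  have hS : IsPGroup p (T ⊔ P : Subgroup G) := by
    rcases hn with h | h
    · exact IsPGroup.to_sup_of_normal_right' hT hP h
    · have := IsPGroup.to_sup_of_normal_right' hP hT h
      rwa [sup_comm] at this
  have hPS : P ≤ T ⊔ P := le_sup_right
  have hSK : T ⊔ P ≤ K := sup_le hTK hPK
  have h1 : P.relIndex (T ⊔ P) ∣ P.relIndex K :=
    Dvd.intro _ (Subgroup.relIndex_mul_relIndex P (T ⊔ P) K hPS hSK)
  have h2 : P.relIndex (T ⊔ P) ∣ Nat.card (T ⊔ P : Subgroup G) := by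
    unfold Subgroup.relIndex
    exact Subgroup.index_dvd_card _
  obtain ⟨a, ha⟩ := IsPGroup.exists_card_eq hS
  rw [ha] at h2
  obtain ⟨j, -, hj⟩ := (Nat.dvd_prime_pow hp.out).mp h2
  have hj0 : j = 0 := by
    by_contra hne
    apply hidx
    have : p ∣ P.relIndex (T ⊔ P) := by rw [hj]; exact dvd_pow_self p hne
    exact this.trans h1
  rw [hj0, pow_zero, Subgroup.relIndex_eq_one] at hj
  exact le_sup_left.trans hj

/-- `O_{p'}` of a normal subgroup is normal -/
theorem pPrimeCoreOf_normal [Finite G] (p : ℕ) (L : Subgroup G) [hL : L.Normal] :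
    (Cfsg.Agent.Lib.Helper42.pPrimeCoreOf p L).Normal := by
  constructor
  intro n hn g
  have hg : g ∈ Subgroup.normalizer (L : Set G) := by
    rw [Subgroup.normalizer_eq_top_iff.mpr hL]; exact Subgroup.mem_top g
  exact Cfsg.Agent.Lib.Helper42.pPrimeCoreOf_conj_mem p L g hg n hn

theorem card_pPrimeCoreOf_coprime [Finite G] (p : ℕ) (L : Subgroup G) :
    (Nat.card (Cfsg.Agent.Lib.Helper42.pPrimeCoreOf p L)).Coprime p := by
  unfold Cfsg.Agent.Lib.Helper42.pPrimeCoreOf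
  rw [Subgroup.card_map_of_injective L.subtype_injective]
  exact Cfsg.Agent.Lib.Helper29.pPrimeCore_coprime p

/-- `O_p` of a normal subgroup is normal -/
theorem pCoreOf_normal' [Finite G] (p : ℕ) (L : Subgroup G) [hL : L.Normal] : (pCoreOf p L).Normal := by
  rw [← Subgroup.normalizer_eq_top_iff, eq_top_iff]
  have := Cfsg.Agent.Lib.Helper54.normalizer_le_normalizer_pCoreOf p L
  rwa [Subgroup.normalizer_eq_top_iff.mpr hL] at this

/-- the preimage of `O_{p'}(H V / V)` -/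
def Xsub (p : ℕ) (H V : Subgroup G) [V.Normal] : Subgroup G :=
  (Cfsg.Agent.Lib.Helper42.pPrimeCoreOf p (H.map (QuotientGroup.mk' V))).comap (QuotientGroup.mk' V)

section X

variable [Finite G] (p : ℕ) [hp : Fact p.Prime] (H V : Subgroup G) [hVn : V.Normal]

instance Xsub_normal [hHn : H.Normal] : (Xsub p H V).Normal := by
  haveI : (H.map (QuotientGroup.mk' V)).Normal :=
    Subgroup.Normal.map hHn _ (QuotientGroup.mk'_surjective V)
  haveI := pPrimeCoreOf_normal p (H.map (QuotientGroup.mk' V))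
  unfold Xsub
  infer_instance

theorem le_Xsub : V ≤ Xsub p H V := by
  intro v hv
  unfold Xsub
  rw [Subgroup.mem_comap, QuotientGroup.mk'_apply, (QuotientGroup.eq_one_iff v).mpr hv]
  exact Subgroup.one_mem _

theorem mem_of_mk_mem_map {K : Subgroup G} (hVK : V ≤ K) {x : G}
    (hx : (QuotientGroup.mk' V) x ∈ K.map (QuotientGroup.mk' V)) : x ∈ K := by
  obtain ⟨y, hy, hyx⟩ := hx
  have h3 : y⁻¹ * x ∈ V := by
    rw [← QuotientGroup.eq_one_iff, QuotientGroup.mk_mul, QuotientGroup.mk_inv]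
    have : (QuotientGroup.mk y : G ⧸ V) = QuotientGroup.mk x := hyx
    rw [this]; group
  have : x = y * (y⁻¹ * x) := by group
  rw [this]
  exact K.mul_mem hy (hVK h3)

theorem Xsub_le (hVH : V ≤ H) : Xsub p H V ≤ H := by
  intro x hx
  have hx1 : (QuotientGroup.mk' V) x ∈ Cfsg.Agent.Lib.Helper42.pPrimeCoreOf p (H.map (QuotientGroup.mk' V)) := hx
  exact mem_of_mk_mem_map V hVH (Cfsg.Agent.Lib.Helper42.pPrimeCoreOf_le p _ hx1)

theorem map_Xsub : (Xsub p H V).map (QuotientGroup.mk' V) =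
    Cfsg.Agent.Lib.Helper42.pPrimeCoreOf p (H.map (QuotientGroup.mk' V)) :=
  Subgroup.map_comap_eq_self_of_surjective (QuotientGroup.mk'_surjective V) _

theorem card_Xsub : ∃ m : ℕ, m.Coprime p ∧ Nat.card (Xsub p H V) = Nat.card V * m ∧
    Nat.card (Cfsg.Agent.Lib.Helper42.pPrimeCoreOf p (H.map (QuotientGroup.mk' V))) = m :=
  ⟨_, card_pPrimeCoreOf_coprime p _, Cfsg.Agent.Lib.Helper29.card_comap_mk' V _, rfl⟩

/-- maximality of `Xsub` -/
theorem le_Xsub_of_coprime (K : Subgroup G) (hKH : K ≤ H)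
    (hn : H ≤ Subgroup.normalizer (K : Set G))
    (hc : (Nat.card (K.map (QuotientGroup.mk' V))).Coprime p) : K ≤ Xsub p H V := by
  have h1 : K.map (QuotientGroup.mk' V) ≤
      Cfsg.Agent.Lib.Helper42.pPrimeCoreOf p (H.map (QuotientGroup.mk' V)) := by
    apply Cfsg.Agent.Lib.Helper42.le_pPrimeCoreOf p _ _ (Subgroup.map_mono hKH) _ hc
    rintro _ ⟨g, hg, rfl⟩ _ ⟨k, hk, rfl⟩
    refine ⟨g * k * g⁻¹, (Subgroup.mem_normalizer_iff.mp (hn hg) k).mp hk, ?_⟩
    simp
  unfold Xsub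
  exact (Subgroup.le_comap_map _ _).trans (Subgroup.comap_mono h1)

end X

/-- `O_p(H V / V) = 1` when `V = O_p(H)` -/
theorem pCoreOf_map_eq_bot [Finite G] (p : ℕ) [hp : Fact p.Prime] (H V : Subgroup G) [hVn : V.Normal]
    (hV : V = pCoreOf p H) : pCoreOf p (H.map (QuotientGroup.mk' V)) = ⊥ := by
  have hVH : V ≤ H := by rw [hV]; exact Cfsg.Agent.Lib.Helper54.pCoreOf_le p H
  set T := pCoreOf p (H.map (QuotientGroup.mk' V)) with hT
  set L := T.comap (QuotientGroup.mk' V) with hL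
  have hLH : L ≤ H := by
    intro x hx
    have hx1 : (QuotientGroup.mk' V) x ∈ T := hx
    exact mem_of_mk_mem_map V hVH (Cfsg.Agent.Lib.Helper54.pCoreOf_le p _ hx1)
  have hLn : H ≤ Subgroup.normalizer (L : Set G) := by
    intro g hg
    have hg1 : (QuotientGroup.mk' V) g ∈ Subgroup.normalizer (T : Set (G ⧸ V)) :=
      Cfsg.Agent.Lib.Helper54.le_normalizer_pCoreOf p _ (Subgroup.mem_map_of_mem _ hg)
    rw [Subgroup.mem_normalizer_iff] at hg1 ⊢
    intro x
    rw [hL, Subgroup.mem_comap, Subgroup.mem_comap, map_mul, map_mul, map_inv]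
    exact hg1 _
  have hLp : IsPGroup p L := by
    apply IsPGroup.comap_of_ker_isPGroup (Cfsg.Agent.Lib.Helper54.isPGroup_pCoreOf p _)
    rw [QuotientGroup.ker_mk', hV]
    exact Cfsg.Agent.Lib.Helper54.isPGroup_pCoreOf p H
  have hLle : L ≤ V := by rw [hV]; exact Cfsg.Agent.Lib.Helper54.le_pCoreOf hLH hLn hLp
  rw [eq_bot_iff]
  intro y hy
  obtain ⟨x, rfl⟩ := QuotientGroup.mk'_surjective V y
  have hx : x ∈ L := hy
  rw [Subgroup.mem_bot, QuotientGroup.mk'_apply, QuotientGroup.eq_one_iff]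
  exact hLle hx

/-- **faithfulness**: a `p`-subgroup of `H` centralizing `X / V` lies in `V = O_p(H)`. -/
theorem pSubgroup_le_of_comm_Xsub [Finite G] (p : ℕ) [hp : Fact p.Prime] (H V : Subgroup G)
    [hVn : V.Normal] (hsolv : Group.IsSolvable ↥H) (hV : V = pCoreOf p H)
    (T : Subgroup G) (hTH : T ≤ H) (hT : IsPGroup p T)
    (hc : ∀ t ∈ T, ∀ y ∈ Xsub p H V, t * y * t⁻¹ * y⁻¹ ∈ V) : T ≤ V := by
  set Hb := H.map (QuotientGroup.mk' V) with hHb
  have hsolvb : Group.IsSolvable ↥Hb :=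
    Group.isSolvable_of_surjective (f := (QuotientGroup.mk' V).subgroupMap H)
      (MonoidHom.subgroupMap_surjective _ _)
  have hps : IsPSolvable p ↥Hb := Cfsg.Agent.Lib.Helper33.isPSolvable_of_isSolvable p ↥Hb
  have hpc : pCore p ↥Hb = ⊥ := by
    have := pCoreOf_map_eq_bot p H V hV
    unfold pCoreOf at this
    exact (Subgroup.map_eq_bot_iff_of_injective _ Hb.subtype_injective).mp this
  have hfaith := Cfsg.Agent.Lib.Helper02.HHDual.centralizer_pPrimeCore_le hps hpc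
  intro t ht
  have htb : (QuotientGroup.mk' V) t ∈ Hb := Subgroup.mem_map_of_mem _ (hTH ht)
  have hcen : (⟨(QuotientGroup.mk' V) t, htb⟩ : ↥Hb) ∈
      Subgroup.centralizer (pPrimeCore p ↥Hb : Set ↥Hb) := by
    rw [Subgroup.mem_centralizer_iff]
    intro z hz
    have hz1 : (z : G ⧸ V) ∈ Cfsg.Agent.Lib.Helper42.pPrimeCoreOf p Hb := ⟨z, hz, rfl⟩
    rw [← map_Xsub p H V] at hz1
    obtain ⟨y, hy, hyz⟩ := hz1
    have h1 := hc t ht y hy
    rw [← QuotientGroup.eq_one_iff] at h1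
    apply Subtype.ext
    show (z : G ⧸ V) * (QuotientGroup.mk' V) t = (QuotientGroup.mk' V) t * (z : G ⧸ V)
    rw [← hyz]
    have h2 : (QuotientGroup.mk' V) t * (QuotientGroup.mk' V) y * ((QuotientGroup.mk' V) t)⁻¹ *
        ((QuotientGroup.mk' V) y)⁻¹ = 1 := by
      simpa using h1
    calc (QuotientGroup.mk' V) y * (QuotientGroup.mk' V) t
        = ((QuotientGroup.mk' V) t * (QuotientGroup.mk' V) y * ((QuotientGroup.mk' V) t)⁻¹ *
          ((QuotientGroup.mk' V) y)⁻¹)⁻¹ * ((QuotientGroup.mk' V) t * (QuotientGroup.mk' V) y) := by group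
      _ = (QuotientGroup.mk' V) t * (QuotientGroup.mk' V) y := by rw [h2]; group
  have hmem := hfaith hcen
  -- order argument
  have ho1 : orderOf (⟨(QuotientGroup.mk' V) t, htb⟩ : ↥Hb) ∣ Nat.card (pPrimeCore p ↥Hb) := by
    have := orderOf_dvd_natCard (⟨_, hmem⟩ : ↥(pPrimeCore p ↥Hb))
    rwa [Subgroup.orderOf_mk] at this
  have ho2 : orderOf (⟨(QuotientGroup.mk' V) t, htb⟩ : ↥Hb) ∣ orderOf t := by
    rw [Subgroup.orderOf_mk]
    exact orderOf_map_dvd _ t
  obtain ⟨k, hk⟩ := (IsPGroup.iff_orderOf.mp hT) ⟨t, ht⟩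
  rw [Subgroup.orderOf_mk] at hk
  have hcop : (Nat.card (pPrimeCore p ↥Hb)).Coprime (p ^ k) :=
    Nat.Coprime.pow_right k (Cfsg.Agent.Lib.Helper29.pPrimeCore_coprime p)
  rw [hk] at ho2
  have h1 : orderOf (⟨(QuotientGroup.mk' V) t, htb⟩ : ↥Hb) = 1 :=
    Nat.eq_one_of_dvd_coprimes hcop ho1 ho2
  rw [orderOf_eq_one_iff] at h1
  have h2 : (QuotientGroup.mk' V) t = 1 := congrArg Subtype.val h1
  rwa [QuotientGroup.mk'_apply, QuotientGroup.eq_one_iff] at h2


end Cfsg.Agent.Lib.Helper29.BG36
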