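import Mathlib
import Cfsg.Agent.Lib.Helper29.BG36X
import Cfsg.Agent.Lib.Helper01.Commutator
import Cfsg.Agent.Lib.Helper01.Coprime

set_option autoImplicit false

/-!
# Bender–Glauberman Theorem 3.6: sub-configurations

Lemma S: in a proper sub-configuration every `p`-subgroup of `[H', R₁]` lies in `O_p(H')`.
-/

namespace Cfsg.Agent.Lib.Helper29.BG36

open Cfsg

universe u

variable {G : Type u} [Group G]

theorem commutator_le_left' {H K : Subgroup G}
    (h : K ≤ Subgroup.normalizer (H : Set G)) : ⁅H, K⁆ ≤ H := by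
  rw [Subgroup.commutator_le]
  intro a ha b hb
  rw [commutatorElement_def]
  have : a * b * a⁻¹ * b⁻¹ = a * (b * a⁻¹ * b⁻¹) := by group
  rw [this]
  exact H.mul_mem ha ((Subgroup.mem_normalizer_iff.mp (h hb) _).mp (H.inv_mem ha))

/-- two subgroups normalizing each other with trivial intersection commute -/
theorem comm_of_normalize_of_disjoint {A B : Subgroup G} (hAB : A ≤ Subgroup.normalizer (B : Set G))
    (hBA : B ≤ Subgroup.normalizer (A : Set G)) (hd : A ⊓ B = ⊥) :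
    ∀ a ∈ A, ∀ b ∈ B, a * b = b * a := by
  intro a ha b hb
  have h1 : a * b * a⁻¹ * b⁻¹ ∈ B :=
    B.mul_mem ((Subgroup.mem_normalizer_iff.mp (hAB ha) b).mp hb) (B.inv_mem hb)
  have h2 : a * b * a⁻¹ * b⁻¹ ∈ A := by
    have : a * b * a⁻¹ * b⁻¹ = a * (b * a⁻¹ * b⁻¹) := by group
    rw [this]
    exact A.mul_mem ha ((Subgroup.mem_normalizer_iff.mp (hBA hb) _).mp (A.inv_mem ha))
  have h3 : a * b * a⁻¹ * b⁻¹ = 1 := by
    have : a * b * a⁻¹ * b⁻¹ ∈ A ⊓ B := Subgroup.mem_inf.mpr ⟨h2, h1⟩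
    rwa [hd, Subgroup.mem_bot] at this
  calc a * b = (a * b * a⁻¹ * b⁻¹) * (b * a) := by group
    _ = b * a := by rw [h3, one_mul]

theorem inf_eq_bot_of_isPGroup_of_coprime {p : ℕ} {A B : Subgroup G} [Finite G] [Fact p.Prime]
    (hA : IsPGroup p A) (hB : (Nat.card B).Coprime p) : A ⊓ B = ⊥ := by
  obtain ⟨n, hn⟩ := IsPGroup.exists_card_eq hA
  have : (Nat.card A).Coprime (Nat.card B) := by
    rw [hn]; exact (Nat.Coprime.pow_right n hB).symm
  exact disjoint_iff.mp (Subgroup.disjoint_of_coprime_natCard this)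

/-- **Lemma S.** In a proper sub-configuration `(H', R₁)` every `p`-subgroup of `[H', R₁]` lies in
`O_p(H')`. -/
theorem subConfig_pSubgroup_le {p : ℕ} [hp : Fact p.Prime] [Finite G] (hsolv : Group.IsSolvable G)
    (hodd : Odd (Nat.card G)) (ih : IH.{u} p (Nat.card G)) (H R R₀ V : Subgroup G) (hyp : Hyp H R R₀)
    [hVn : V.Normal] (hVp : IsPGroup p V) (hCV : H ⊓ Subgroup.centralizer (V : Set G) ≤ V)
    (H' R₁ : Subgroup G) (hH' : H' ≤ H) (hVH' : V ≤ H') (hR₁ : R₁ ≤ R) (hR₀ : R₀ ≤ R₁)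
    (hn : R₁ ≤ Subgroup.normalizer (H' : Set G)) (hlt : Nat.card ↥(H' ⊔ R₁) < Nat.card G)
    (T : Subgroup G) (hT : T ≤ ⁅H', R₁⁆) (hTp : IsPGroup p T) : T ≤ pCoreOf p H' := by
  set N : Subgroup G := ⁅H', R₁⁆ with hN
  have hNH' : N ≤ H' := commutator_le_left' hn
  have hH'N : H' ≤ Subgroup.normalizer (N : Set G) :=
    Cfsg.Agent.Lib.Helper01.le_normalizer_commutator_left H' R₁
  have hcop : (Nat.card H').Coprime (Nat.card R₁) :=
    Nat.Coprime.coprime_dvd_left (Subgroup.card_dvd_of_le hH')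
      (Nat.Coprime.coprime_dvd_right (Subgroup.card_dvd_of_le hR₁) hyp.cop)
  have hz : IsZGroup ↥(H' ⊓ Subgroup.centralizer (R₀ : Set G)) := by
    have := hyp.zgrp
    exact IsZGroup.of_injective (f := Subgroup.inclusion (inf_le_inf_right _ hH'))
      (Subgroup.inclusion_injective _)
  have hpl : PLengthLE p 1 ↥N :=
    subConfig hsolv hodd ih H' R₁ R₀ hn hcop hR₀ hyp.prime hz hlt
  -- O_{p'}(N) = 1
  set O := Cfsg.Agent.Lib.Helper42.pPrimeCoreOf p N with hO
  have hOc : (Nat.card O).Coprime p := card_pPrimeCoreOf_coprime p N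
  have hON : O ≤ N := Cfsg.Agent.Lib.Helper42.pPrimeCoreOf_le p N
  have hVO : V ≤ Subgroup.normalizer (O : Set G) := by
    intro v hv
    have hvN : v ∈ Subgroup.normalizer (N : Set G) := hH'N (hVH' hv)
    have hvN' : v⁻¹ ∈ Subgroup.normalizer (N : Set G) := Subgroup.inv_mem _ hvN
    rw [Subgroup.mem_normalizer_iff]
    intro m
    constructor
    · exact Cfsg.Agent.Lib.Helper42.pPrimeCoreOf_conj_mem p N v hvN m
    · intro hm
      have := Cfsg.Agent.Lib.Helper42.pPrimeCoreOf_conj_mem p N v⁻¹ hvN' _ hm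
      have e : v⁻¹ * (v * m * v⁻¹) * v⁻¹⁻¹ = m := by group
      rwa [e] at this
  have hOV : O ≤ Subgroup.normalizer (V : Set G) := by
    rw [Subgroup.normalizer_eq_top_iff.mpr hVn]; exact le_top
  have hdisj : V ⊓ O = ⊥ := inf_eq_bot_of_isPGroup_of_coprime hVp hOc
  have hcomm := comm_of_normalize_of_disjoint hVO hOV hdisj
  have hO1 : O = ⊥ := by
    rw [eq_bot_iff, ← hdisj]
    intro o ho
    refine Subgroup.mem_inf.mpr ⟨?_, ho⟩
    apply hCV
    refine Subgroup.mem_inf.mpr ⟨hH' (hNH' (hON ho)), ?_⟩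
    rw [Subgroup.mem_centralizer_iff]
    intro v hv
    exact hcomm v hv o ho
  have hrel := relIndex_pCoreOf_coprime N hpl hO1
  have hKN : pCoreOf p N ≤ N := Cfsg.Agent.Lib.Helper54.pCoreOf_le p N
  have hTK : T ≤ pCoreOf p N := by
    apply pSubgroup_le_of_not_dvd_relIndex T (pCoreOf p N) N hTp
      (Cfsg.Agent.Lib.Helper54.isPGroup_pCoreOf p N) hT hKN
    · rw [← Nat.Prime.coprime_iff_not_dvd hp.out, Nat.coprime_comm]; exact hrel
    · left
      exact hT.trans (Cfsg.Agent.Lib.Helper54.le_normalizer_pCoreOf p N)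
  refine hTK.trans ?_
  apply Cfsg.Agent.Lib.Helper54.le_pCoreOf (hKN.trans hNH')
  · exact hH'N.trans (Cfsg.Agent.Lib.Helper54.normalizer_le_normalizer_pCoreOf p N)
  · exact Cfsg.Agent.Lib.Helper54.isPGroup_pCoreOf p N


end Cfsg.Agent.Lib.Helper29.BG36
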