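import Mathlib
import Cfsg.Agent.Lib.Helper29.BG36S
import Cfsg.Agent.Lib.Helper32.CoprimeHall

set_option autoImplicit false

/-!
# Bender–Glauberman Theorem 3.6: the context of a minimal counterexample

The structure `Ctx`, the Frattini argument `H = V N_H(Q)`, normality of `C_V(Q)` and Step 5:
`C_V(Q) = 1`.
-/

namespace Cfsg.Agent.Lib.Helper29.BG36

open Cfsg
open scoped Pointwise

universe u

variable {G : Type u} [Group G]

theorem normalizer_le_normalizer_centralizer (K : Subgroup G) :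
    Subgroup.normalizer (K : Set G) ≤
      Subgroup.normalizer ((Subgroup.centralizer (K : Set G) : Subgroup G) : Set G) := by
  intro g hg
  rw [Subgroup.mem_normalizer_iff]
  intro c
  rw [Subgroup.mem_centralizer_iff, Subgroup.mem_centralizer_iff]
  constructor
  · intro hc k hk
    have hk' : g⁻¹ * k * g ∈ K := by
      have := (Subgroup.mem_normalizer_iff.mp (Subgroup.inv_mem _ hg) k).mp hk
      simpa using this
    have := hc _ hk'
    calc k * (g * c * g⁻¹) = g * ((g⁻¹ * k * g) * c) * g⁻¹ := by group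
      _ = g * (c * (g⁻¹ * k * g)) * g⁻¹ := by rw [this]
      _ = g * c * g⁻¹ * k := by group
  · intro hc k hk
    have hk' : g * k * g⁻¹ ∈ K := (Subgroup.mem_normalizer_iff.mp hg k).mp hk
    have := hc _ hk'
    calc k * c = g⁻¹ * ((g * k * g⁻¹) * (g * c * g⁻¹)) * g := by group
      _ = g⁻¹ * ((g * c * g⁻¹) * (g * k * g⁻¹)) * g := by rw [this]
      _ = c * k := by group

theorem normalizer_inf_le (A B : Subgroup G) :
    Subgroup.normalizer (A : Set G) ⊓ Subgroup.normalizer (B : Set G) ≤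
      Subgroup.normalizer ((A ⊓ B : Subgroup G) : Set G) := by
  intro g hg
  rw [Subgroup.mem_inf] at hg
  have h1 := hg.1
  have h2 := hg.2
  rw [Subgroup.mem_normalizer_iff] at h1 h2 ⊢
  intro y
  rw [Subgroup.mem_inf, Subgroup.mem_inf, ← h1 y, ← h2 y]


/-- `N(L)` normalizes `O_{p'}(L)` -/
theorem normalizer_le_normalizer_pPrimeCoreOf [Finite G] (p : ℕ) (L : Subgroup G) :
    Subgroup.normalizer (L : Set G) ≤
      Subgroup.normalizer ((Cfsg.Agent.Lib.Helper42.pPrimeCoreOf p L : Subgroup G) : Set G) := by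
  intro v hvN
  have hvN' : v⁻¹ ∈ Subgroup.normalizer (L : Set G) := Subgroup.inv_mem _ hvN
  rw [Subgroup.mem_normalizer_iff]
  intro m
  constructor
  · exact Cfsg.Agent.Lib.Helper42.pPrimeCoreOf_conj_mem p L v hvN m
  · intro hm
    have := Cfsg.Agent.Lib.Helper42.pPrimeCoreOf_conj_mem p L v⁻¹ hvN' _ hm
    have e : v⁻¹ * (v * m * v⁻¹) * v⁻¹⁻¹ = m := by group
    rwa [e] at this

/-- comap of a subgroup normalized by the image of `H` is normalized by `H` -/
theorem le_normalizer_comap_mk {N : Subgroup G} [N.Normal] {H : Subgroup G} {T : Subgroup (G ⧸ N)}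
    (h : H.map (QuotientGroup.mk' N) ≤ Subgroup.normalizer (T : Set (G ⧸ N))) :
    H ≤ Subgroup.normalizer ((T.comap (QuotientGroup.mk' N) : Subgroup G) : Set G) := by
  intro g hg
  have hg1 := h (Subgroup.mem_map_of_mem _ hg)
  rw [Subgroup.mem_normalizer_iff] at hg1 ⊢
  intro x
  rw [Subgroup.mem_comap, Subgroup.mem_comap, map_mul, map_mul, map_inv]
  exact hg1 _

/-- a coprime automorphism stabilizing `1 ≤ C ≤ V` (`V` abelian) is trivial: element form -/
theorem comm_of_stabilizes {k v : G} {n m : ℕ} (hk : k ^ n = 1)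
    (hc0 : (k * v * k⁻¹ * v⁻¹) ^ m = 1) (hnm : n.Coprime m)
    (hkc : k * (k * v * k⁻¹ * v⁻¹) = (k * v * k⁻¹ * v⁻¹) * k) : k * v = v * k := by
  set c0 := k * v * k⁻¹ * v⁻¹ with hc0def
  have hstep : ∀ j : ℕ, k ^ j * v * (k ^ j)⁻¹ = c0 ^ j * v := by
    intro j
    induction j with
    | zero => simp
    | succ j ih =>
      have hcomm : Commute k c0 := hkc
      calc k ^ (j + 1) * v * (k ^ (j + 1))⁻¹ = k * (k ^ j * v * (k ^ j)⁻¹) * k⁻¹ := by
            rw [pow_succ']; group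
        _ = k * (c0 ^ j * v) * k⁻¹ := by rw [ih]
        _ = (k * c0 ^ j * k⁻¹) * (k * v * k⁻¹ * v⁻¹) * v := by group
        _ = c0 ^ j * c0 * v := by
            rw [← hc0def, (hcomm.pow_right j).eq]; group
        _ = c0 ^ (j + 1) * v := by rw [pow_succ]
  have h1 := hstep n
  rw [hk] at h1
  have h2 : c0 ^ n = 1 := by
    have : v = c0 ^ n * v := by simpa using h1
    calc c0 ^ n = (c0 ^ n * v) * v⁻¹ := by group
      _ = v * v⁻¹ := by rw [← this]
      _ = 1 := by group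
  have h3 : orderOf c0 ∣ n := orderOf_dvd_of_pow_eq_one h2
  have h4 : orderOf c0 ∣ m := orderOf_dvd_of_pow_eq_one hc0
  have h5 : orderOf c0 = 1 := Nat.eq_one_of_dvd_coprimes hnm h3 h4
  have h6 : c0 = 1 := orderOf_eq_one_iff.mp h5
  calc k * v = (k * v * k⁻¹ * v⁻¹) * (v * k) := by group
    _ = v * k := by rw [← hc0def, h6, one_mul]

/-- the accumulated context of the minimal counterexample -/
structure Ctx (p : ℕ) (H R R₀ V X Q : Subgroup G) [V.Normal] : Prop where
  hyp : Hyp H R R₀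
  hHR : ⁅H, R⁆ = H
  hV : V = pCoreOf p H
  hVea : IsElementaryAbelian p V
  hCV : H ⊓ Subgroup.centralizer (V : Set G) ≤ V
  hXn : X.Normal
  hVX : V ≤ X
  hXH : X ≤ H
  hmax : ∀ K : Subgroup G, K ≤ H → H ≤ Subgroup.normalizer (K : Set G) →
    (Nat.card (K.map (QuotientGroup.mk' V))).Coprime p → K ≤ X
  hfaith : ∀ T : Subgroup G, T ≤ H → IsPGroup p T →
    (∀ t ∈ T, ∀ y ∈ X, t * y * t⁻¹ * y⁻¹ ∈ V) → T ≤ V
  hQX : Q ≤ X
  hRQ : R ≤ Subgroup.normalizer (Q : Set G)
  hQc : (Nat.card Q).Coprime p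
  hcardX : Nat.card X = Nat.card V * Nat.card Q

namespace Ctx

variable {p : ℕ} [hp : Fact p.Prime] {H R R₀ V X Q : Subgroup G} [hVn : V.Normal]

theorem hVp (c : Ctx p H R R₀ V X Q) : IsPGroup p V := by
  intro g
  refine ⟨1, ?_⟩
  apply Subtype.ext
  rw [pow_one]
  simpa using c.hVea.2 g g.2

theorem hVc (c : Ctx p H R R₀ V X Q) : ∀ a ∈ V, ∀ b ∈ V, a * b = b * a := by
  intro a ha b hb
  have := c.hVea.1.is_comm.comm ⟨a, ha⟩ ⟨b, hb⟩
  exact congrArg Subtype.val this

theorem hVH (c : Ctx p H R R₀ V X Q) : V ≤ H := c.hVX.trans c.hXH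

theorem hQH (c : Ctx p H R R₀ V X Q) : Q ≤ H := c.hQX.trans c.hXH

theorem hVQ [Finite G] (c : Ctx p H R R₀ V X Q) : V ⊓ Q = ⊥ :=
  inf_eq_bot_of_isPGroup_of_coprime c.hVp c.hQc

theorem hcopVQ [Finite G] (c : Ctx p H R R₀ V X Q) : (Nat.card V).Coprime (Nat.card Q) := by
  obtain ⟨n, hn⟩ := IsPGroup.exists_card_eq c.hVp
  rw [hn]; exact (Nat.Coprime.pow_right n c.hQc).symm

theorem le_normalizer_V (c : Ctx p H R R₀ V X Q) (K : Subgroup G) :
    K ≤ Subgroup.normalizer (V : Set G) := by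
  rw [Subgroup.normalizer_eq_top_iff.mpr hVn]; exact le_top

theorem hXeq [Finite G] (c : Ctx p H R R₀ V X Q) : X = V ⊔ Q := by
  symm
  apply Subgroup.eq_of_le_of_card_ge (sup_le c.hVX c.hQX)
  rw [sup_comm, Cfsg.Agent.Lib.Helper01.card_sup_of_coprime_of_le_normalizer V Q
    (c.le_normalizer_V Q) c.hcopVQ, c.hcardX]

theorem mem_X [Finite G] (c : Ctx p H R R₀ V X Q) {y : G} (hy : y ∈ X) :
    ∃ v ∈ V, ∃ q ∈ Q, y = v * q := by
  rw [c.hXeq, sup_comm] at hy
  obtain ⟨q, hq, v, hv, rfl⟩ := Cfsg.Agent.Lib.Helper01.exists_mul_of_mem_sup (c.le_normalizer_V Q) hy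
  refine ⟨q * v * q⁻¹, hVn.conj_mem v hv q, q, hq, by group⟩

/-- Frattini argument: `H = V N_H(Q)` -/
theorem frattini [Finite G] (hsolv : Group.IsSolvable G) (c : Ctx p H R R₀ V X Q) {h : G} (hh : h ∈ H) :
    ∃ v ∈ V, ∃ l ∈ H ⊓ Subgroup.normalizer (Q : Set G), h = v * l := by
  have hXn := c.hXn
  have hA : MulAut.conj h • Q ≤ X :=
    Cfsg.Agent.Lib.Helper32.conj_smul_le_of_mem_normalizer
      (by rw [Subgroup.normalizer_eq_top_iff.mpr hXn]; exact Subgroup.mem_top h) c.hQX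
  have hAc : Nat.card ↥(MulAut.conj h • Q) = Nat.card Q := Cfsg.Agent.Lib.Helper01.card_conj_smul h Q
  have hcard : Nat.card X = Nat.card Q * Nat.card V := by rw [c.hcardX, mul_comm]
  obtain ⟨g, hg, hgQ⟩ := Cfsg.Agent.Lib.Helper32.hall_conj_in X inferInstance (Nat.card Q) (Nat.card V)
    hcard c.hcopVQ.symm hA c.hQX hAc rfl
  have hgh : g * h ∈ Subgroup.normalizer (Q : Set G) := by
    rw [Cfsg.Agent.Lib.Helper01.mem_normalizer_iff_conj_smul, map_mul, mul_smul]
    exact hgQ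
  obtain ⟨v, hv, y, hy, rfl⟩ := c.mem_X hg
  refine ⟨y⁻¹ * v⁻¹ * y⁻¹⁻¹, hVn.conj_mem _ (V.inv_mem hv) _, y⁻¹ * (v * y * h), ?_, by group⟩
  refine Subgroup.mem_inf.mpr ⟨?_, ?_⟩
  · exact H.mul_mem (H.inv_mem (c.hQH hy)) (H.mul_mem (H.mul_mem (c.hVH hv) (c.hQH hy)) hh)
  · exact Subgroup.mul_mem _ (Subgroup.inv_mem _ (Subgroup.le_normalizer hy)) hgh

/-- `C_V(Q)` is normal in `G` -/
theorem normal_C [Finite G] (hsolv : Group.IsSolvable G) (c : Ctx p H R R₀ V X Q) :
    (V ⊓ Subgroup.centralizer (Q : Set G)).Normal := by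
  rw [← Subgroup.normalizer_eq_top_iff, eq_top_iff, ← c.hyp.sup]
  have hNQ : Subgroup.normalizer (Q : Set G) ≤
      Subgroup.normalizer ((V ⊓ Subgroup.centralizer (Q : Set G) : Subgroup G) : Set G) :=
    (le_inf (c.le_normalizer_V _) (normalizer_le_normalizer_centralizer Q)).trans
      (normalizer_inf_le _ _)
  apply sup_le
  · intro h hh
    obtain ⟨v, hv, l, hl, rfl⟩ := c.frattini hsolv hh
    apply Subgroup.mul_mem
    · rw [Subgroup.mem_normalizer_iff]
      intro y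
      constructor
      · intro hy
        have : v * y * v⁻¹ = y := by
          rw [c.hVc v hv y (Subgroup.mem_inf.mp hy).1]; group
        rwa [this]
      · intro hy
        have hyV : y ∈ V := by
          have h1 : v * y * v⁻¹ ∈ V := (Subgroup.mem_inf.mp hy).1
          have : y = v⁻¹ * (v * y * v⁻¹) * v := by group
          rw [this]
          exact V.mul_mem (V.mul_mem (V.inv_mem hv) h1) hv
        have : v * y * v⁻¹ = y := by
          rw [c.hVc v hv y hyV]; group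
        rwa [this] at hy
    · exact hNQ (Subgroup.mem_inf.mp hl).2
  · exact c.hRQ.trans hNQ

/-- **Step 5**: `C_V(Q) = 1`. -/
theorem step5 [Finite G] (hsolv : Group.IsSolvable G) (hodd : Odd (Nat.card G))
    (ih : IH.{u} p (Nat.card G)) (c : Ctx p H R R₀ V X Q)
    (hpdvd : ¬ ((pCoreOf p H).relIndex H).Coprime p) :
    V ⊓ Subgroup.centralizer (Q : Set G) = ⊥ := by
  by_contra hC1
  set C : Subgroup G := V ⊓ Subgroup.centralizer (Q : Set G) with hC
  haveI hCn : C.Normal := c.normal_C hsolv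
  have hCV' : C ≤ V := inf_le_left
  have hCH : C ≤ H := hCV'.trans c.hVH
  have hCp : IsPGroup p C := c.hVp.to_le hCV'
  have hpl0 := quotConfig hsolv hodd ih H R R₀ c.hyp C hCH hC1
  rw [c.hHR] at hpl0
  apply hpdvd
  apply relIndex_pCoreOf_coprime_of_map H C hCH hCp
  apply relIndex_pCoreOf_coprime _ hpl0
  -- the claim
  set Hc := H.map (QuotientGroup.mk' C) with hHc
  set O := Cfsg.Agent.Lib.Helper42.pPrimeCoreOf p Hc with hO
  set K := O.comap (QuotientGroup.mk' C) with hK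
  have hOc : (Nat.card O).Coprime p := card_pPrimeCoreOf_coprime p Hc
  have hKH : K ≤ H := fun x hx =>
    mem_of_mk_mem_map C hCH (Cfsg.Agent.Lib.Helper42.pPrimeCoreOf_le p _ hx)
  have hKn : H ≤ Subgroup.normalizer (K : Set G) :=
    le_normalizer_comap_mk (Subgroup.le_normalizer.trans (normalizer_le_normalizer_pPrimeCoreOf p Hc))
  have hCK : C ≤ K := by
    intro x hx
    rw [hK, Subgroup.mem_comap, QuotientGroup.mk'_apply, (QuotientGroup.eq_one_iff x).mpr hx]
    exact Subgroup.one_mem _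
  have hcardK : Nat.card K = Nat.card C * Nat.card O := Cfsg.Agent.Lib.Helper29.card_comap_mk' C O
  have hmapK : K.map (QuotientGroup.mk' C) = O :=
    Subgroup.map_comap_eq_self_of_surjective (QuotientGroup.mk'_surjective C) _
  have hKX : K ≤ X := by
    apply c.hmax K hKH hKn
    let φ : G ⧸ C →* G ⧸ V := QuotientGroup.map C V (MonoidHom.id G) hCV'
    have hφ : φ.comp (QuotientGroup.mk' C) = QuotientGroup.mk' V := by
      ext x; rfl
    have : K.map (QuotientGroup.mk' V) = O.map φ := by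
      rw [← hmapK, Subgroup.map_map, hφ]
    rw [this]
    exact Nat.Coprime.coprime_dvd_left (Subgroup.card_map_dvd _ _) hOc
  have hcopCO : (Nat.card O).Coprime (Nat.card C) := by
    obtain ⟨n, hn⟩ := IsPGroup.exists_card_eq hCp
    rw [hn]; exact Nat.Coprime.pow_right n hOc
  obtain ⟨K0, hK0K, hK0c⟩ := Cfsg.Agent.Lib.Helper32.hall_exists_in K inferInstance (Nat.card O)
    (Nat.card C) (by rw [hcardK, mul_comm]) hcopCO
  have hcard : Nat.card X = Nat.card Q * Nat.card V := by rw [c.hcardX, mul_comm]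
  have hK0V : (Nat.card K0).Coprime (Nat.card V) := by
    obtain ⟨n, hn⟩ := IsPGroup.exists_card_eq c.hVp
    rw [hn, hK0c]; exact Nat.Coprime.pow_right n hOc
  obtain ⟨Q', hQ'X, hQ'c, -, hK0Q'⟩ := Cfsg.Agent.Lib.Helper32.exists_invariant_hall_ge
    (A := (⊥ : Subgroup G)) (G := X) (U := K0) bot_le (by simp) inferInstance (hK0K.trans hKX) bot_le
    (Nat.card Q) (Nat.card V) hcard c.hcopVQ.symm hK0V
  obtain ⟨g, hg, hgQ⟩ := Cfsg.Agent.Lib.Helper32.hall_conj_in X inferInstance (Nat.card Q) (Nat.card V)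
    hcard c.hcopVQ.symm hQ'X c.hQX hQ'c rfl
  set K1 : Subgroup G := MulAut.conj g • K0 with hK1
  have hK1Q : K1 ≤ Q := by
    rw [← hgQ]
    exact Subgroup.pointwise_smul_le_pointwise_smul_iff.mpr hK0Q'
  have hK1K : K1 ≤ K :=
    Cfsg.Agent.Lib.Helper32.conj_smul_le_of_mem_normalizer (hKn (c.hXH hg)) hK0K
  have hK1c : Nat.card K1 = Nat.card O := by
    rw [hK1, Cfsg.Agent.Lib.Helper01.card_conj_smul, hK0c]
  have hKVC : K ⊓ V ≤ C := by
    apply pSubgroup_le_of_not_dvd_relIndex (K ⊓ V) C K (c.hVp.to_le inf_le_right) hCp inf_le_left hCK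
    · have h1 := Subgroup.relIndex_mul_relIndex ⊥ C K bot_le hCK
      rw [Subgroup.relIndex_bot_left, Subgroup.relIndex_bot_left, hcardK] at h1
      have h2 : C.relIndex K = Nat.card O :=
        Nat.eq_of_mul_eq_mul_left Nat.card_pos h1
      rw [h2, ← Nat.Prime.coprime_iff_not_dvd hp.out, Nat.coprime_comm]
      exact hOc
    · left
      rw [Subgroup.normalizer_eq_top_iff.mpr hCn]; exact le_top
  have hK1V : K1 ≤ V := by
    intro k hk
    apply c.hCV
    refine Subgroup.mem_inf.mpr ⟨hKH (hK1K hk), ?_⟩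
    rw [Subgroup.mem_centralizer_iff]
    intro v hv
    have hc0K : k * v * k⁻¹ * v⁻¹ ∈ K := by
      have : k * v * k⁻¹ * v⁻¹ = k * (v * k⁻¹ * v⁻¹) := by group
      rw [this]
      exact K.mul_mem (hK1K hk)
        ((Subgroup.mem_normalizer_iff.mp (hKn (c.hVH hv)) _).mp (K.inv_mem (hK1K hk)))
    have hc0V : k * v * k⁻¹ * v⁻¹ ∈ V := V.mul_mem (hVn.conj_mem v hv k) (V.inv_mem hv)
    have hc0C : k * v * k⁻¹ * v⁻¹ ∈ C := hKVC (Subgroup.mem_inf.mpr ⟨hc0K, hc0V⟩)
    have hkc : k * (k * v * k⁻¹ * v⁻¹) = (k * v * k⁻¹ * v⁻¹) * k := by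
      have := (Subgroup.mem_inf.mp hc0C).2
      rw [Subgroup.mem_centralizer_iff] at this
      exact this k (hK1Q hk)
    have hkn : k ^ Nat.card K1 = 1 := by
      have := pow_card_eq_one' (G := K1) (x := ⟨k, hk⟩)
      exact congrArg Subtype.val this
    have hcp : (k * v * k⁻¹ * v⁻¹) ^ p = 1 := c.hVea.2 _ hc0V
    exact (comm_of_stabilizes hkn hcp (by rw [hK1c]; exact hOc) hkc).symm
  have hK1bot : K1 = ⊥ := by
    rw [eq_bot_iff, ← c.hVQ]
    exact le_inf hK1V hK1Q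
  have hO1 : Nat.card O = 1 := by
    rw [← hK1c, hK1bot]; exact Subgroup.card_bot
  exact Subgroup.card_eq_one.mp hO1

end Ctx

end Cfsg.Agent.Lib.Helper29.BG36
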