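import Mathlib
import Cfsg.Agent.Lib.Helper29.BG36Ctx
import Cfsg.Agent.Lib.Helper01.CoprimeSylow

set_option autoImplicit false

/-!
# Bender–Glauberman Theorem 3.6: the Sylow subgroup `P₀` of `N_H(Q)`

Faithfulness of `P₀` on `Q`, the lemma that `R` cannot centralize `P₀`, and the basic
sub-configuration lemma for `R`-invariant subgroups of `P₀`.
-/

namespace Cfsg.Agent.Lib.Helper29.BG36

open Cfsg
open scoped Pointwise

universe u

variable {G : Type u} [Group G]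

namespace Ctx

variable {p : ℕ} [hp : Fact p.Prime] {H R R₀ V X Q : Subgroup G} [hVn : V.Normal]

/-- `p`-subgroups of `X` lie in `V` -/
theorem pSubgroup_X_le [Finite G] (c : Ctx p H R R₀ V X Q) (T : Subgroup G) (hTX : T ≤ X)
    (hT : IsPGroup p T) : T ≤ V := by
  apply pSubgroup_le_of_not_dvd_relIndex T V X hT c.hVp hTX c.hVX
  · have h1 := Subgroup.relIndex_mul_relIndex ⊥ V X bot_le c.hVX
    rw [Subgroup.relIndex_bot_left, Subgroup.relIndex_bot_left, c.hcardX] at h1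
    have h2 : V.relIndex X = Nat.card Q := Nat.eq_of_mul_eq_mul_left Nat.card_pos h1
    rw [h2, ← Nat.Prime.coprime_iff_not_dvd hp.out, Nat.coprime_comm]
    exact c.hQc
  · left
    exact c.le_normalizer_V T

/-- `V ∩ N_H(Q) = 1` once `C_V(Q) = 1` -/
theorem hVL [Finite G] (c : Ctx p H R R₀ V X Q)
    (hC : V ⊓ Subgroup.centralizer (Q : Set G) = ⊥) :
    V ⊓ (H ⊓ Subgroup.normalizer (Q : Set G)) = ⊥ := by
  rw [eq_bot_iff, ← hC]
  intro v hv
  rw [Subgroup.mem_inf] at hv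
  refine Subgroup.mem_inf.mpr ⟨hv.1, ?_⟩
  rw [Subgroup.mem_centralizer_iff]
  intro y hy
  have hvN : v ∈ Subgroup.normalizer (Q : Set G) := (Subgroup.mem_inf.mp hv.2).2
  have h1 : v * y * v⁻¹ * y⁻¹ ∈ Q :=
    Q.mul_mem ((Subgroup.mem_normalizer_iff.mp hvN y).mp hy) (Q.inv_mem hy)
  have h2 : v * y * v⁻¹ * y⁻¹ ∈ V := by
    have : v * y * v⁻¹ * y⁻¹ = v * (y * v⁻¹ * y⁻¹) := by group
    rw [this]
    exact V.mul_mem hv.1 (hVn.conj_mem _ (V.inv_mem hv.1) y)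
  have h3 : v * y * v⁻¹ * y⁻¹ = 1 := by
    have : v * y * v⁻¹ * y⁻¹ ∈ V ⊓ Q := Subgroup.mem_inf.mpr ⟨h2, h1⟩
    rwa [c.hVQ, Subgroup.mem_bot] at this
  calc y * v = (v * y * v⁻¹ * y⁻¹)⁻¹ * (v * y) := by group
    _ = v * y := by rw [h3]; group

/-- `|H| = |V| |N_H(Q)|` -/
theorem card_H [Finite G] (hsolv : Group.IsSolvable G) (c : Ctx p H R R₀ V X Q)
    (hC : V ⊓ Subgroup.centralizer (Q : Set G) = ⊥) :
    Nat.card H = Nat.card V * Nat.card ↥(H ⊓ Subgroup.normalizer (Q : Set G)) := by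
  set L := H ⊓ Subgroup.normalizer (Q : Set G) with hL
  have hsup : L ⊔ V = H := by
    apply le_antisymm (sup_le inf_le_left c.hVH)
    intro h hh
    obtain ⟨v, hv, l, hl, rfl⟩ := c.frattini hsolv hh
    exact Subgroup.mul_mem _ ((le_sup_right : V ≤ L ⊔ V) hv) ((le_sup_left : L ≤ L ⊔ V) hl)
  have h1 := Cfsg.Agent.Lib.Helper01.card_sup_mul_card_inf_of_le_normalizer V L (c.le_normalizer_V L)
  rw [hsup, c.hVL hC, Subgroup.card_bot, mul_one] at h1
  exact h1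

/-- `[G : 1] = |H| |R|` -/
theorem card_G [Finite G] (c : Ctx p H R R₀ V X Q) : Nat.card G = Nat.card H * Nat.card R := by
  have hHn := c.hyp.normal
  have h1 := Cfsg.Agent.Lib.Helper01.card_sup_of_coprime_of_le_normalizer H R
    (by rw [Subgroup.normalizer_eq_top_iff.mpr hHn]; exact le_top) c.hyp.cop
  rw [sup_comm, c.hyp.sup, Subgroup.card_top] at h1
  exact h1

/-- the index of `V` in `H` -/
theorem relIndex_V [Finite G] (hsolv : Group.IsSolvable G) (c : Ctx p H R R₀ V X Q)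
    (hC : V ⊓ Subgroup.centralizer (Q : Set G) = ⊥) :
    V.relIndex H = Nat.card ↥(H ⊓ Subgroup.normalizer (Q : Set G)) := by
  have h1 := Subgroup.relIndex_mul_relIndex ⊥ V H bot_le c.hVH
  rw [Subgroup.relIndex_bot_left, Subgroup.relIndex_bot_left, c.card_H hsolv hC] at h1
  exact Nat.eq_of_mul_eq_mul_left Nat.card_pos h1

section P0

variable [Finite G] (hsolv : Group.IsSolvable G) (c : Ctx p H R R₀ V X Q)
  (hC : V ⊓ Subgroup.centralizer (Q : Set G) = ⊥) {P₀ : Subgroup G}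
  (hP₀ : Cfsg.Agent.Lib.Helper01.IsSylowIn p P₀ (H ⊓ Subgroup.normalizer (Q : Set G)))

include c hC hP₀

theorem hP₀H : P₀ ≤ H := hP₀.1.trans inf_le_left

theorem hP₀Q : P₀ ≤ Subgroup.normalizer (Q : Set G) := hP₀.1.trans inf_le_right

theorem hVP₀ : V ⊓ P₀ = ⊥ := by
  rw [eq_bot_iff, ← c.hVL hC]
  exact inf_le_inf_left V hP₀.1

theorem hXP₀ : X ⊓ P₀ = ⊥ := by
  rw [eq_bot_iff, ← c.hVP₀ hC hP₀]
  exact le_inf (c.pSubgroup_X_le _ inf_le_left (hP₀.2.1.to_le inf_le_right)) inf_le_right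

/-- `P₀` acts faithfully on `Q` -/
theorem hfPQ : P₀ ⊓ Subgroup.centralizer (Q : Set G) = ⊥ := by
  have h1 : P₀ ⊓ Subgroup.centralizer (Q : Set G) ≤ V := by
    apply c.hfaith _ (inf_le_left.trans (c.hP₀H hC hP₀)) (hP₀.2.1.to_le inf_le_left)
    intro t ht y hy
    obtain ⟨v, hv, q, hq, rfl⟩ := c.mem_X hy
    have htq : q * t = t * q := by
      have := (Subgroup.mem_inf.mp ht).2
      rw [Subgroup.mem_centralizer_iff] at this
      exact this q hq
    have : t * (v * q) * t⁻¹ * (v * q)⁻¹ = (t * v * t⁻¹) * (t * q * t⁻¹ * q⁻¹) * v⁻¹ := by group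
    rw [this, ← htq]
    have e : q * t * t⁻¹ * q⁻¹ = 1 := by group
    rw [e, mul_one]
    exact V.mul_mem (hVn.conj_mem v hv t) (V.inv_mem hv)
  rw [eq_bot_iff, ← c.hVP₀ hC hP₀]
  exact le_inf h1 inf_le_left

omit hC hP₀ in
/-- `Q` acts faithfully on `V` -/
theorem hfQV : Q ⊓ Subgroup.centralizer (V : Set G) = ⊥ := by
  rw [eq_bot_iff, ← c.hVQ]
  refine le_inf ?_ inf_le_left
  exact (inf_le_inf_right _ c.hQH).trans c.hCV

include hsolv in
/-- `P₀ ≠ 1` in a counterexample -/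
theorem hP₀ne (hpdvd : ¬ ((pCoreOf p H).relIndex H).Coprime p) : P₀ ≠ ⊥ := by
  intro h
  apply hpdvd
  rw [← c.hV, c.relIndex_V hsolv hC]
  have := hP₀.2.2
  rw [h, Subgroup.relIndex_bot_left] at this
  rw [Nat.coprime_comm, Nat.Prime.coprime_iff_not_dvd hp.out]
  exact this

include hsolv in
/-- `V P₀` is a Sylow `p`-subgroup of `H` -/
theorem not_dvd_relIndex_VP₀ : ¬ p ∣ (V ⊔ P₀).relIndex H := by
  have hle : V ⊔ P₀ ≤ H := sup_le c.hVH (c.hP₀H hC hP₀)
  have h1 := Subgroup.relIndex_mul_relIndex ⊥ (V ⊔ P₀) H bot_le hle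
  rw [Subgroup.relIndex_bot_left, Subgroup.relIndex_bot_left, c.card_H hsolv hC] at h1
  have h2 := Cfsg.Agent.Lib.Helper01.card_sup_mul_card_inf_of_le_normalizer V P₀ (c.le_normalizer_V P₀)
  rw [c.hVP₀ hC hP₀, Subgroup.card_bot, mul_one, sup_comm] at h2
  rw [h2] at h1
  have h3 := Subgroup.relIndex_mul_relIndex ⊥ P₀ _ bot_le hP₀.1
  rw [Subgroup.relIndex_bot_left, Subgroup.relIndex_bot_left] at h3
  rw [← h3] at h1
  have h4 : (V ⊔ P₀).relIndex H = P₀.relIndex (H ⊓ Subgroup.normalizer (Q : Set G)) := by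
    have hpos : 0 < Nat.card V * Nat.card P₀ := Nat.mul_pos Nat.card_pos Nat.card_pos
    apply Nat.eq_of_mul_eq_mul_left hpos
    rw [h1]; ring
  rw [h4]
  exact hP₀.2.2

include hsolv in
/-- **(CentSylow)** `R` cannot centralize `P₀` in a counterexample -/
theorem centSylow_false (hpdvd : ¬ ((pCoreOf p H).relIndex H).Coprime p) (hcent : ⁅P₀, R⁆ = ⊥) :
    False := by
  haveI hXn := c.hXn
  have hHn := c.hyp.normal
  have hP₀ne := c.hP₀ne hsolv hC hP₀ hpdvd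
  set mkX := QuotientGroup.mk' X with hmkX
  have hsurj : Function.Surjective mkX := QuotientGroup.mk'_surjective X
  set Hx := H.map mkX with hHx
  haveI hHxn : Hx.Normal := Subgroup.Normal.map hHn mkX hsurj
  set Rx := R.map mkX with hRx
  set Px := P₀.map mkX with hPx
  set Tx := pCoreOf p Hx with hTx
  -- (i)
  have hOx : Cfsg.Agent.Lib.Helper42.pPrimeCoreOf p Hx = ⊥ := by
    set O := Cfsg.Agent.Lib.Helper42.pPrimeCoreOf p Hx with hO
    set K := O.comap mkX with hK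
    have hOc : (Nat.card O).Coprime p := card_pPrimeCoreOf_coprime p Hx
    have hKH : K ≤ H := fun x hx =>
      mem_of_mk_mem_map X c.hXH (Cfsg.Agent.Lib.Helper42.pPrimeCoreOf_le p _ hx)
    have hKn : H ≤ Subgroup.normalizer (K : Set G) :=
      le_normalizer_comap_mk (Subgroup.le_normalizer.trans (normalizer_le_normalizer_pPrimeCoreOf p Hx))
    have hXK : X ≤ K := by
      intro x hx
      rw [hK, Subgroup.mem_comap, hmkX, QuotientGroup.mk'_apply, (QuotientGroup.eq_one_iff x).mpr hx]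
      exact Subgroup.one_mem _
    have hcardK : Nat.card K = Nat.card X * Nat.card O := Cfsg.Agent.Lib.Helper29.card_comap_mk' X O
    have hKX : K ≤ X := by
      apply c.hmax K hKH hKn
      have h1 : (K.map (QuotientGroup.mk' V)).comap (QuotientGroup.mk' V) = K := by
        apply Subgroup.comap_map_eq_self
        rw [QuotientGroup.ker_mk']
        exact c.hVX.trans hXK
      have h2 := Cfsg.Agent.Lib.Helper29.card_comap_mk' V (K.map (QuotientGroup.mk' V))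
      rw [h1, hcardK, c.hcardX, mul_assoc] at h2
      have h3 : Nat.card (K.map (QuotientGroup.mk' V)) = Nat.card Q * Nat.card O :=
        (Nat.eq_of_mul_eq_mul_left Nat.card_pos h2).symm
      rw [h3]
      exact Nat.Coprime.mul_left c.hQc hOc
    have h4 : K.map mkX = O := Subgroup.map_comap_eq_self_of_surjective hsurj _
    rw [← h4, eq_bot_iff]
    calc K.map mkX ≤ X.map mkX := Subgroup.map_mono hKX
      _ = ⊥ := QuotientGroup.map_mk'_self X
  -- (ii)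
  have hsolvx : Group.IsSolvable ↥Hx := inferInstance
  have hx1 := inf_centralizer_pCoreOf_le Hx hsolvx hOx
  -- (iii)
  have hPxH : Px ≤ Hx := Subgroup.map_mono (c.hP₀H hC hP₀)
  have hTP : Tx ≤ Px := by
    apply pSubgroup_le_of_not_dvd_relIndex Tx Px Hx (Cfsg.Agent.Lib.Helper54.isPGroup_pCoreOf p Hx)
      (hP₀.2.1.map _) (Cfsg.Agent.Lib.Helper54.pCoreOf_le p Hx) hPxH
    · have h1 : (Px.comap mkX).relIndex H = Px.relIndex Hx := Subgroup.relIndex_comap _ _ _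
      have h2 : Px.comap mkX = P₀ ⊔ X := by
        rw [hPx, Subgroup.comap_map_eq, hmkX, QuotientGroup.ker_mk']
      rw [← h1, h2]
      have h3 : (P₀ ⊔ X).relIndex H ∣ (V ⊔ P₀).relIndex H :=
        Subgroup.relIndex_dvd_of_le_left H (sup_le (c.hVX.trans le_sup_right) le_sup_left)
      exact fun h => c.not_dvd_relIndex_VP₀ hsolv hC hP₀ (h.trans h3)
    · right
      exact hPxH.trans (Cfsg.Agent.Lib.Helper54.le_normalizer_pCoreOf p Hx)
  -- (iv)
  have hPR : ⁅Px, Rx⁆ = ⊥ := by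
    rw [hPx, hRx, ← Subgroup.map_commutator, hcent, Subgroup.map_bot]
  have hTR : ⁅Tx, Rx⁆ = ⊥ := by
    rw [eq_bot_iff, ← hPR]
    exact Subgroup.commutator_mono hTP le_rfl
  -- (v)
  have hHR : ⁅Hx, Rx⁆ = Hx := by
    rw [hHx, hRx, ← Subgroup.map_commutator, c.hHR]
  haveI hTxn : Tx.Normal := pCoreOf_normal' p Hx
  have h1 : ⁅⁅Rx, Tx⁆, Hx⁆ = ⊥ := by
    rw [Subgroup.commutator_comm Rx Tx, hTR, Subgroup.commutator_bot_left]
  have h2 : ⁅⁅Tx, Hx⁆, Rx⁆ = ⊥ := by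
    rw [eq_bot_iff, ← hTR]
    exact Subgroup.commutator_mono (Subgroup.commutator_le_left Tx Hx) le_rfl
  have h3 := Subgroup.commutator_commutator_eq_bot_of_rotate h1 h2
  rw [hHR] at h3
  have h4 : Hx ≤ Subgroup.centralizer (Tx : Set (G ⧸ X)) :=
    (Subgroup.commutator_eq_bot_iff_le_centralizer).mp h3
  have h5 : Hx ≤ Px := (le_inf le_rfl h4).trans (hx1.trans hTP)
  have h6 : Hx = ⊥ := by
    rw [eq_bot_iff, ← hPR]
    calc Hx = ⁅Hx, Rx⁆ := hHR.symm
      _ ≤ ⁅Px, Rx⁆ := Subgroup.commutator_mono h5 le_rfl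
  have h7 : H ≤ X := by
    have := (Subgroup.map_eq_bot_iff H).mp h6
    rwa [hmkX, QuotientGroup.ker_mk'] at this
  apply hP₀ne
  rw [eq_bot_iff, ← c.hXP₀ hC hP₀]
  exact le_inf ((c.hP₀H hC hP₀).trans h7) le_rfl

omit hC hP₀ in
/-- a proper invariant subgroup of `H` gives a proper sub-configuration -/
theorem card_sup_lt {H' : Subgroup G} (hH' : H' ≤ H) (hne : H' ≠ H)
    (hn : R ≤ Subgroup.normalizer (H' : Set G)) : Nat.card ↥(H' ⊔ R) < Nat.card G := by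
  have h1 : Nat.card ↥(H' ⊔ R) ∣ Nat.card H' * Nat.card R :=
    Cfsg.Agent.Lib.Helper29.card_sup_dvd_of_le_normalizer H' R hn
  have h2 : Nat.card H' < Nat.card H := by
    apply lt_of_le_of_ne (Subgroup.card_le_of_le hH')
    intro h
    exact hne (Subgroup.eq_of_le_of_card_ge hH' h.ge)
  have h3 : Nat.card ↥(H' ⊔ R) ≤ Nat.card H' * Nat.card R :=
    Nat.le_of_dvd (Nat.mul_pos Nat.card_pos Nat.card_pos) h1
  rw [c.card_G]
  have hR : 0 < Nat.card R := Nat.card_pos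
  calc Nat.card ↥(H' ⊔ R) ≤ Nat.card H' * Nat.card R := h3
    _ < Nat.card H * Nat.card R := Nat.mul_lt_mul_of_pos_right h2 hR

/-- Dedekind: `X P₁ = H` forces `P₁ = P₀` -/
theorem eq_of_sup_eq {P₁ : Subgroup G} (hP₁ : P₁ ≤ P₀) (h : X ⊔ P₁ = H) : P₁ = P₀ := by
  have hXn := c.hXn
  apply le_antisymm hP₁
  intro z hz
  have hzH : z ∈ P₁ ⊔ X := by rw [sup_comm, h]; exact c.hP₀H hC hP₀ hz
  obtain ⟨a, ha, n, hn, rfl⟩ := Cfsg.Agent.Lib.Helper01.exists_mul_of_mem_sup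
    (A := P₁) (N := X) (by rw [Subgroup.normalizer_eq_top_iff.mpr hXn]; exact le_top) hzH
  have hnP : n ∈ P₀ := by
    have : n = a⁻¹ * (a * n) := by group
    rw [this]
    exact P₀.mul_mem (P₀.inv_mem (hP₁ ha)) hz
  have : n ∈ X ⊓ P₀ := Subgroup.mem_inf.mpr ⟨hn, hnP⟩
  rw [c.hXP₀ hC hP₀, Subgroup.mem_bot] at this
  rw [this, mul_one]
  exact ha

/-- **(8a)** `R` centralizes every `R`-invariant `P₁ ≤ P₀` with `X P₁ < H`. -/
theorem comm_eq_bot_of_proper (hsolvG : Group.IsSolvable G) (hodd : Odd (Nat.card G))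
    (ih : IH.{u} p (Nat.card G)) {P₁ : Subgroup G} (hP₁ : P₁ ≤ P₀)
    (hRP₁ : R ≤ Subgroup.normalizer (P₁ : Set G)) (hne : X ⊔ P₁ ≠ H) : ⁅P₁, R⁆ = ⊥ := by
  have hXn := c.hXn
  set H' := X ⊔ P₁ with hH'
  have hH'H : H' ≤ H := sup_le c.hXH (hP₁.trans (c.hP₀H hC hP₀))
  have hVH' : V ≤ H' := c.hVX.trans le_sup_left
  have hRX : R ≤ Subgroup.normalizer (X : Set G) := by
    rw [Subgroup.normalizer_eq_top_iff.mpr hXn]; exact le_top
  have hn : R ≤ Subgroup.normalizer (H' : Set G) :=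
    Cfsg.Agent.Lib.Helper32.le_normalizer_sup hRX hRP₁
  have hlt := c.card_sup_lt hH'H hne hn
  have hTP₁ : ⁅P₁, R⁆ ≤ P₁ := commutator_le_left' hRP₁
  have hTp : IsPGroup p (⁅P₁, R⁆ : Subgroup G) := hP₀.2.1.to_le (hTP₁.trans hP₁)
  have h1 := subConfig_pSubgroup_le hsolvG hodd ih H R R₀ V c.hyp c.hVp c.hCV H' R hH'H hVH' le_rfl
    c.hyp.le hn hlt ⁅P₁, R⁆ (Subgroup.commutator_mono le_sup_right le_rfl) hTp
  have h2 : pCoreOf p H' ≤ V := by
    apply c.hfaith _ ((Cfsg.Agent.Lib.Helper54.pCoreOf_le p H').trans hH'H)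
      (Cfsg.Agent.Lib.Helper54.isPGroup_pCoreOf p H')
    intro t ht y hy
    have hyN : y ∈ Subgroup.normalizer ((pCoreOf p H' : Subgroup G) : Set G) :=
      Cfsg.Agent.Lib.Helper54.le_normalizer_pCoreOf p H' ((le_sup_left : X ≤ H') hy)
    have hT' : t * y * t⁻¹ * y⁻¹ ∈ pCoreOf p H' := by
      have : t * y * t⁻¹ * y⁻¹ = t * (y * t⁻¹ * y⁻¹) := by group
      rw [this]
      exact Subgroup.mul_mem _ ht ((Subgroup.mem_normalizer_iff.mp hyN _).mp (Subgroup.inv_mem _ ht))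
    have hX' : t * y * t⁻¹ * y⁻¹ ∈ X := X.mul_mem (hXn.conj_mem y hy t) (X.inv_mem hy)
    exact c.pSubgroup_X_le (X ⊓ pCoreOf p H') inf_le_left
      ((Cfsg.Agent.Lib.Helper54.isPGroup_pCoreOf p H').to_le inf_le_right)
      (Subgroup.mem_inf.mpr ⟨hX', hT'⟩)
  rw [eq_bot_iff, ← c.hVP₀ hC hP₀]
  exact le_inf (h1.trans h2) (hTP₁.trans hP₁)

end P0

end Ctx

end Cfsg.Agent.Lib.Helper29.BG36
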