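import Mathlib
import Cfsg.Agent.Lib.Helper29.BG36P0
import Cfsg.Agent.Lib.Helper29.BG36Config
import Cfsg.Agent.Lib.Helper68.MetaActC
import Cfsg.Agent.Lib.Helper16.QdFrattini
import Cfsg.Agent.Lib.Helper03.PGroupFrattini

set_option autoImplicit false

/-!
# Bender–Glauberman Theorem 3.6: the main induction

`structure_false`: a minimal counterexample (after the standard reductions) yields the final
configuration, which is contradictory (`config_false`).  `step`: the reductions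
(`H = [H,R]`, `O_{p'}(H) = 1`, `Φ(O_p(H)) = 1`).  `main`: the theorem in top form.
-/

namespace Cfsg.Agent.Lib.Helper29.BG36

open Cfsg
open scoped Pointwise commutatorElement

universe u

variable {G : Type u} [Group G]

/-- a minimal counterexample (after the reductions) does not exist -/
theorem structure_false [Finite G] {p : ℕ} [hp : Fact p.Prime] (hsolv : Group.IsSolvable G)
    (hodd : Odd (Nat.card G)) (ih : IH.{u} p (Nat.card G)) (H R R₀ V : Subgroup G)
    [hVn : V.Normal] (hyp : Hyp H R R₀) (hHR : ⁅H, R⁆ = H) (hV : V = pCoreOf p H)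
    (hVea : IsElementaryAbelian p V) (hCV : H ⊓ Subgroup.centralizer (V : Set G) ≤ V)
    (hpdvd : ¬ ((pCoreOf p H).relIndex H).Coprime p) : False := by
  haveI hHn : H.Normal := hyp.normal
  have hVH : V ≤ H := by rw [hV]; exact Cfsg.Agent.Lib.Helper54.pCoreOf_le p H
  have hsolvH : Group.IsSolvable ↥H := inferInstance
  -- X and Q
  set X := Xsub p H V with hX
  obtain ⟨m, hmp, hcardX, -⟩ := card_Xsub p H V
  have hXH : X ≤ H := Xsub_le p H V hVH
  have hRX : R ≤ Subgroup.normalizer (X : Set G) := by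
    rw [Subgroup.normalizer_eq_top_iff.mpr (Xsub_normal p H V)]; exact le_top
  have hVpg : IsPGroup p V := isPGroup_of_isElementaryAbelian hVea
  obtain ⟨a, ha⟩ := IsPGroup.exists_card_eq hVpg
  have hcopRX : (Nat.card R).Coprime (Nat.card X) :=
    (Nat.Coprime.coprime_dvd_left (Subgroup.card_dvd_of_le hXH) hyp.cop).symm
  obtain ⟨Q, hQX, hQcard, hRQ⟩ := Cfsg.Agent.Lib.Helper32.exists_invariant_hall hRX hcopRX
    inferInstance m (Nat.card V) (by rw [← hX] at hcardX; rw [hcardX, mul_comm])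
    (by rw [ha]; exact Nat.Coprime.pow_right a hmp)
  have c : Ctx p H R R₀ V X Q :=
    { hyp := hyp
      hHR := hHR
      hV := hV
      hVea := hVea
      hCV := hCV
      hXn := Xsub_normal p H V
      hVX := le_Xsub p H V
      hXH := hXH
      hmax := le_Xsub_of_coprime p H V
      hfaith := pSubgroup_le_of_comm_Xsub p H V hsolvH hV
      hQX := hQX
      hRQ := hRQ
      hQc := by rw [hQcard]; exact hmp
      hcardX := by rw [hQcard]; exact hcardX }
  have hC := c.step5 hsolv hodd ih hpdvd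
  -- P₀
  set L := H ⊓ Subgroup.normalizer (Q : Set G) with hL
  have hRH : R ≤ Subgroup.normalizer (H : Set G) := by
    rw [Subgroup.normalizer_eq_top_iff.mpr hHn]; exact le_top
  have hRL : R ≤ Subgroup.normalizer (L : Set G) :=
    (le_inf hRH (hRQ.trans Subgroup.le_normalizer)).trans (normalizer_inf_le _ _)
  have hcopRL : (Nat.card R).Coprime (Nat.card L) :=
    (Nat.Coprime.coprime_dvd_left (Subgroup.card_dvd_of_le inf_le_left) hyp.cop).symm
  obtain ⟨P₀, hP₀, hRP⟩ := Cfsg.Agent.Lib.Helper01.exists_invariant_isSylowIn p hRL hcopRL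
    (Or.inr inferInstance)
  have hP₀ne := c.hP₀ne hsolv hC hP₀ hpdvd
  have hP₀H := c.hP₀H hC hP₀
  have hP₀Q := c.hP₀Q hC hP₀
  have hfPQ := c.hfPQ hC hP₀
  have hfQV := c.hfQV
  have hVP₀ := c.hVP₀ hC hP₀
  have hP₀p : IsPGroup p P₀ := hP₀.2.1
  have hcopP₀R : (Nat.card P₀).Coprime (Nat.card R) :=
    Nat.Coprime.coprime_dvd_left (Subgroup.card_dvd_of_le hP₀H) hyp.cop
  -- m3
  have hm3 : ⁅P₀, R⁆ = P₀ := by
    by_contra hne
    have hle : ⁅P₀, R⁆ ≤ P₀ := commutator_le_left' hRP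
    have hRP₁ : R ≤ Subgroup.normalizer ((⁅P₀, R⁆ : Subgroup G) : Set G) :=
      Cfsg.Agent.Lib.Helper01.le_normalizer_commutator_right P₀ R
    have hne' : X ⊔ ⁅P₀, R⁆ ≠ H := fun h => hne (c.eq_of_sup_eq hC hP₀ hle h)
    have h1 := c.comm_eq_bot_of_proper hC hP₀ hsolv hodd ih hle hRP₁ hne'
    rw [Cfsg.Agent.Lib.Helper68.MA.commutator_commutator_eq_self P₀ R hRP hcopP₀R
      (Or.inl inferInstance)] at h1
    exact c.centSylow_false hsolv hC hP₀ hpdvd h1
  have hHeq : X ⊔ P₀ = H := by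
    by_contra hne
    have h1 := c.comm_eq_bot_of_proper hC hP₀ hsolv hodd ih le_rfl hRP hne
    rw [hm3] at h1
    exact hP₀ne h1
  have hm1 : ∀ P₁ : Subgroup G, P₁ ≤ P₀ → R ≤ Subgroup.normalizer (P₁ : Set G) → P₁ ≠ P₀ →
      ⁅P₁, R⁆ = ⊥ := by
    intro P₁ hP₁ hRP₁ hne
    exact c.comm_eq_bot_of_proper hC hP₀ hsolv hodd ih hP₁ hRP₁
      (fun h => hne (c.eq_of_sup_eq hC hP₀ hP₁ h))
  -- card H
  have hcardH : Nat.card H = Nat.card V * Nat.card Q * Nat.card P₀ := by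
    have h1 := Cfsg.Agent.Lib.Helper01.card_sup_mul_card_inf_of_le_normalizer X P₀
      (by rw [Subgroup.normalizer_eq_top_iff.mpr c.hXn]; exact le_top)
    rw [c.hXP₀ hC hP₀, Subgroup.card_bot, mul_one, sup_comm, hHeq, c.hcardX] at h1
    exact h1
  -- m2
  have hm2 : ∀ Q₁ : Subgroup G, Q₁ ≤ Q → P₀ ≤ Subgroup.normalizer (Q₁ : Set G) →
      R ≤ Subgroup.normalizer (Q₁ : Set G) → Q₁ ≠ Q → ⁅Q₁, P₀⁆ = ⊥ := by
    intro Q₁ hQ₁ hPQ₁ hRQ₁ hne
    set H' := V ⊔ Q₁ ⊔ P₀ with hH'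
    have hVQ₁X : V ⊔ Q₁ ≤ X := sup_le c.hVX (hQ₁.trans hQX)
    have hH'H : H' ≤ H := sup_le (hVQ₁X.trans hXH) hP₀H
    have hVH' : V ≤ H' := le_sup_left.trans le_sup_left
    have hn : R ≤ Subgroup.normalizer (H' : Set G) :=
      Cfsg.Agent.Lib.Helper32.le_normalizer_sup
        (Cfsg.Agent.Lib.Helper32.le_normalizer_sup (c.le_normalizer_V R) hRQ₁) hRP
    have hP₀n : P₀ ≤ Subgroup.normalizer ((V ⊔ Q₁ : Subgroup G) : Set G) :=
      Cfsg.Agent.Lib.Helper32.le_normalizer_sup (c.le_normalizer_V P₀) hPQ₁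
    have hneH : H' ≠ H := by
      intro h
      have h1 : Nat.card H' ∣ Nat.card ↥(V ⊔ Q₁) * Nat.card P₀ :=
        Cfsg.Agent.Lib.Helper29.card_sup_dvd_of_le_normalizer (V ⊔ Q₁) P₀ hP₀n
      have h2 : Nat.card ↥(V ⊔ Q₁) ∣ Nat.card V * Nat.card Q₁ :=
        Cfsg.Agent.Lib.Helper29.card_sup_dvd_of_le_normalizer V Q₁ (c.le_normalizer_V Q₁)
      have h3 : Nat.card Q₁ < Nat.card Q := by
        apply lt_of_le_of_ne (Subgroup.card_le_of_le hQ₁)
        intro h
        exact hne (Subgroup.eq_of_le_of_card_ge hQ₁ h.ge)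
      have h4 : Nat.card H' ≤ Nat.card V * Nat.card Q₁ * Nat.card P₀ :=
        Nat.le_of_dvd (Nat.mul_pos (Nat.mul_pos Nat.card_pos Nat.card_pos) Nat.card_pos)
          (h1.trans (Nat.mul_dvd_mul_right h2 _))
      rw [h, hcardH] at h4
      have hV0 : 0 < Nat.card V := Nat.card_pos
      have hP0 : 0 < Nat.card P₀ := Nat.card_pos
      have h5 : Nat.card V * Nat.card Q₁ * Nat.card P₀ < Nat.card V * Nat.card Q * Nat.card P₀ :=
        Nat.mul_lt_mul_of_pos_right (Nat.mul_lt_mul_of_pos_left h3 hV0) hP0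
      omega
    have hlt := c.card_sup_lt hH'H hneH hn
    have hP₀T : P₀ ≤ pCoreOf p H' := by
      apply subConfig_pSubgroup_le hsolv hodd ih H R R₀ V hyp hVpg hCV H' R hH'H hVH' le_rfl
        hyp.le hn hlt P₀ _ hP₀p
      calc P₀ = ⁅P₀, R⁆ := hm3.symm
        _ ≤ ⁅H', R⁆ := Subgroup.commutator_mono le_sup_right le_rfl
    rw [eq_bot_iff, Subgroup.commutator_le]
    intro a ha b hb
    rw [commutatorElement_def]
    have h1 : a * b * a⁻¹ * b⁻¹ ∈ Q₁ := by
      have : a * b * a⁻¹ * b⁻¹ = a * (b * a⁻¹ * b⁻¹) := by group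
      rw [this]
      exact Q₁.mul_mem ha ((Subgroup.mem_normalizer_iff.mp (hPQ₁ hb) _).mp (Q₁.inv_mem ha))
    have haH' : a ∈ H' := (le_sup_left : V ⊔ Q₁ ≤ H') ((le_sup_right : Q₁ ≤ V ⊔ Q₁) ha)
    have h2 : a * b * a⁻¹ * b⁻¹ ∈ pCoreOf p H' := by
      have haN := Cfsg.Agent.Lib.Helper54.le_normalizer_pCoreOf p H' haH'
      exact Subgroup.mul_mem _ ((Subgroup.mem_normalizer_iff.mp haN b).mp (hP₀T hb))
        (Subgroup.inv_mem _ (hP₀T hb))
    have h3 : a * b * a⁻¹ * b⁻¹ ∈ V :=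
      c.pSubgroup_X_le ((V ⊔ Q₁) ⊓ pCoreOf p H') (inf_le_left.trans hVQ₁X)
        ((Cfsg.Agent.Lib.Helper54.isPGroup_pCoreOf p H').to_le inf_le_right)
        (Subgroup.mem_inf.mpr ⟨(le_sup_right : Q₁ ≤ V ⊔ Q₁) h1, h2⟩)
    have : a * b * a⁻¹ * b⁻¹ ∈ V ⊓ Q := Subgroup.mem_inf.mpr ⟨h3, hQ₁ h1⟩
    rwa [c.hVQ] at this
  -- the generator of R₀
  set r := Nat.card R₀ with hr
  haveI hrp : Fact r.Prime := ⟨hyp.prime⟩
  haveI hR₀cyc : IsCyclic R₀ := isCyclic_of_prime_card hr.symm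
  obtain ⟨x₀, hx₀⟩ := IsCyclic.exists_generator (α := R₀)
  set x : G := (x₀ : G) with hx
  have hR₀x : R₀ = Subgroup.zpowers x := by
    apply le_antisymm
    · intro y hy
      obtain ⟨k, hk⟩ := Subgroup.mem_zpowers_iff.mp (hx₀ ⟨y, hy⟩)
      rw [Subgroup.mem_zpowers_iff]
      exact ⟨k, by simpa using congrArg Subtype.val hk⟩
    · rw [Subgroup.zpowers_le]; exact x₀.2
  have hxo : orderOf x = r := by
    rw [← Nat.card_zpowers, ← hR₀x]
  have hxR : x ∈ R := hyp.le x₀.2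
  -- m4
  have hm4 : R ≠ Subgroup.zpowers x → x ∈ Subgroup.centralizer (P₀ : Set G) := by
    intro hne
    rw [← hR₀x] at hne
    have hR₀H : R₀ ≤ Subgroup.normalizer (H : Set G) := hyp.le.trans hRH
    have hlt : Nat.card ↥(H ⊔ R₀) < Nat.card G := by
      have h1 : Nat.card ↥(H ⊔ R₀) ∣ Nat.card H * Nat.card R₀ :=
        Cfsg.Agent.Lib.Helper29.card_sup_dvd_of_le_normalizer H R₀ hR₀H
      have h2 : Nat.card R₀ < Nat.card R := by
        apply lt_of_le_of_ne (Subgroup.card_le_of_le hyp.le)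
        intro h
        exact hne (Subgroup.eq_of_le_of_card_ge hyp.le h.ge).symm
      have h3 : Nat.card ↥(H ⊔ R₀) ≤ Nat.card H * Nat.card R₀ :=
        Nat.le_of_dvd (Nat.mul_pos Nat.card_pos Nat.card_pos) h1
      rw [c.card_G]
      have hH0 : 0 < Nat.card H := Nat.card_pos
      calc Nat.card ↥(H ⊔ R₀) ≤ Nat.card H * Nat.card R₀ := h3
        _ < Nat.card H * Nat.card R := Nat.mul_lt_mul_of_pos_left h2 hH0
    have hR₀P : R₀ ≤ Subgroup.normalizer (P₀ : Set G) := hyp.le.trans hRP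
    have hTle : ⁅P₀, R₀⁆ ≤ P₀ := commutator_le_left' hR₀P
    have h1 := subConfig_pSubgroup_le hsolv hodd ih H R R₀ V hyp hVpg hCV H R₀ le_rfl hVH hyp.le
      le_rfl hR₀H hlt ⁅P₀, R₀⁆ (Subgroup.commutator_mono hP₀H le_rfl) (hP₀p.to_le hTle)
    rw [← hV] at h1
    have h2 : ⁅P₀, R₀⁆ = ⊥ := by
      rw [eq_bot_iff, ← hVP₀]
      exact le_inf h1 hTle
    have h3 := comm_of_commutator_eq_bot h2
    rw [Subgroup.mem_centralizer_iff]
    intro z hz
    exact h3 z hz x x₀.2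
  -- Q is a q-group
  have hQne : Q ⊓ Subgroup.centralizer (P₀ : Set G) ≠ Q := by
    intro h
    apply hP₀ne
    rw [eq_bot_iff, ← hfPQ]
    apply le_inf le_rfl
    intro z hz
    rw [Subgroup.mem_centralizer_iff]
    intro y hy
    have : y ∈ Subgroup.centralizer (P₀ : Set G) := by
      have : y ∈ Q ⊓ Subgroup.centralizer (P₀ : Set G) := by rw [h]; exact hy
      exact (Subgroup.mem_inf.mp this).2
    rw [Subgroup.mem_centralizer_iff] at this
    exact (this z hz).symm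
  set D := Q ⊓ Subgroup.centralizer (P₀ : Set G) with hD
  have hDrel : D.relIndex Q ≠ 1 := by
    intro h
    rw [Subgroup.relIndex_eq_one] at h
    exact hQne (le_antisymm inf_le_left h)
  obtain ⟨q, hqp, hqd⟩ := Nat.exists_prime_and_dvd hDrel
  haveI hqf : Fact q.Prime := ⟨hqp⟩
  have hqQ : q ∣ Nat.card Q := hqd.trans (Subgroup.relIndex_dvd_card D Q)
  have hBQ : P₀ ⊔ R ≤ Subgroup.normalizer (Q : Set G) := sup_le hP₀Q hRQ
  have hQH : Q ≤ H := c.hQH
  have hcopBQ : (Nat.card ↥(P₀ ⊔ R)).Coprime (Nat.card Q) := by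
    have h1 : Nat.card ↥(P₀ ⊔ R) ∣ Nat.card P₀ * Nat.card R :=
      Cfsg.Agent.Lib.Helper29.card_sup_dvd_of_le_normalizer P₀ R hRP
    apply Nat.Coprime.coprime_dvd_left h1
    apply Nat.Coprime.mul_left
    · obtain ⟨b, hb⟩ := IsPGroup.exists_card_eq hP₀p
      rw [hb]; exact (Nat.Coprime.pow_right b c.hQc).symm
    · exact (Nat.Coprime.coprime_dvd_left (Subgroup.card_dvd_of_le hQH) hyp.cop).symm
  obtain ⟨Qq, hQq, hBQq⟩ := Cfsg.Agent.Lib.Helper01.exists_invariant_isSylowIn q hBQ hcopBQ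
    (Or.inr inferInstance)
  have hQqQ : Qq = Q := by
    by_contra hne
    have h1 := hm2 Qq hQq.1 (le_sup_left.trans hBQq) (le_sup_right.trans hBQq) hne
    have h2 := comm_of_commutator_eq_bot h1
    have h3 : Qq ≤ D := by
      apply le_inf hQq.1
      intro y hy
      rw [Subgroup.mem_centralizer_iff]
      intro z hz
      exact (h2 y hy z hz).symm
    have h4 : D.relIndex Q ∣ Qq.relIndex Q := Subgroup.relIndex_dvd_of_le_left Q h3
    exact hQq.2.2 (hqd.trans h4)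
  have hQqg : IsPGroup q Q := by rw [← hQqQ]; exact hQq.2.1
  -- the primes
  have hpq : p ≠ q := by
    intro h
    rw [← h] at hqQ
    exact (Nat.Prime.coprime_iff_not_dvd hp.out).mp c.hQc.symm hqQ
  have hrR : r ∣ Nat.card R := Subgroup.card_dvd_of_le hyp.le
  have hpH : p ∣ Nat.card H := by
    have hnt : Nontrivial P₀ := (Subgroup.nontrivial_iff_ne_bot P₀).mpr hP₀ne
    obtain ⟨b, hb⟩ := IsPGroup.exists_card_eq hP₀p
    have hb0 : b ≠ 0 := by
      intro h0
      rw [h0, pow_zero] at hb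
      exact hP₀ne (Subgroup.card_eq_one.mp hb)
    have : p ∣ Nat.card P₀ := by rw [hb]; exact dvd_pow_self p hb0
    exact this.trans (Subgroup.card_dvd_of_le hP₀H)
  have hpr : p ≠ r := by
    intro h
    have h1 : p ∣ Nat.gcd (Nat.card H) (Nat.card R) := Nat.dvd_gcd hpH (h ▸ hrR)
    rw [hyp.cop] at h1
    exact hp.out.one_lt.ne' (Nat.dvd_one.mp h1)
  have hqr : q ≠ r := by
    intro h
    have h1 : q ∣ Nat.gcd (Nat.card H) (Nat.card R) :=
      Nat.dvd_gcd (hqQ.trans (Subgroup.card_dvd_of_le hQH)) (h ▸ hrR)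
    rw [hyp.cop] at h1
    exact hqp.one_lt.ne' (Nat.dvd_one.mp h1)
  -- the cyclicity hypothesis
  have hcyc : ∀ (ℓ : ℕ) (A : Subgroup G), ℓ.Prime → IsPGroup ℓ A → A ≤ V ⊔ Q ⊔ P₀ →
      (∀ a ∈ A, a * x = x * a) → IsCyclic A := by
    intro ℓ A hℓ hA hAle hAx
    haveI : Fact ℓ.Prime := ⟨hℓ⟩
    set K := H ⊓ Subgroup.centralizer (R₀ : Set G) with hK
    have hAK : A ≤ K := by
      apply le_inf (hAle.trans (sup_le (sup_le hVH hQH) hP₀H))
      intro a ha
      rw [Subgroup.mem_centralizer_iff]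
      intro y hy
      rw [hR₀x] at hy
      obtain ⟨k, rfl⟩ := Subgroup.mem_zpowers_iff.mp hy
      exact ((Commute.zpow_right (show Commute a x from hAx a ha) k)).eq.symm
    haveI := hyp.zgrp
    have hA' : IsPGroup ℓ (A.subgroupOf K) := hA.comap_subtype
    have hcy : IsCyclic (A.subgroupOf K) := IsPGroup.isCyclic_of_isZGroup hA'
    exact isCyclic_of_surjective (Subgroup.subgroupOfEquivOfLe hAK) (Subgroup.subgroupOfEquivOfLe hAK).surjective
  exact config_false hodd hpq hpr hqr V Q P₀ R x hVea hQqg hP₀p hP₀ne (c.le_normalizer_V Q)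
    (c.le_normalizer_V P₀) (c.le_normalizer_V R) hP₀Q hRQ hRP hxR hxo hfQV hfPQ hC hcyc hm1 hm2 hm3 hm4

/-- the Frattini reduction: `O_{p'}(H / Φ(V)) = 1` -/
theorem pPrimeCoreOf_map_frattini_eq_bot [Finite G] {p : ℕ} [hp : Fact p.Prime] (H V Φ : Subgroup G)
    [hHn : H.Normal] [hVn : V.Normal] [hΦn : Φ.Normal] (hVp : IsPGroup p V) (hVH : V ≤ H)
    (hΦ : Φ = (frattini V).map V.subtype)
    (hCV : H ⊓ Subgroup.centralizer (V : Set G) ≤ V) :
    Cfsg.Agent.Lib.Helper42.pPrimeCoreOf p (H.map (QuotientGroup.mk' Φ)) = ⊥ := by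
  set mk := QuotientGroup.mk' Φ with hmk
  set Hb := H.map mk with hHb
  set O := Cfsg.Agent.Lib.Helper42.pPrimeCoreOf p Hb with hO
  have hOc : (Nat.card O).Coprime p := card_pPrimeCoreOf_coprime p Hb
  have hVb : IsPGroup p (V.map mk) := hVp.map _
  have hdisj : V.map mk ⊓ O = ⊥ := inf_eq_bot_of_isPGroup_of_coprime hVb hOc
  have hON : Hb ≤ Subgroup.normalizer (O : Set (G ⧸ Φ)) :=
    Subgroup.le_normalizer.trans (normalizer_le_normalizer_pPrimeCoreOf p Hb)
  rw [eq_bot_iff]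
  intro tb htb
  obtain ⟨t, ht, rfl⟩ := Cfsg.Agent.Lib.Helper42.pPrimeCoreOf_le p Hb htb
  have hh : ∀ y ∈ V, t * y * t⁻¹ * y⁻¹ ∈ (frattini V).map V.subtype := by
    intro y hy
    rw [← hΦ]
    have h1 : mk (t * y * t⁻¹ * y⁻¹) ∈ O := by
      have : mk (t * y * t⁻¹ * y⁻¹) = mk t * (mk y * (mk t)⁻¹ * (mk y)⁻¹) := by
        simp only [map_mul, map_inv]; group
      rw [this]
      have hyN := hON (Subgroup.mem_map_of_mem mk (hVH hy))
      exact O.mul_mem htb ((Subgroup.mem_normalizer_iff.mp hyN _).mp (O.inv_mem htb))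
    have h2 : mk (t * y * t⁻¹ * y⁻¹) ∈ V.map mk :=
      Subgroup.mem_map_of_mem mk (V.mul_mem (hVn.conj_mem y hy t) (V.inv_mem hy))
    have h3 : mk (t * y * t⁻¹ * y⁻¹) ∈ V.map mk ⊓ O := Subgroup.mem_inf.mpr ⟨h2, h1⟩
    rw [hdisj, Subgroup.mem_bot, hmk, QuotientGroup.mk'_apply, QuotientGroup.eq_one_iff] at h3
    exact h3
  obtain ⟨i, hi⟩ := Cfsg.Agent.Lib.Helper16.QdFrattini.exists_pow_mem_centralizer V hVp t hh
  have hiV : t ^ p ^ i ∈ V := hCV (Subgroup.mem_inf.mpr ⟨H.pow_mem ht _, hi⟩)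
  have h4 : (mk t) ^ p ^ i = 1 := by
    have h5 : (mk t) ^ p ^ i ∈ V.map mk ⊓ O := by
      refine Subgroup.mem_inf.mpr ⟨?_, O.pow_mem htb _⟩
      rw [← map_pow]
      exact Subgroup.mem_map_of_mem mk hiV
    rwa [hdisj, Subgroup.mem_bot] at h5
  have ho1 : orderOf (mk t) ∣ p ^ i := orderOf_dvd_of_pow_eq_one h4
  have ho2 : orderOf (mk t) ∣ Nat.card O := by
    have := orderOf_dvd_natCard (⟨mk t, htb⟩ : ↥O)
    rwa [Subgroup.orderOf_mk] at this
  have h6 : orderOf (mk t) = 1 :=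
    Nat.eq_one_of_dvd_coprimes (Nat.Coprime.pow_right i hOc) ho2 ho1
  rw [Subgroup.mem_bot]
  exact orderOf_eq_one_iff.mp h6

/-- the inductive step -/
theorem step [Finite G] {p : ℕ} [hp : Fact p.Prime] (hsolv : Group.IsSolvable G)
    (hodd : Odd (Nat.card G)) (ih : IH.{u} p (Nat.card G)) (H R R₀ : Subgroup G)
    (hyp : Hyp H R R₀) : PLengthLE p 1 ↥⁅H, R⁆ := by
  haveI hHn : H.Normal := hyp.normal
  have hRH : R ≤ Subgroup.normalizer (H : Set G) := by
    rw [Subgroup.normalizer_eq_top_iff.mpr hHn]; exact le_top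
  have hcardG : Nat.card G = Nat.card H * Nat.card R := by
    have h1 := Cfsg.Agent.Lib.Helper01.card_sup_of_coprime_of_le_normalizer H R hRH hyp.cop
    rw [sup_comm, hyp.sup, Subgroup.card_top] at h1
    exact h1
  by_cases hHR : ⁅H, R⁆ = H
  swap
  · -- Step 1
    have hle : ⁅H, R⁆ ≤ H := commutator_le_left' hRH
    have hn : R ≤ Subgroup.normalizer ((⁅H, R⁆ : Subgroup G) : Set G) :=
      Cfsg.Agent.Lib.Helper01.le_normalizer_commutator_right H R
    have hcop : (Nat.card (⁅H, R⁆ : Subgroup G)).Coprime (Nat.card R) :=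
      Nat.Coprime.coprime_dvd_left (Subgroup.card_dvd_of_le hle) hyp.cop
    have hz : IsZGroup ↥((⁅H, R⁆ : Subgroup G) ⊓ Subgroup.centralizer (R₀ : Set G)) := by
      have := hyp.zgrp
      exact IsZGroup.of_injective (f := Subgroup.inclusion (inf_le_inf_right _ hle))
        (Subgroup.inclusion_injective _)
    have hlt : Nat.card ↥((⁅H, R⁆ : Subgroup G) ⊔ R) < Nat.card G := by
      have h1 : Nat.card ↥((⁅H, R⁆ : Subgroup G) ⊔ R) ∣ Nat.card (⁅H, R⁆ : Subgroup G) * Nat.card R :=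
        Cfsg.Agent.Lib.Helper29.card_sup_dvd_of_le_normalizer _ R hn
      have h2 : Nat.card (⁅H, R⁆ : Subgroup G) < Nat.card H := by
        apply lt_of_le_of_ne (Subgroup.card_le_of_le hle)
        intro h
        exact hHR (Subgroup.eq_of_le_of_card_ge hle h.ge)
      have h3 := Nat.le_of_dvd (Nat.mul_pos Nat.card_pos Nat.card_pos) h1
      rw [hcardG]
      have hR0 : 0 < Nat.card R := Nat.card_pos
      calc Nat.card ↥((⁅H, R⁆ : Subgroup G) ⊔ R) ≤ Nat.card (⁅H, R⁆ : Subgroup G) * Nat.card R := h3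
        _ < Nat.card H * Nat.card R := Nat.mul_lt_mul_of_pos_right h2 hR0
    have res := subConfig hsolv hodd ih ⁅H, R⁆ R R₀ hn hcop hyp.le hyp.prime hz hlt
    rw [Cfsg.Agent.Lib.Helper68.MA.commutator_commutator_eq_self H R hRH hyp.cop
      (Or.inl inferInstance)] at res
    exact res
  rw [hHR]
  by_cases hO : Cfsg.Agent.Lib.Helper42.pPrimeCoreOf p H = ⊥
  swap
  · -- Step 2
    haveI hNn := pPrimeCoreOf_normal p H
    have hNH := Cfsg.Agent.Lib.Helper42.pPrimeCoreOf_le p H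
    have h1 := quotConfig hsolv hodd ih H R R₀ hyp _ hNH hO
    rw [hHR] at h1
    have h0 : PLengthLE p 0 ↥(Cfsg.Agent.Lib.Helper42.pPrimeCoreOf p H) :=
      Cfsg.Agent.Lib.Helper67.pLengthLE_zero_of_coprime p (card_pPrimeCoreOf_coprime p H)
    have := pLengthLE_of_map_mk _ H hNH 0 1 h0 h1
    simpa using this
  -- Step 3
  set V := pCoreOf p H with hV
  haveI hVn : V.Normal := pCoreOf_normal' p H
  have hVH : V ≤ H := Cfsg.Agent.Lib.Helper54.pCoreOf_le p H
  have hVp : IsPGroup p V := Cfsg.Agent.Lib.Helper54.isPGroup_pCoreOf p H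
  have hCV := inf_centralizer_pCoreOf_le H inferInstance hO
  by_contra hnpl
  have hpdvd : ¬ ((pCoreOf p H).relIndex H).Coprime p :=
    fun h => hnpl (pLengthLE_one_of_relIndex_pCoreOf H h)
  set Φ : Subgroup G := (frattini V).map V.subtype with hΦ
  haveI hΦn : Φ.Normal := by
    rw [← Subgroup.normalizer_eq_top_iff, eq_top_iff]
    have := Cfsg.Agent.Lib.Helper67.normalizer_le_normalizer_map_characteristic V (frattini V)
    rwa [Subgroup.normalizer_eq_top_iff.mpr hVn] at this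
  have hΦV : Φ ≤ V := Subgroup.map_subtype_le _
  have hΦ1 : Φ = ⊥ := by
    by_contra hne
    have h1 := quotConfig hsolv hodd ih H R R₀ hyp Φ (hΦV.trans hVH) hne
    rw [hHR] at h1
    apply hpdvd
    exact relIndex_pCoreOf_coprime_of_map H Φ (hΦV.trans hVH) (hVp.to_le hΦV)
      (relIndex_pCoreOf_coprime _ h1 (pPrimeCoreOf_map_frattini_eq_bot H V Φ hVp hVH hΦ hCV))
  have hfr : frattini V = ⊥ := (Subgroup.map_eq_bot_iff_of_injective _ V.subtype_injective).mp hΦ1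
  have hVea : IsElementaryAbelian p V := by
    constructor
    · refine ⟨⟨fun a b => ?_⟩⟩
      have h1 : ⁅a, b⁆ ∈ commutator V :=
        Subgroup.commutator_mem_commutator (Subgroup.mem_top a) (Subgroup.mem_top b)
      have h2 := Cfsg.Agent.Lib.Helper03.commutator_le_frattini_of_isPGroup hVp h1
      rw [hfr, Subgroup.mem_bot, commutatorElement_def] at h2
      calc a * b = (a * b * a⁻¹ * b⁻¹) * (b * a) := by group
        _ = b * a := by rw [h2, one_mul]
    · intro a ha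
      have h2 := Cfsg.Agent.Lib.Helper03.pow_mem_frattini_of_isPGroup hVp (⟨a, ha⟩ : V)
      rw [hfr, Subgroup.mem_bot] at h2
      exact congrArg Subtype.val h2
  exact structure_false hsolv hodd ih H R R₀ V hyp hHR hV hVea hCV hpdvd

/-- **Bender–Glauberman 3.6**, top form -/
theorem main (p : ℕ) [hp : Fact p.Prime] : ∀ (n : ℕ) (G : Type u) [Group G] [Finite G],
    Nat.card G = n → Group.IsSolvable G → Odd (Nat.card G) →
    ∀ H R R₀ : Subgroup G, Hyp H R R₀ → PLengthLE p 1 ↥⁅H, R⁆ := by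
  intro n
  induction n using Nat.strong_induction_on with
  | _ n ih =>
    intro G _ _ hn hsolv hodd H R R₀ hyp
    apply step hsolv hodd _ H R R₀ hyp
    intro G' _ _ hlt hsolv' hodd' H' R' R₀' hyp'
    rw [hn] at hlt
    exact ih (Nat.card G') hlt G' rfl hsolv' hodd' H' R' R₀' hyp'

end Cfsg.Agent.Lib.Helper29.BG36
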