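import Mathlib
import Cfsg.Agent.Lib.Helper30.Generation
import Cfsg.Agent.Lib.Helper89.OrderPCube
import Cfsg.Agent.Lib.Helper06.NormalRankTwo

/-!
# Bender–Glauberman 12.12: group-theoretic preliminaries

* `gen2`: coprime generation for an "extraspecial-like" `p`-group `E` (exponent `p`, commutators in
  a central subgroup `Z`, `|E : Z| ≥ p ^ 2`) acting on a `p'`-group `W` centralized by `Z`.
* the package extracted from the conclusion of S1412.
-/

set_option autoImplicit false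

namespace Cfsg.Agent.Lib.Helper29.BG1212

open Subgroup
open scoped commutatorElement

section Central

variable {Γ : Type*} [Group Γ]

theorem pow_card_of_mem [Finite Γ] {W : Subgroup Γ} {w : Γ} (hw : w ∈ W) : w ^ Nat.card W = 1 := by
  have h := pow_card_eq_one' (G := W) (x := ⟨w, hw⟩)
  have h2 : ((⟨w, hw⟩ : W) ^ Nat.card W : W).1 = w ^ Nat.card W := by
    simp only [SubgroupClass.coe_pow]
  rw [← h2, h]; rfl

/-- A `p'`-element `w` of `W`, commuting with the `p`-group `Z`, whose conjugate by `e` lies in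
`w Z ∩ W`, commutes with `e`. -/
theorem commute_of_conj_mem [Finite Γ] {p : ℕ} (hp : p.Prime) {W Z : Subgroup Γ}
    (hpW : ¬ p ∣ Nat.card W) (hZp : ∀ z ∈ Z, z ^ p = 1)
    (hZW : ∀ z ∈ Z, ∀ w ∈ W, z * w = w * z) {w e : Γ} (hw : w ∈ W) (he : e * w * e⁻¹ ∈ W)
    (hz : w⁻¹ * (e * w * e⁻¹) ∈ Z) : e * w = w * e := by
  have hc : e * w * e⁻¹ = w * (w⁻¹ * (e * w * e⁻¹)) := by group
  have hcomm : Commute w (w⁻¹ * (e * w * e⁻¹)) := (hZW _ hz w hw).symm
  have hn : (w * (w⁻¹ * (e * w * e⁻¹))) ^ Nat.card W = 1 := by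
    rw [← hc]; exact pow_card_of_mem he
  have hwn : w ^ Nat.card W = 1 := pow_card_of_mem hw
  have hzn : (w⁻¹ * (e * w * e⁻¹)) ^ Nat.card W = 1 := by
    rw [hcomm.mul_pow, hwn, one_mul] at hn; exact hn
  have hz1 : w⁻¹ * (e * w * e⁻¹) = 1 := by
    have h1 : orderOf (w⁻¹ * (e * w * e⁻¹)) ∣ Nat.card W := orderOf_dvd_of_pow_eq_one hzn
    have h2 : orderOf (w⁻¹ * (e * w * e⁻¹)) ∣ p := orderOf_dvd_of_pow_eq_one (hZp _ hz)
    have h3 : orderOf (w⁻¹ * (e * w * e⁻¹)) = 1 := by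
      rcases (Nat.dvd_prime hp).mp h2 with h | h
      · exact h
      · exact absurd (h ▸ h1) hpW
    exact orderOf_eq_one_iff.mp h3
  have h5 : e * w * e⁻¹ = w := by
    have := congrArg (fun t => w * t) hz1
    simpa using this
  calc e * w = e * w * e⁻¹ * e := by group
    _ = w * e := by rw [h5]

theorem card_map_mk_mul_card' [Finite Γ] (N : Subgroup Γ) [N.Normal] {P : Subgroup Γ}
    (hNP : N ≤ P) : Nat.card (P.map (QuotientGroup.mk' N)) * Nat.card N = Nat.card P := by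
  have hcomap : (P.map (QuotientGroup.mk' N)).comap (QuotientGroup.mk' N) = P := by
    rw [QuotientGroup.comap_map_mk', sup_of_le_right hNP]
  have hidx : (P.map (QuotientGroup.mk' N)).index = P.index := by
    rw [← Subgroup.index_comap_of_surjective _ (QuotientGroup.mk'_surjective N), hcomap]
  have h1 := Subgroup.card_mul_index P
  have h2 := Subgroup.card_mul_index (P.map (QuotientGroup.mk' N))
  have h3 : Nat.card Γ = Nat.card (Γ ⧸ N) * Nat.card N :=
    Subgroup.card_eq_card_quotient_mul_card_subgroup N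
  have hpos : P.index ≠ 0 := Subgroup.index_ne_zero_of_finite
  rw [hidx] at h2
  apply Nat.eq_of_mul_eq_mul_right (Nat.pos_of_ne_zero hpos)
  calc Nat.card (P.map (QuotientGroup.mk' N)) * Nat.card N * P.index
      = (Nat.card (P.map (QuotientGroup.mk' N)) * P.index) * Nat.card N := by ring
    _ = Nat.card (Γ ⧸ N) * Nat.card N := by rw [h2]
    _ = Nat.card Γ := h3.symm
    _ = Nat.card P * P.index := h1.symm

/-- `gen2` when `Z` is central in the whole group. -/
theorem gen2_central [Finite Γ] (p : ℕ) [hp : Fact p.Prime] (E Z W T : Subgroup Γ) (hZE : Z ≤ E)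
    (hZcen : ∀ z ∈ Z, ∀ g : Γ, z * g = g * z) (hexp : ∀ e ∈ E, e ^ p = 1)
    (hcomm : ∀ a ∈ E, ∀ b ∈ E, a * b * a⁻¹ * b⁻¹ ∈ Z)
    (hcard : p ^ 2 * Nat.card Z ≤ Nat.card E)
    (hEW : E ≤ normalizer (W : Set Γ)) (hpW : ¬ p ∣ Nat.card W)
    (hT : ∀ e ∈ E, e ∉ Z → W ⊓ centralizer {e} ≤ T) : W ≤ T := by
  have hZn : Z.Normal := ⟨fun n hn g => by
    rw [← hZcen n hn g, mul_inv_cancel_right]; exact hn⟩
  have hAc : ∀ x ∈ E.map (QuotientGroup.mk' Z), ∀ y ∈ E.map (QuotientGroup.mk' Z),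
      x * y = y * x := by
    rintro _ ⟨a, ha, rfl⟩ _ ⟨b, hb, rfl⟩
    rw [← map_mul, ← map_mul]
    apply (QuotientGroup.eq).mpr
    have := hcomm b⁻¹ (E.inv_mem hb) a⁻¹ (E.inv_mem ha)
    simpa [mul_assoc] using this
  have hAp : ∀ x ∈ E.map (QuotientGroup.mk' Z), x ^ p = 1 := by
    rintro _ ⟨a, ha, rfl⟩
    rw [← map_pow, hexp a ha, map_one]
  have hA2 : p ^ 2 ≤ Nat.card (E.map (QuotientGroup.mk' Z)) := by
    have h1 := card_map_mk_mul_card' Z hZE
    have hZpos : 0 < Nat.card Z := Nat.card_pos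
    rw [← h1] at hcard
    exact Nat.le_of_mul_le_mul_right hcard hZpos
  have hAX : E.map (QuotientGroup.mk' Z) ≤
      normalizer ((W.map (QuotientGroup.mk' Z) : Subgroup (Γ ⧸ Z)) : Set (Γ ⧸ Z)) :=
    (Subgroup.map_mono hEW).trans (Subgroup.le_normalizer_map _)
  have hpX : ¬ p ∣ Nat.card (W.map (QuotientGroup.mk' Z)) := fun h =>
    hpW (h.trans (Subgroup.card_map_dvd _ _))
  have hZW : ∀ z ∈ Z, ∀ w ∈ W, z * w = w * z := fun z hz w _ => hZcen z hz w
  have hZp : ∀ z ∈ Z, z ^ p = 1 := fun z hz => hexp z (hZE hz)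
  have key := Cfsg.Agent.Lib.Helper30.coprime_generation p (E.map (QuotientGroup.mk' Z)) hAc hAp
    hA2 (W.map (QuotientGroup.mk' Z)) hAX hpX ((T ⊓ W).map (QuotientGroup.mk' Z)) (by
      intro B hBA hBidx
      have h1 : Nat.card B * B.relIndex (E.map (QuotientGroup.mk' Z)) =
          Nat.card (E.map (QuotientGroup.mk' Z)) := by
        rw [← Subgroup.relIndex_bot_left, ← Subgroup.relIndex_bot_left]
        exact Subgroup.relIndex_mul_relIndex _ _ _ bot_le hBA
      have hBne : B ≠ ⊥ := by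
        rintro rfl
        rw [Subgroup.card_bot, one_mul, hBidx] at h1
        have h2 : 2 ≤ p := hp.out.two_le
        nlinarith
      obtain ⟨⟨b, hbB⟩, hb1'⟩ := Subgroup.ne_bot_iff_exists_ne_one.mp hBne
      have hb1 : b ≠ 1 := fun h => hb1' (Subtype.ext h)
      obtain ⟨e, heE, rfl⟩ := hBA hbB
      have heZ : e ∉ Z := fun h => hb1 ((QuotientGroup.eq_one_iff e).mpr h)
      rintro _ ⟨⟨w, hwW, rfl⟩, hxc⟩
      have hcm := hxc _ hbB
      -- `π e * π w = π w * π e`
      have hcm' : ((QuotientGroup.mk' Z) (w * e)) = (QuotientGroup.mk' Z) (e * w) := by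
        rw [map_mul, map_mul]; exact hcm.symm
      have h3 : (w * e)⁻¹ * (e * w) ∈ Z := (QuotientGroup.eq).mp hcm'
      have h4 : w⁻¹ * (e * w * e⁻¹) ∈ Z := by
        have := hZn.conj_mem _ h3 e
        have h5 : e * ((w * e)⁻¹ * (e * w)) * e⁻¹ = w⁻¹ * (e * w * e⁻¹) := by group
        rwa [h5] at this
      have heW : e * w * e⁻¹ ∈ W := ((hEW heE) w).mp hwW
      have hew := commute_of_conj_mem hp.out hpW hZp hZW hwW heW h4
      have hwT : w ∈ T := hT e heE heZ ⟨hwW, Subgroup.mem_centralizer_singleton_iff.mpr hew.symm⟩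
      exact ⟨w, ⟨hwT, hwW⟩, rfl⟩)
  intro w hwW
  obtain ⟨t, ⟨htT, htW⟩, hte⟩ := key (Subgroup.mem_map_of_mem _ hwW)
  have h1 : t⁻¹ * w ∈ Z := (QuotientGroup.eq).mp hte
  have h2 : t⁻¹ * w ∈ W := W.mul_mem (W.inv_mem htW) hwW
  have h3 : t⁻¹ * w = 1 := by
    have ha : orderOf (t⁻¹ * w) ∣ Nat.card W := orderOf_dvd_of_pow_eq_one (pow_card_of_mem h2)
    have hb : orderOf (t⁻¹ * w) ∣ p := orderOf_dvd_of_pow_eq_one (hZp _ h1)
    rcases (Nat.dvd_prime hp.out).mp hb with h | h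
    · exact orderOf_eq_one_iff.mp h
    · exact absurd (h ▸ ha) hpW
  have : w = t := by
    have := congrArg (fun s => t * s) h3
    simpa using this
  rw [this]; exact htT

end Central

section General

variable {G : Type*} [Group G]

/-- **Coprime generation for an extraspecial-like group.**  `E` has exponent `p`, its commutators
lie in the subgroup `Z ≤ E`, which is central in `E`, and `|E : Z| ≥ p ^ 2`.  If `E` normalizes the
`p'`-group `W`, `Z` centralizes `W`, and `C_W(e) ≤ T` for every `e ∈ E \ Z`, then `W ≤ T`. -/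
theorem gen2 [Finite G] (p : ℕ) [hp : Fact p.Prime] (E Z W T : Subgroup G) (hZE : Z ≤ E)
    (hZc : ∀ z ∈ Z, ∀ e ∈ E, z * e = e * z) (hexp : ∀ e ∈ E, e ^ p = 1)
    (hcomm : ∀ a ∈ E, ∀ b ∈ E, a * b * a⁻¹ * b⁻¹ ∈ Z)
    (hcard : p ^ 2 * Nat.card Z ≤ Nat.card E)
    (hEW : E ≤ normalizer (W : Set G)) (hZW : ∀ z ∈ Z, ∀ w ∈ W, z * w = w * z)
    (hpW : ¬ p ∣ Nat.card W)
    (hT : ∀ e ∈ E, e ∉ Z → W ⊓ centralizer {e} ≤ T) : W ≤ T := by
  have hEK : E ≤ centralizer (Z : Set G) := fun e he =>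
    Subgroup.mem_centralizer_iff.mpr (fun z hz => hZc z hz e he)
  have hWK : W ≤ centralizer (Z : Set G) := fun w hw =>
    Subgroup.mem_centralizer_iff.mpr (fun z hz => hZW z hz w hw)
  have hZK : Z ≤ centralizer (Z : Set G) := hZE.trans hEK
  have key := gen2_central (Γ := centralizer (Z : Set G)) p
    (E.subgroupOf (centralizer (Z : Set G))) (Z.subgroupOf (centralizer (Z : Set G)))
    (W.subgroupOf (centralizer (Z : Set G))) (T.subgroupOf (centralizer (Z : Set G)))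
    (fun x hx => Subgroup.mem_subgroupOf.mpr (hZE (Subgroup.mem_subgroupOf.mp hx)))
    (fun z hz g => Subtype.ext
      ((Subgroup.mem_centralizer_iff.mp g.2) z.1 (Subgroup.mem_subgroupOf.mp hz)))
    (fun e he => Subtype.ext (by
      simpa using hexp e.1 (Subgroup.mem_subgroupOf.mp he)))
    (fun a ha b hb => Subgroup.mem_subgroupOf.mpr (by
      simpa using hcomm a.1 (Subgroup.mem_subgroupOf.mp ha) b.1 (Subgroup.mem_subgroupOf.mp hb)))
    (by
      rw [Nat.card_congr (Subgroup.subgroupOfEquivOfLe hZK).toEquiv,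
        Nat.card_congr (Subgroup.subgroupOfEquivOfLe hEK).toEquiv]
      exact hcard)
    (by
      intro e he
      rw [Subgroup.mem_normalizer_iff]
      intro h
      have := (hEW (Subgroup.mem_subgroupOf.mp he)) h.1
      simpa [Subgroup.mem_subgroupOf] using this)
    (by
      rw [Nat.card_congr (Subgroup.subgroupOfEquivOfLe hWK).toEquiv]
      exact hpW)
    (by
      intro e he heZ x hx
      rw [Subgroup.mem_subgroupOf]
      have hx' := Subgroup.mem_inf.mp hx
      have h2 := Subgroup.mem_centralizer_singleton_iff.mp hx'.2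
      exact hT e.1 (Subgroup.mem_subgroupOf.mp he)
        (fun h => heZ (Subgroup.mem_subgroupOf.mpr h))
        (Subgroup.mem_inf.mpr ⟨Subgroup.mem_subgroupOf.mp hx'.1,
          Subgroup.mem_centralizer_singleton_iff.mpr (congrArg Subtype.val h2)⟩))
  intro w hw
  have := key (show (⟨w, hWK hw⟩ : centralizer (Z : Set G)) ∈ W.subgroupOf _ from
    Subgroup.mem_subgroupOf.mpr hw)
  exact Subgroup.mem_subgroupOf.mp this

/-- The `p`-group data extracted from the second alternative of S1412: `E` is nonabelian of order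
`p ^ 3` and exponent `p`, `Z = Z(E)` has order `p` and is central in `S`. -/
structure Pkg (p : ℕ) (S E Z : Subgroup G) : Prop where
  hES : E ≤ S
  hZE : Z ≤ E
  cardZ : Nat.card Z = p
  cardE : Nat.card E = p ^ 3
  exp : ∀ e ∈ E, e ^ p = 1
  cen : ∀ z ∈ Z, ∀ s ∈ S, z * s = s * z
  comm : ∀ a ∈ E, ∀ b ∈ E, a * b * a⁻¹ * b⁻¹ ∈ Z
  noncen : ∀ x ∈ E, x ∉ Z → ∃ y ∈ E, y * x ≠ x * y

theorem pkg_of_s1412 [Finite G] {p : ℕ} [Fact p.Prime] {S P₁ P₂ : Subgroup G}
    (h1 : P₁ ⊔ P₂ = S) (h2 : ∀ a ∈ P₁, ∀ b ∈ P₂, a * b = b * a) (h3 : ¬ IsMulCommutative P₁)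
    (h4 : Nat.card P₁ = p ^ 3) (h5 : Monoid.exponent P₁ = p) :
    Pkg p S P₁ (P₁ ⊓ centralizer (P₁ : Set G)) := by
  have hnc : ¬ ∀ a b : P₁, a * b = b * a := fun h => h3 ⟨⟨h⟩⟩
  obtain ⟨hc1, hc2, -, -⟩ := Cfsg.Agent.Lib.Helper89.nonabelian_cube_basic h4 hnc
  have hZeq : P₁ ⊓ centralizer (P₁ : Set G) = (Subgroup.center P₁).map P₁.subtype := by
    ext x
    rw [Subgroup.mem_inf, Subgroup.mem_map]
    constructor
    · rintro ⟨hx1, hx2⟩
      refine ⟨⟨x, hx1⟩, Subgroup.mem_center_iff.mpr ?_, rfl⟩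
      intro g
      exact Subtype.ext ((Subgroup.mem_centralizer_iff.mp hx2) g.1 g.2)
    · rintro ⟨y, hy, rfl⟩
      refine ⟨y.2, Subgroup.mem_centralizer_iff.mpr ?_⟩
      intro g hg
      have := (Subgroup.mem_center_iff.mp hy) ⟨g, hg⟩
      exact congrArg Subtype.val this
  refine ⟨h1 ▸ le_sup_left, inf_le_left, ?_, h4, ?_, ?_, ?_, ?_⟩
  · rw [hZeq, Subgroup.card_map_of_injective P₁.subtype_injective, hc1]
  · intro e he
    have := Monoid.pow_exponent_eq_one (⟨e, he⟩ : P₁)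
    rw [h5] at this
    have h6 := congrArg Subtype.val this
    simpa using h6
  · intro z hz s hs
    have hz' := Subgroup.mem_inf.mp hz
    have hle : S ≤ centralizer ({z} : Set G) := by
      rw [← h1]
      refine sup_le ?_ ?_
      · intro a ha
        exact Subgroup.mem_centralizer_singleton_iff.mpr
          ((Subgroup.mem_centralizer_iff.mp hz'.2) a ha)
      · intro b hb
        exact Subgroup.mem_centralizer_singleton_iff.mpr (h2 z hz'.1 b hb).symm
    exact (Subgroup.mem_centralizer_singleton_iff.mp (hle hs)).symm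
  · intro a ha b hb
    rw [hZeq]
    have hmem : ⁅(⟨a, ha⟩ : P₁), (⟨b, hb⟩ : P₁)⁆ ∈ Subgroup.center P₁ := by
      rw [← hc2]
      exact Subgroup.commutator_mem_commutator (Subgroup.mem_top _) (Subgroup.mem_top _)
    refine ⟨_, hmem, ?_⟩
    simp [commutatorElement_def]
  · intro x hx hxZ
    by_contra hcon
    push Not at hcon
    apply hxZ
    refine Subgroup.mem_inf.mpr ⟨hx, Subgroup.mem_centralizer_iff.mpr ?_⟩
    intro y hy
    exact hcon y hy

namespace Pkg

variable {p : ℕ} {S E Z : Subgroup G}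

theorem exists_not_mem [Finite G] (hp : p.Prime) (h : Pkg p S E Z) : ∃ x ∈ E, x ∉ Z := by
  by_contra hcon
  push Not at hcon
  have hle : E ≤ Z := fun x hx => hcon x hx
  have := Subgroup.card_le_of_le hle
  rw [h.cardZ, h.cardE] at this
  have h2 : 2 ≤ p := hp.two_le
  nlinarith [Nat.pow_le_pow_left h2 2]

/-- the noncentral elements of the planes `⟨x⟩ Z` are conjugate under `E` -/
theorem conj [Finite G] (hp : p.Prime) (h : Pkg p S E Z) {x : G} (hx : x ∈ E) (hxZ : x ∉ Z)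
    {z : G} (hz : z ∈ Z) : ∃ y ∈ E, y * x * y⁻¹ = x * z := by
  obtain ⟨y0, hy0, hne⟩ := h.noncen x hx hxZ
  have hcZ : y0 * x * y0⁻¹ * x⁻¹ ∈ Z := h.comm y0 hy0 x hx
  have hc1 : y0 * x * y0⁻¹ * x⁻¹ ≠ 1 := by
    intro h1
    apply hne
    have := congrArg (fun t => t * x * y0) h1
    simpa [mul_assoc] using this
  -- `Z` is generated by `c`
  have hzp : Subgroup.zpowers (y0 * x * y0⁻¹ * x⁻¹) = Z := by
    apply Subgroup.eq_of_le_of_card_ge (Subgroup.zpowers_le.mpr hcZ)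
    rw [Nat.card_zpowers, h.cardZ]
    have hd : orderOf (y0 * x * y0⁻¹ * x⁻¹) ∣ p :=
      orderOf_dvd_of_pow_eq_one (h.exp _ (h.hZE hcZ))
    rcases (Nat.dvd_prime hp).mp hd with h1 | h1
    · exact absurd (orderOf_eq_one_iff.mp h1) hc1
    · exact h1.ge
  have hzmem : z ∈ Subgroup.zpowers (y0 * x * y0⁻¹ * x⁻¹) := hzp ▸ hz
  rw [← mem_powers_iff_mem_zpowers] at hzmem
  obtain ⟨k, hk'⟩ := hzmem
  have hk : (y0 * x * y0⁻¹ * x⁻¹) ^ k = z := hk'
  -- conjugation by `y0 ^ k`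
  have hcen : ∀ c ∈ Z, ∀ e ∈ E, c * e = e * c := fun c hc e he => h.cen c hc e (h.hES he)
  have hind : ∀ k : ℕ, y0 ^ k * x * (y0 ^ k)⁻¹ = (y0 * x * y0⁻¹ * x⁻¹) ^ k * x := by
    intro k
    induction k with
    | zero => simp
    | succ k ih =>
      have hck : (y0 * x * y0⁻¹ * x⁻¹) ^ k ∈ Z := Z.pow_mem hcZ k
      have e1 : y0 ^ (k + 1) * x * (y0 ^ (k + 1))⁻¹ = y0 * (y0 ^ k * x * (y0 ^ k)⁻¹) * y0⁻¹ := by
        rw [pow_succ']; group
      rw [e1, ih]
      have e2 : y0 * ((y0 * x * y0⁻¹ * x⁻¹) ^ k * x) * y0⁻¹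
          = (y0 * (y0 * x * y0⁻¹ * x⁻¹) ^ k) * x * y0⁻¹ := by group
      rw [e2, ← hcen _ hck y0 hy0, pow_succ]
      group
  refine ⟨y0 ^ k, E.pow_mem hy0 k, ?_⟩
  rw [hind k, hk]
  exact hcen z hz x hx

/-- the plane `⟨x⟩ Z` -/
theorem plane [Finite G] (hp : p.Prime) (h : Pkg p S E Z) {x : G} (hx : x ∈ E) (hxZ : x ∉ Z) :
    Subgroup.zpowers x ⊔ Z ≤ E ∧ Cfsg.IsElementaryAbelian p (Subgroup.zpowers x ⊔ Z) ∧
      Nat.card (Subgroup.zpowers x ⊔ Z : Subgroup G) = p ^ 2 := by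
  have hcen : ∀ c ∈ Z, ∀ e ∈ E, c * e = e * c := fun c hc e he => h.cen c hc e (h.hES he)
  have hle : Subgroup.zpowers x ⊔ Z ≤ E := sup_le (Subgroup.zpowers_le.mpr hx) h.hZE
  have hcomm : ∀ a ∈ Subgroup.zpowers x, ∀ b ∈ Z, a * b = b * a := by
    intro a ha b hb
    exact (hcen b hb a (Subgroup.zpowers_le.mpr hx ha)).symm
  have hx1 : x ≠ 1 := fun h1 => hxZ (h1 ▸ Z.one_mem)
  have hox : orderOf x = p := by
    have hd : orderOf x ∣ p := orderOf_dvd_of_pow_eq_one (h.exp x hx)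
    rcases (Nat.dvd_prime hp).mp hd with h1 | h1
    · exact absurd (orderOf_eq_one_iff.mp h1) hx1
    · exact h1
  have hdisj : Subgroup.zpowers x ⊓ Z = ⊥ := by
    by_contra hne
    -- the intersection is a nontrivial subgroup of the group `zpowers x` of prime order
    have hlt : (Subgroup.zpowers x ⊓ Z) = Subgroup.zpowers x := by
      apply Subgroup.eq_of_le_of_card_ge inf_le_left
      have hd : Nat.card (Subgroup.zpowers x ⊓ Z : Subgroup G) ∣ Nat.card (Subgroup.zpowers x) :=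
        Subgroup.card_dvd_of_le inf_le_left
      rw [Nat.card_zpowers, hox] at hd ⊢
      rcases (Nat.dvd_prime hp).mp hd with h1 | h1
      · exact absurd (Subgroup.card_eq_one.mp h1) hne
      · exact h1.ge
    apply hxZ
    have : x ∈ Subgroup.zpowers x ⊓ Z := by
      rw [hlt]; exact Subgroup.mem_zpowers x
    exact (Subgroup.mem_inf.mp this).2
  refine ⟨hle, ⟨?_, fun a ha => h.exp a (hle ha)⟩, ?_⟩
  · -- commutative
    have hcl : Subgroup.zpowers x ⊔ Z ≤ centralizer ((Subgroup.zpowers x ⊔ Z : Subgroup G) : Set G) := by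
      refine sup_le ?_ ?_
      · rw [Subgroup.zpowers_le, Subgroup.mem_centralizer_iff]
        intro g hg
        -- g ∈ zpowers x ⊔ Z commutes with x
        have hle2 : Subgroup.zpowers x ⊔ Z ≤ centralizer ({x} : Set G) := by
          refine sup_le ?_ ?_
          · rw [Subgroup.zpowers_le]; exact Subgroup.mem_centralizer_singleton_iff.mpr rfl
          · intro b hb
            rw [Subgroup.mem_centralizer_singleton_iff]
            exact hcen b hb x hx
        exact Subgroup.mem_centralizer_singleton_iff.mp (hle2 hg)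
      · intro b hb
        rw [Subgroup.mem_centralizer_iff]
        intro g hg
        exact (hcen b hb g (hle hg)).symm
    exact ⟨⟨fun a b => Subtype.ext ((Subgroup.mem_centralizer_iff.mp (hcl b.2)) a.1 a.2)⟩⟩
  · rw [Cfsg.Agent.Lib.Helper06.card_sup_of_commute_of_disjoint _ _ hcomm hdisj, Nat.card_zpowers,
      hox, h.cardZ, pow_two]

end Pkg

end General

end Cfsg.Agent.Lib.Helper29.BG1212
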