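import Mathlib
import Cfsg.Agent.Lib.Helper29.BG1212a
import Cfsg.Agent.Lib.Helper13.BG12B
import Cfsg.Agent.Lib.Helper55.Uniq2
import Cfsg.Agent.Lib.Helper71.BG11b
import Cfsg.Agent.S1350
import Cfsg.Agent.S1403
import Cfsg.Agent.S1404
import Cfsg.Agent.S1412

/-!
# Bender–Glauberman 12.12 (S1422) from the statements of S1416 and (part of) S1417

A nonabelian `p`-subgroup of a minimal simple group of odd order lies in a unique maximal
subgroup.
-/

set_option autoImplicit false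

namespace Cfsg.Agent.Lib.Helper29.BG1212

open Cfsg Subgroup Cfsg.Agent.Lib.Helper55

set_option linter.unusedSectionVars false

variable {G : Type*} [Group G] [Finite G]

/-- The statement of S1416 (BG 12.4), for all maximal subgroups. -/
def H16 (G : Type*) [Group G] : Prop :=
  ∀ (M : Subgroup G), IsCoatom M → ∀ (p : ℕ) [Fact p.Prime] (A : Subgroup G),
    (A ≤ M ∧ Cfsg.IsElementaryAbelian p A ∧ Nat.card A = p ^ 2) →
    Subgroup.centralizer (A : Set G) ≤ M ∧
      ((∀ A₀ : Subgroup G, A₀ ≤ A → Nat.card A₀ = p →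
          ¬ (Subgroup.normalizer (A₀ : Set G) ≤ M ∧ ∀ L : Subgroup G, IsCoatom L →
            Subgroup.normalizer (A₀ : Set G) ≤ L → L = M)) →
        p ∈ Cfsg.sigma M ∧ Cfsg.alphaCore M = ⊥ ∧ Group.IsNilpotent (Cfsg.sigmaCore M))

/-- The consequence of S1417(b) that is needed: `q`-subgroups of `M` are abelian for
`q ∉ σ(M)`. -/
def HAb (G : Type*) [Group G] : Prop :=
  ∀ (M : Subgroup G), IsCoatom M → ∀ (q : ℕ) [Fact q.Prime], q ∉ Cfsg.sigma M →
    ∀ Q : Subgroup G, Q ≤ M → IsPGroup q Q → ∀ a ∈ Q, ∀ b ∈ Q, a * b = b * a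

/-- `M` is the unique maximal subgroup containing `N_G(A₀)`. -/
def Good (M A₀ : Subgroup G) : Prop :=
  Subgroup.normalizer (A₀ : Set G) ≤ M ∧ ∀ L : Subgroup G, IsCoatom L →
    Subgroup.normalizer (A₀ : Set G) ≤ L → L = M

theorem hyp16_of_H16 (h16 : H16 G) {M : Subgroup G} (hM : IsCoatom M) :
    Cfsg.Agent.Lib.Helper13.BG12.Hyp16 M := fun p _ A hA => (h16 M hM p A hA).1

/-- Step 0: a maximal subgroup containing a nonabelian `p`-subgroup has `p ∈ σ(M)`. -/
theorem mem_sigma_of_nonabelian (hab : HAb G) {M : Subgroup G} (hM : IsCoatom M) {p : ℕ}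
    [Fact p.Prime] {P : Subgroup G} (hP : IsPGroup p P) (hPna : ¬ IsMulCommutative P)
    (hPM : P ≤ M) : p ∈ Cfsg.sigma M := by
  by_contra hnot
  exact hPna ⟨⟨fun a b => Subtype.ext (hab M hM p hnot P hPM hP a.1 a.2 b.1 b.2)⟩⟩

/-- Step 1: normalizers of noncyclic `p`-subgroups of `M`, `p ∈ σ(M)`, lie in `M`. -/
theorem normalizer_le (hG : IsMinSimpleOddOrder G) (h16 : H16 G) {M : Subgroup G}
    (hM : IsCoatom M) {p : ℕ} {R : Subgroup G} (hp : p ∈ Cfsg.sigma M) (hR : IsPGroup p R)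
    (hRM : R ≤ M) (hnc : ¬ IsCyclic R) : Subgroup.normalizer (R : Set G) ≤ M :=
  Cfsg.Agent.Lib.Helper13.BG12.normalizer_le_of_noncyclic hG hM (hyp16_of_H16 h16 hM)
    (fun q _ hq X hX hX1 hXM => (Cfsg.Agent.S1404.result hG M hM q hq X hX hX1 hXM).2)
    hp hR hRM hnc

theorem not_isCyclic_of_nonabelian {P R : Subgroup G} (hPna : ¬ IsMulCommutative P)
    (hPR : P ≤ R) : ¬ IsCyclic R := by
  intro hc
  apply hPna
  obtain ⟨g, hg⟩ := hc.exists_generator
  refine ⟨⟨fun a b => Subtype.ext ?_⟩⟩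
  obtain ⟨m, hm⟩ := Subgroup.mem_zpowers_iff.mp (hg ⟨a.1, hPR a.2⟩)
  obtain ⟨n, hn⟩ := Subgroup.mem_zpowers_iff.mp (hg ⟨b.1, hPR b.2⟩)
  have h1 : (a : G) = (g : G) ^ m := by
    have := congrArg Subtype.val hm; simpa using this.symm
  have h2 : (b : G) = (g : G) ^ n := by
    have := congrArg Subtype.val hn; simpa using this.symm
  show (a : G) * b = b * a
  rw [h1, h2, ← zpow_add, ← zpow_add, add_comm]

/-- The key of the proof: in case (iii), every `E`-invariant `p'`-subgroup lies in `M`. -/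
theorem inv_le (h16 : H16 G) {M : Subgroup G} (hM : IsCoatom M) {p : ℕ} [hp : Fact p.Prime]
    {S E Z : Subgroup G} (pk : Pkg p S E Z) (hSM : S ≤ M) {x : G} (hx : x ∈ E) (hxZ : x ∉ Z)
    (hC : ∀ b ∈ Subgroup.zpowers x ⊔ Z, b ∉ Z → Subgroup.centralizer ({b} : Set G) ≤ M) :
    ∀ Y : Subgroup G, (Nat.card Y).Coprime p → E ≤ Subgroup.normalizer (Y : Set G) → Y ≤ M := by
  intro Y hYp hEY
  have hEM : E ≤ M := pk.hES.trans hSM
  obtain ⟨hAE, hAel, hAcard⟩ := pk.plane hp.out hx hxZ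
  have hpY : ¬ p ∣ Nat.card Y := fun h =>
    hp.out.one_lt.ne' (Nat.dvd_one.mp (hYp ▸ Nat.dvd_gcd h dvd_rfl) : p = 1) |>.elim
  have hcen : ∀ c ∈ Z, ∀ e ∈ E, c * e = e * c := fun c hc e he => pk.cen c hc e (pk.hES he)
  refine Cfsg.Agent.Lib.Helper30.coprime_generation p (Subgroup.zpowers x ⊔ Z)
    (fun a ha b hb => congrArg Subtype.val
      (hAel.1.is_comm.comm (⟨a, ha⟩ : ↥(Subgroup.zpowers x ⊔ Z)) ⟨b, hb⟩))
    hAel.2 hAcard.ge Y (hAE.trans hEY) hpY M ?_
  intro B hBA hBidx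
  have hBcard : Nat.card B = p := by
    have h1 : Nat.card B * B.relIndex (Subgroup.zpowers x ⊔ Z) =
        Nat.card (Subgroup.zpowers x ⊔ Z : Subgroup G) := by
      rw [← Subgroup.relIndex_bot_left, ← Subgroup.relIndex_bot_left]
      exact Subgroup.relIndex_mul_relIndex _ _ _ bot_le hBA
    rw [hBidx, hAcard, pow_two] at h1
    exact Nat.eq_of_mul_eq_mul_right hp.out.pos h1
  by_cases hBZ : B = Z
  · subst hBZ
    -- `W = C_Y(Z)` via `gen2`
    refine gen2 p E B (Y ⊓ Subgroup.centralizer (B : Set G)) M pk.hZE hcen pk.exp pk.comm ?_ ?_ ?_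
      ?_ ?_
    · rw [pk.cardZ, pk.cardE]; ring_nf; exact le_rfl
    · intro e he
      have h1 := hEY he
      have h2 : e ∈ Subgroup.normalizer ((Subgroup.centralizer (B : Set G) : Subgroup G) : Set G) :=
        Subgroup.le_normalizer (Subgroup.mem_centralizer_iff.mpr (fun z hz => hcen z hz e he))
      rw [Subgroup.mem_normalizer_iff] at h1 h2 ⊢
      intro h
      rw [Subgroup.mem_inf, Subgroup.mem_inf, h1 h, h2 h]
    · intro z hz w hw
      exact (Subgroup.mem_centralizer_iff.mp (Subgroup.mem_inf.mp hw).2) z hz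
    · intro h
      exact hpY (h.trans (Subgroup.card_dvd_of_le inf_le_left))
    · intro e he heZ w hw
      obtain ⟨hw1, hw2⟩ := Subgroup.mem_inf.mp hw
      obtain ⟨-, hwB⟩ := Subgroup.mem_inf.mp hw1
      obtain ⟨hAeE, hAeel, hAecard⟩ := pk.plane hp.out he heZ
      have hCA := (h16 M hM p (Subgroup.zpowers e ⊔ B) ⟨hAeE.trans hEM, hAeel, hAecard⟩).1
      apply hCA
      have hle : Subgroup.zpowers e ⊔ B ≤ Subgroup.centralizer ({w} : Set G) := by
        refine sup_le ?_ ?_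
        · rw [Subgroup.zpowers_le]
          exact Subgroup.mem_centralizer_singleton_iff.mpr
            (Subgroup.mem_centralizer_singleton_iff.mp hw2).symm
        · intro z hz
          exact Subgroup.mem_centralizer_singleton_iff.mpr
            ((Subgroup.mem_centralizer_iff.mp hwB) z hz)
      rw [Subgroup.mem_centralizer_iff]
      intro g hg
      exact Subgroup.mem_centralizer_singleton_iff.mp (hle hg)
  · -- a noncentral element of `B`
    have hex : ∃ b ∈ B, b ∉ Z := by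
      by_contra hcon
      push Not at hcon
      apply hBZ
      apply Subgroup.eq_of_le_of_card_ge (fun b hb => hcon b hb)
      rw [hBcard, pk.cardZ]
    obtain ⟨b, hbB, hbZ⟩ := hex
    refine le_trans ?_ (hC b (hBA hbB) hbZ)
    intro y hy
    obtain ⟨-, hy2⟩ := Subgroup.mem_inf.mp hy
    exact Subgroup.mem_centralizer_singleton_iff.mpr
      ((Subgroup.mem_centralizer_iff.mp hy2) b hbB).symm

/-- The trichotomy for a maximal subgroup `M` over the Sylow `p`-subgroup `S` of `G`. -/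
theorem tri (hG : IsMinSimpleOddOrder G) (h16 : H16 G) {M : Subgroup G} (hM : IsCoatom M) {p : ℕ}
    [hp : Fact p.Prime] {S E Z : Subgroup G} (pk : Pkg p S E Z) (hSp : IsPGroup p S)
    (hmax : ∀ T : Subgroup G, IsPGroup p T → S ≤ T → T = S) (hSM : S ≤ M) :
    M ≤ Subgroup.normalizer (S : Set G) ∨ Good M Z ∨
      ∃ x ∈ E, x ∉ Z ∧ ∀ b ∈ Subgroup.zpowers x ⊔ Z, b ∉ Z →
        Subgroup.centralizer ({b} : Set G) ≤ M := by
  obtain ⟨x, hx, hxZ⟩ := pk.exists_not_mem hp.out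
  obtain ⟨hAE, hAel, hAcard⟩ := pk.plane hp.out hx hxZ
  have hEM : E ≤ M := pk.hES.trans hSM
  have hcen : ∀ c ∈ Z, ∀ e ∈ E, c * e = e * c := fun c hc e he => pk.cen c hc e (pk.hES he)
  obtain ⟨-, himp⟩ := h16 M hM p (Subgroup.zpowers x ⊔ Z) ⟨hAE.trans hEM, hAel, hAcard⟩
  by_cases hgood : ∃ A₀ : Subgroup G, A₀ ≤ Subgroup.zpowers x ⊔ Z ∧ Nat.card A₀ = p ∧ Good M A₀
  · obtain ⟨A₀, hA0A, hA0card, hA0good⟩ := hgood
    by_cases hA0Z : A₀ = Z
    · exact Or.inr (Or.inl (hA0Z ▸ hA0good))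
    · refine Or.inr (Or.inr ⟨x, hx, hxZ, ?_⟩)
      intro b hbA hbZ
      have hdisj : A₀ ⊓ Z = ⊥ := by
        by_contra hne
        apply hA0Z
        have h1 : A₀ ⊓ Z = A₀ := by
          apply Subgroup.eq_of_le_of_card_ge inf_le_left
          have hd := Subgroup.card_dvd_of_le (inf_le_left : A₀ ⊓ Z ≤ A₀)
          rw [hA0card] at hd ⊢
          rcases (Nat.dvd_prime hp.out).mp hd with h | h
          · exact absurd (Subgroup.card_eq_one.mp h) hne
          · exact h.ge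
        have h2 : A₀ ≤ Z := h1 ▸ inf_le_right
        apply Subgroup.eq_of_le_of_card_ge h2
        rw [hA0card, pk.cardZ]
      have hcomm : ∀ a ∈ A₀, ∀ z ∈ Z, a * z = z * a := fun a ha z hz =>
        (hcen z hz a (hAE (hA0A ha))).symm
      have hsup : A₀ ⊔ Z = Subgroup.zpowers x ⊔ Z := by
        apply Subgroup.eq_of_le_of_card_ge (sup_le hA0A le_sup_right)
        rw [Cfsg.Agent.Lib.Helper06.card_sup_of_commute_of_disjoint _ _ hcomm hdisj, hA0card,
          pk.cardZ, hAcard, pow_two]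
      obtain ⟨a', ha', z, hz, hbeq⟩ :=
        Cfsg.Agent.Lib.Helper06.exists_mul_of_mem_sup_of_commute A₀ Z hcomm (hsup ▸ hbA)
      have ha'E : a' ∈ E := hAE (hA0A ha')
      have ha'Z : a' ∉ Z := fun h => hbZ (hbeq ▸ Z.mul_mem h hz)
      obtain ⟨y, hyE, hy⟩ := pk.conj hp.out ha'E ha'Z hz
      have ha'1 : a' ≠ 1 := fun h => ha'Z (h ▸ Z.one_mem)
      have hzp : Subgroup.zpowers a' = A₀ := by
        apply Subgroup.eq_of_le_of_card_ge (Subgroup.zpowers_le.mpr ha')
        rw [Nat.card_zpowers, hA0card]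
        have hd : orderOf a' ∣ p := orderOf_dvd_of_pow_eq_one (pk.exp a' ha'E)
        rcases (Nat.dvd_prime hp.out).mp hd with h | h
        · exact absurd (orderOf_eq_one_iff.mp h) ha'1
        · exact h.ge
      intro c hc
      have hcb : c * b = b * c := Subgroup.mem_centralizer_singleton_iff.mp hc
      have hb' : b = y * a' * y⁻¹ := by rw [hy, hbeq]
      have hcm : Commute a' (y⁻¹ * c * y) := by
        have e1 : a' = y⁻¹ * b * y := by rw [hb']; group
        show a' * (y⁻¹ * c * y) = (y⁻¹ * c * y) * a'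
        rw [e1]
        calc y⁻¹ * b * y * (y⁻¹ * c * y) = y⁻¹ * (b * c) * y := by group
          _ = y⁻¹ * (c * b) * y := by rw [hcb]
          _ = y⁻¹ * c * y * (y⁻¹ * b * y) := by group
      have h1 : y⁻¹ * c * y ∈ Subgroup.centralizer (A₀ : Set G) := by
        rw [← hzp, Subgroup.mem_centralizer_iff]
        intro h hh
        obtain ⟨k, rfl⟩ := Subgroup.mem_zpowers_iff.mp hh
        exact (Commute.zpow_left hcm k).eq
      have h2 : y⁻¹ * c * y ∈ M := hA0good.1 (Subgroup.centralizer_le_normalizer _ h1)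
      have hyM : y ∈ M := hEM hyE
      have : c = y * (y⁻¹ * c * y) * y⁻¹ := by group
      rw [this]
      exact M.mul_mem (M.mul_mem hyM h2) (M.inv_mem hyM)
  · push Not at hgood
    obtain ⟨hpσ, -, hnil⟩ := himp (fun A₀ hA0 hcard hg => hgood A₀ hA0 hcard hg)
    have hHall := (Cfsg.Agent.S1350.result hG M hM).1
    have hMn := Cfsg.Agent.Lib.Helper71.BG11.le_normalizer_sigmaCore M
    have hSσ : S ≤ Cfsg.sigmaCore M := by
      refine Cfsg.Agent.Lib.Helper71.BG10.le_of_isPiHallOf_normal hHall hMn hSM ?_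
      intro q hq hqd
      obtain ⟨n, hn⟩ := IsPGroup.iff_card.mp hSp
      rw [hn] at hqd
      have : q = p := (Nat.prime_dvd_prime_iff_eq hq hp.out).mp (hq.dvd_of_dvd_pow hqd)
      rw [this]; exact hpσ
    have hSyl : IsSylowIn p (Cfsg.sigmaCore M) S :=
      ⟨hSσ, hSp, fun T' _ hT' hle => hmax T' hT' hle⟩
    exact Or.inl (Cfsg.Agent.Lib.Helper71.BG11.sylow_normal_of_nilpotent hnil hSyl hMn)

/-- Two maximal subgroups containing the nonabelian `p`-subgroup `P` coincide. -/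
theorem eq_of_le (hG : IsMinSimpleOddOrder G) (h16 : H16 G) (hab : HAb G) {p : ℕ}
    [hp : Fact p.Prime] {P : Subgroup G} (hP : IsPGroup p P) (hPna : ¬ IsMulCommutative P)
    {M L : Subgroup G} (hM : IsCoatom M) (hL : IsCoatom L) (hPM : P ≤ M) (hPL : P ≤ L) :
    L = M := by
  have hpM := mem_sigma_of_nonabelian hab hM hP hPna hPM
  have hpL := mem_sigma_of_nonabelian hab hL hP hPna hPL
  obtain ⟨S, hS, hPS⟩ := exists_isSylowIn_ge (p := p) (le_inf hPM hPL) hP
  have hSp : IsPGroup p S := hS.2.1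
  have hSM : S ≤ M := hS.1.trans inf_le_left
  have hSL : S ≤ L := hS.1.trans inf_le_right
  have hnc : ¬ IsCyclic S := not_isCyclic_of_nonabelian hPna hPS
  have hNM := normalizer_le hG h16 hM hpM hSp hSM hnc
  have hNL := normalizer_le hG h16 hL hpL hSp hSL hnc
  have hmax : ∀ T : Subgroup G, IsPGroup p T → S ≤ T → T = S := fun T hT hST =>
    hS.eq_of_normalizer_le hT hST (inf_le_right.trans (le_inf hNM hNL))
  have hSna : ¬ IsMulCommutative S := fun h => hPna ⟨⟨fun a b => Subtype.ext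
    (by
      have := congrArg Subtype.val (h.is_comm.comm (⟨a.1, hPS a.2⟩ : S) ⟨b.1, hPS b.2⟩)
      simpa using this)⟩⟩
  by_cases hr : PRankLE p 2 ↥S
  · let Sy : Sylow p G :=
      { toSubgroup := S, isPGroup' := hSp, is_maximal' := fun {Q} hQ hle => hmax Q hQ hle }
    rcases Cfsg.Agent.S1412.result hG p Sy hr with hc | ⟨P₁, P₂, h1, h2, h3, h4, h5, -, -⟩
    · exact absurd hc hSna
    · have pk : Pkg p S P₁ (P₁ ⊓ Subgroup.centralizer (P₁ : Set G)) :=
        pkg_of_s1412 h1 h2 h3 h4 h5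
      have hEp : IsPGroup p P₁ := hSp.to_le pk.hES
      have hE1 : P₁ ≠ ⊥ := by
        intro h
        have h6 := h4
        rw [h, Subgroup.card_bot] at h6
        have := hp.out.one_lt
        have h7 : 1 < p ^ 3 := Nat.one_lt_pow (by norm_num) this
        omega
      rcases tri hG h16 hM pk hSp hmax hSM with tM | tM | ⟨x, hx, hxZ, hC⟩
      · exact (ms_coatom_eq_of_le hL hM (tM.trans hNL)).symm
      · rcases tri hG h16 hL pk hSp hmax hSL with tL | tL | ⟨x, hx, hxZ, hC⟩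
        · exact ms_coatom_eq_of_le hM hL (tL.trans hNM)
        · exact tM.2 L hL tL.1
        · exact (uniq_of_inv hG hL (pk.hES.trans hSL) hEp hE1
            (inv_le h16 hL pk hSL hx hxZ hC) M hM (pk.hES.trans hSM)).symm
      · exact uniq_of_inv hG hM (pk.hES.trans hSM) hEp hE1
          (inv_le h16 hM pk hSM hx hxZ hC) L hL (pk.hES.trans hSL)
  · have hStop : S ≠ ⊤ := ms_pgroup_ne_top hG hSp
    have hK2 : ¬ Cfsg.RankLE 1 ↥S := fun h => hr (fun A hAc hAe =>
      (h p hp.out A hAc hAe).trans (Nat.pow_le_pow_right hp.out.pos (by norm_num)))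
    have hK3 : ¬ Cfsg.RankLE 2 ↥S := fun h => hr (h p hp.out)
    obtain ⟨M', -, huniq⟩ := Cfsg.Agent.S1403.result hG S hStop hK2 (Or.inl hK3)
    rw [huniq L ⟨hL, hSL⟩, huniq M ⟨hM, hSM⟩]

/-- **BG 12.12 (S1422)** from the statements of S1416 and S1417(b). -/
theorem main (hG : IsMinSimpleOddOrder G) (h16 : H16 G) (hab : HAb G) (p : ℕ) [Fact p.Prime]
    (P : Subgroup G) (hP : IsPGroup p P) (hPna : ¬ IsMulCommutative P) :
    Cfsg.InUniqueMaximal P := by
  have hPtop : P ≠ ⊤ := ms_pgroup_ne_top hG hP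
  obtain ⟨M0, hM0, hPM0⟩ := ms_exists_coatom_ge hPtop
  exact ⟨M0, ⟨hM0, hPM0⟩, fun L hL => eq_of_le hG h16 hab hP hPna hM0 hL.1 hPM0 hL.2⟩

/-- `HAb` from the statement of S1417 (via Helper13). -/
theorem hab_of_hyp17 (hG : IsMinSimpleOddOrder G)
    (h17 : ∀ M : Subgroup G, IsCoatom M → Cfsg.Agent.Lib.Helper13.BG12.Hyp17 M) : HAb G :=
  fun M hM q _ hq Q hQM hQ =>
    Cfsg.Agent.Lib.Helper13.BG12.comm_of_pgroup_not_sigma hG hM (h17 M hM) hq hQM hQ

end Cfsg.Agent.Lib.Helper29.BG1212
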