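import Mathlib
import Cfsg.Agent.Lib.Helper29.BG1212b
import Cfsg.Agent.Lib.Helper83.BG11e

/-!
# S1422 (BG 12.12) from the statement of S1416 alone

`HAb` (abelian `q`-subgroups for `q ∉ σ(M)`) follows from S1416(b) and BG 11.5
(`Helper83.BG11.sylow_comm'`), so S1422 needs only S1416.
-/

set_option autoImplicit false
set_option linter.unusedSectionVars false

namespace Cfsg.Agent.Lib.Helper29.BG1212

open Cfsg Subgroup Cfsg.Agent.Lib.Helper55

variable {G : Type*} [Group G] [Finite G]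

theorem comm_of_isCyclic {Q : Subgroup G} (hc : IsCyclic Q) : ∀ a ∈ Q, ∀ b ∈ Q, a * b = b * a := by
  intro a ha b hb
  obtain ⟨g, hg⟩ := hc.exists_generator
  obtain ⟨m, hm⟩ := Subgroup.mem_zpowers_iff.mp (hg ⟨a, ha⟩)
  obtain ⟨n, hn⟩ := Subgroup.mem_zpowers_iff.mp (hg ⟨b, hb⟩)
  have h1 : a = (g : G) ^ m := by
    have := congrArg Subtype.val hm; simpa using this.symm
  have h2 : b = (g : G) ^ n := by
    have := congrArg Subtype.val hn; simpa using this.symm
  rw [h1, h2, ← zpow_add, ← zpow_add, add_comm]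

/-- `HAb` from the statement of S1416 and BG 11.5. -/
theorem hab_of_H16 (hG : IsMinSimpleOddOrder G) (h16 : H16 G) : HAb G := by
  intro M hM q _ hq Q hQM hQ
  by_cases hc : IsCyclic Q
  · exact comm_of_isCyclic hc
  · have hQ1 : Q ≠ ⊥ := by
      rintro rfl
      exact hc inferInstance
    have hq2 : q ≠ 2 := ms_prime_ne_two hG hQ hQ1
    obtain ⟨A, hAQ, hAel, hAcard⟩ := Cfsg.Agent.Lib.Helper13.BG12.exists_elemAb_sq_le hq2 hQ hc
    obtain ⟨-, himp⟩ := h16 M hM q A ⟨hAQ.trans hQM, hAel, hAcard⟩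
    by_cases hgood : ∃ A₀ : Subgroup G, A₀ ≤ A ∧ Nat.card A₀ = q ∧ Good M A₀
    · obtain ⟨A₀, h1, h2, h3⟩ := hgood
      have hExc : Cfsg.Agent.Lib.Helper71.BG11.Exc M q A A₀ :=
        ⟨hM, hq, hAQ.trans hQM, hAel, hAcard, h1, h2, h3.1⟩
      obtain ⟨P, hP, hQP⟩ := exists_isSylowIn_ge (p := q) hQM hQ
      intro a ha b hb
      exact Cfsg.Agent.Lib.Helper83.BG11.sylow_comm' hG hExc hP a (hQP ha) b (hQP hb)
    · exfalso
      push Not at hgood
      exact hq (himp (fun A₀ h1 h2 h3 => hgood A₀ h1 h2 h3)).1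

/-- **BG 12.12 (S1422)** from the statement of S1416 alone. -/
theorem main' (hG : IsMinSimpleOddOrder G) (h16 : H16 G) (p : ℕ) [Fact p.Prime]
    (P : Subgroup G) (hP : IsPGroup p P) (hPna : ¬ IsMulCommutative P) :
    Cfsg.InUniqueMaximal P :=
  main hG h16 (hab_of_H16 hG h16) p P hP hPna

end Cfsg.Agent.Lib.Helper29.BG1212
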