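import Mathlib
import Cfsg.Agent.Lib.Helper15.BG142Defs2
import Cfsg.Agent.Lib.Helper31.BG12a
import Cfsg.Agent.S1414
import Cfsg.Agent.S1426

/-!
# Keystone 143032 K-U1 (`sylow_inf_cent_compl_eq_bot`) for helper15's S1430/S1431 pack.
-/

set_option autoImplicit false

namespace Cfsg.Agent.Lib.Helper29.BG142

open Cfsg Cfsg.Agent.Lib.Helper55 Cfsg.Agent.Lib.Helper31.BG134 Cfsg.Agent.Lib.Helper15.BG139
  Cfsg.Agent.Lib.Helper15.BG142
open scoped commutatorElement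

/-- In a group with a normal `q`-complement, an abelian Sylow `q`-subgroup meets the commutator
subgroup trivially. -/
theorem sylow_inf_commutator_eq_bot {Γ : Type*} [Group Γ] [Finite Γ] {q : ℕ} [Fact q.Prime]
    (h : HasNormalPComplement q Γ) (S' : Sylow q Γ)
    (hS' : ∀ a ∈ (S' : Subgroup Γ), ∀ b ∈ (S' : Subgroup Γ), a * b = b * a) :
    (S' : Subgroup Γ) ⊓ commutator Γ = ⊥ := by
  obtain ⟨P, N, hN, hc⟩ := h
  haveI := hN
  have h1 : Nat.card N * Nat.card (S' : Subgroup Γ) = Nat.card Γ := by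
    rw [← hc.card_mul_card, Sylow.card_eq_multiplicity S', Sylow.card_eq_multiplicity P]
  have h2 : (Nat.card N).Coprime (Nat.card (S' : Subgroup Γ)) := by
    have h3 := P.card_coprime_index
    rw [hc.index_eq_card] at h3
    rw [Sylow.card_eq_multiplicity S', ← Sylow.card_eq_multiplicity P]
    exact h3.symm
  have hc' : N.IsComplement' (S' : Subgroup Γ) := Subgroup.isComplement'_of_coprime h1 h2
  have hle : commutator Γ ≤ N := by
    rw [commutator_def, Subgroup.commutator_le]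
    intro a _ b _
    obtain ⟨⟨⟨n₁, hn₁⟩, ⟨s₁, hs₁⟩⟩, ha, -⟩ := hc'.existsUnique a
    obtain ⟨⟨⟨n₂, hn₂⟩, ⟨s₂, hs₂⟩⟩, hb, -⟩ := hc'.existsUnique b
    simp only at ha hb
    have e1 : ((n₁ : Γ) : Γ ⧸ N) = 1 := (QuotientGroup.eq_one_iff n₁).mpr hn₁
    have e2 : ((n₂ : Γ) : Γ ⧸ N) = 1 := (QuotientGroup.eq_one_iff n₂).mpr hn₂
    have e3 : ⁅s₁, s₂⁆ = 1 := commutatorElement_eq_one_iff_mul_comm.mpr (hS' s₁ hs₁ s₂ hs₂)
    rw [← QuotientGroup.eq_one_iff]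
    have e4 : ((⁅a, b⁆ : Γ) : Γ ⧸ N) = ⁅((a : Γ) : Γ ⧸ N), ((b : Γ) : Γ ⧸ N)⁆ :=
      map_commutatorElement (QuotientGroup.mk' N) a b
    have e5 : ((⁅s₁, s₂⁆ : Γ) : Γ ⧸ N) = ⁅((s₁ : Γ) : Γ ⧸ N), ((s₂ : Γ) : Γ ⧸ N)⁆ :=
      map_commutatorElement (QuotientGroup.mk' N) s₁ s₂
    rw [e4, ← ha, ← hb, QuotientGroup.mk_mul, QuotientGroup.mk_mul, e1, e2, one_mul, one_mul, ← e5, e3]
    rfl
  rw [eq_bot_iff]
  have h5 : N ⊓ (S' : Subgroup Γ) = ⊥ := disjoint_iff.mp hc'.disjoint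
  rw [← h5]
  exact le_inf (inf_le_right.trans hle) inf_le_left

variable {G : Type*} [Group G] [Finite G]

/-- KEYSTONE 143032 K-U1. -/
theorem sylow_inf_cent_compl_eq_bot (hG : IsMinSimpleOddOrder G) {M E S : Subgroup G} (hM : IsCoatom M)
    (hE : IsComplIn E (sigmaCore M) M) {q : ℕ} [Fact q.Prime] (hq : q ∈ sigma M) (hqβ : q ∉ beta M)
    (hS : IsSylowIn q (sigmaCore M) S) (hSc : IsMulCommutative S) :
    S ⊓ Subgroup.centralizer (E : Set G) = ⊥ := by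
  have hqM : q ∣ Nat.card M := hq.2.1
  have hnc : HasNormalPComplement q ↥(sigmaCore M) :=
    ((Cfsg.Agent.S1414.result hG M hM).2.2.2.2 q Fact.out hqM hqβ).2.1
  have h26 := (Cfsg.Agent.S1426.result hG M hM E hE).1
  have hbot := sylow_inf_commutator_eq_bot hnc hS.toSylow (by
    intro a ha b hb
    have ha' : (a : G) ∈ S := ha
    have hb' : (b : G) ∈ S := hb
    apply Subtype.ext
    have := hSc.is_comm.comm (⟨a, ha'⟩ : ↥S) ⟨b, hb'⟩
    exact congrArg (fun z : ↥S => (z : G)) this)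
  rw [eq_bot_iff]
  intro x hx
  have hxS : x ∈ S := hx.1
  have hxσ : x ∈ sigmaCore M := hS.1 hxS
  have hxc : x ∈ ⁅sigmaCore M, sigmaCore M⁆ := h26 ⟨hxσ, hx.2⟩
  rw [← Subgroup.map_subtype_commutator] at hxc
  obtain ⟨y, hy, hyx⟩ := hxc
  have hyS : y ∈ ((hS.toSylow : Sylow q ↥(sigmaCore M)) : Subgroup ↥(sigmaCore M)) := by
    show (y : G) ∈ S
    have : (y : G) = x := hyx
    rw [this]
    exact hxS
  have hy1 : y ∈ ((hS.toSylow : Sylow q ↥(sigmaCore M)) : Subgroup ↥(sigmaCore M)) ⊓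
      commutator ↥(sigmaCore M) := ⟨hyS, hy⟩
  rw [hbot] at hy1
  have hy2 : y = 1 := Subgroup.mem_bot.mp hy1
  have : x = 1 := by
    rw [← hyx, hy2]
    rfl
  exact Subgroup.mem_bot.mpr this

end Cfsg.Agent.Lib.Helper29.BG142
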