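import Mathlib
import Cfsg.Agent.Lib.Helper31.BG147Defs
import Cfsg.Agent.Lib.Helper55.Basic
import Cfsg.Agent.Lib.Helper55.Uniq3
import Cfsg.Agent.Lib.Helper68.BG144G2
import Cfsg.Agent.Lib.Helper48.BG144G1
import Cfsg.Agent.Lib.Helper71.BG11a
import Cfsg.Agent.S1378

/-!
# Keystone 136907 K-1369-D1 (`tilde_disjoint`) for helper31's S1369 pack (BG 14.7): the tilde sets of two
non-conjugate maximal subgroups are disjoint.
-/

set_option autoImplicit false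

namespace Cfsg.Agent.Lib.Helper29.BG147

open Cfsg Subgroup Cfsg.Agent.Lib.Helper55

variable {G : Type*} [Group G] [Finite G]

/-- KEYSTONE 136907 K-1369-D1. -/
theorem tilde_disjoint (hG : IsMinSimpleOddOrder G) (h33 : Cfsg.Agent.Lib.Helper11.BG144.H1433 G)
    {M Mstar : Subgroup G} (hM : IsCoatom M)
    (hMstar : IsCoatom Mstar) (hnc : ∀ g : G, Mstar ≠ M.map (MulAut.conj g).toMonoidHom) :
    Disjoint (tildeOf M ((sigmaCore M : Set G) \ {1})) (tildeOf Mstar ((sigmaCore Mstar : Set G) \ {1})) := by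
  rw [Set.disjoint_left]
  rintro v ⟨a, ⟨ha, ha1⟩, r, hr, y, hv⟩ ⟨a', ⟨ha', ha'1⟩, r', hr', y', hv'⟩
  have ha1' : a ≠ 1 := fun h => ha1 (Set.mem_singleton_iff.mpr h)
  have ha'1' : a' ≠ 1 := fun h => ha'1 (Set.mem_singleton_iff.mpr h)
  have haM : a ∈ sigmaCore M := ha
  have ha'M : a' ∈ sigmaCore Mstar := ha'
  obtain ⟨c, hc⟩ : ∃ c : G, c = y⁻¹ * y' := ⟨_, rfl⟩
  have hNco : IsCoatom (cj c Mstar) := isCoatom_cj c hMstar
  have ha'' : c * a' * c⁻¹ ∈ sigmaCore (cj c Mstar) := by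
    rw [Cfsg.Agent.Lib.Helper68.BG144.sigmaCore_cj hG hMstar c]
    exact conj_mem_cj ha'M
  have hr'' : c * r' * c⁻¹ ∈ supportR (cj c Mstar) (c * a' * c⁻¹) := by
    rw [Cfsg.Agent.Lib.Helper48.BG144.supportR_conj]
    exact conj_mem_cj hr'
  have ha''1 : c * a' * c⁻¹ ≠ 1 := fun h => ha'1' (conj_eq_one_iff.mp h)
  have heq : a * r = (c * a' * c⁻¹) * (c * r' * c⁻¹) := by
    have h1 : y * (a * r) * y⁻¹ = y' * (a' * r') * y'⁻¹ := hv.symm.trans hv'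
    have h2 : a * r = y⁻¹ * (y * (a * r) * y⁻¹) * y := by group
    rw [h2, h1, hc]
    group
  have haa : a = c * a' * c⁻¹ := by
    by_contra hne
    exact h33 M (cj c Mstar) hM hNco a (c * a' * c⁻¹) haM ha'' ha1' ha''1 hne r hr (c * r' * c⁻¹) hr'' heq
  have hord : orderOf a ≠ 1 := fun h => ha1' (orderOf_eq_one_iff.mp h)
  obtain ⟨p, hp, hpa⟩ := Nat.exists_prime_and_dvd hord
  have hpM : p ∈ sigma M :=
    Cfsg.Agent.Lib.Helper71.BG11.sigmaCore_pi hG hM hp (hpa.trans (Subgroup.orderOf_dvd_natCard _ haM))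
  have hpN : p ∈ sigma (cj c Mstar) := by
    refine Cfsg.Agent.Lib.Helper71.BG11.sigmaCore_pi hG hNco hp (hpa.trans ?_)
    rw [haa]
    exact Subgroup.orderOf_dvd_natCard _ ha''
  obtain ⟨g, hg⟩ := (Cfsg.Agent.S1378.result hG).2 M (cj c Mstar) hM hNco ⟨p, hpM, hpN⟩
  apply hnc (c⁻¹ * g)
  have h3 : cj (c⁻¹ * g) M = cj c⁻¹ (cj g M) := cj_mul c⁻¹ g M
  have h4 : cj c⁻¹ (cj c Mstar) = Mstar := cj_inv_cj c Mstar
  have h5 : cj g M = cj c Mstar := hg.symm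
  show Mstar = cj (c⁻¹ * g) M
  rw [h3, h5, h4]

end Cfsg.Agent.Lib.Helper29.BG147
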