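import Mathlib
import Cfsg.Agent.Lib.Helper11.BG144Defs
import Cfsg.Agent.S1350
import Cfsg.Agent.Lib.Helper55.Basic
import Cfsg.Agent.Lib.Helper55.Uniq2
import Cfsg.Agent.Lib.Helper71.BG11a
import Cfsg.Agent.Lib.Helper13.BG12B
import Cfsg.Agent.Lib.Helper31.FittingHall

/-!
# Keystone 137406 K-144-D (`s1374_of : HA G → HB G → H1374 G`) for helper11's BG 14.4 pack.
-/

set_option autoImplicit false

namespace Cfsg.Agent.Lib.Helper29.BG144

open Cfsg Subgroup Cfsg.Agent.Lib.Helper11.BG144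

variable {G : Type*} [Group G] [Finite G]

/-- the index of a complemented subgroup is the order of the complement -/
theorem relIndex_eq_card_right {A B C : Subgroup G} (h : IsComplIn A B C) : A.relIndex C = Nat.card B := by
  have h1 : Nat.card A * Nat.card B = Nat.card C := Cfsg.Agent.Lib.Helper31.IsComplIn.card_mul h
  have h2 : (⊥ : Subgroup G).relIndex A * A.relIndex C = (⊥ : Subgroup G).relIndex C :=
    Subgroup.relIndex_mul_relIndex _ _ _ bot_le h.1
  rw [Subgroup.relIndex_bot_left, Subgroup.relIndex_bot_left, ← h1] at h2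
  exact Nat.eq_of_mul_eq_mul_left Nat.card_pos h2

/-- K-144-D: S1374 from the transitivity `HA` and the supporting subgroup `HB`. -/
theorem s1374_of (hG : IsMinSimpleOddOrder G) (hA : HA G) (hB : HB G) : H1374 G := by
  intro M hM x hx hx1
  have hxM : x ∈ M := Cfsg.Agent.Lib.Helper71.BG11.sigmaCore_le M hx
  have hM1 : M ≠ ⊥ := by
    intro h
    rw [h] at hxM
    exact hx1 (Subgroup.mem_bot.mp hxM)
  have hNM : Subgroup.normalizer (M : Set G) = M :=
    Cfsg.Agent.Lib.Helper55.ms_normalizer_eq hG hM hM1 le_rfl Subgroup.le_normalizer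
  by_cases hC : centralizer ({x} : Set G) ≤ M
  · -- `C_G(x) ≤ M`
    have hCM : M ⊓ centralizer ({x} : Set G) = centralizer ({x} : Set G) := inf_eq_right.mpr hC
    refine ⟨?_, ⊥, ?_, ?_, ?_⟩
    · rw [hCM, Subgroup.relIndex_self]
      exact Nat.coprime_one_right _
    · intro c _
      rw [Subgroup.mem_normalizer_iff]
      intro y
      rw [Subgroup.mem_bot, Subgroup.mem_bot, conj_eq_one_iff]
    · rw [hCM]
      exact ⟨le_rfl, bot_le, inf_bot_eq _, fun m hm =>
        ⟨m, hm, 1, Subgroup.mem_bot.mpr rfl, (mul_one m).symm⟩⟩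
    · intro g hg
      obtain ⟨c, hc, hcg⟩ := hA M hM x hx hx1 g hg
      have h1 : cj c M = M := Cfsg.Agent.Lib.Helper55.cj_eq_self_of_mem (hC hc)
      refine ⟨1, ⟨Subgroup.one_mem _, ?_⟩, ?_⟩
      · have h2 : cj (1 : G) M = M := Cfsg.Agent.Lib.Helper55.cj_one M
        exact h2.trans (h1.symm.trans hcg)
      · rintro r ⟨hr, -⟩
        exact Subgroup.mem_bot.mp hr
  · -- `C_G(x) ⊄ M`
    obtain ⟨N, hN⟩ := hB M hM x hx hx1 hC
    have hCN : centralizer ({x} : Set G) ≤ N := hN.cent_le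
    have hdisj : (M ⊓ centralizer ({x} : Set G)) ⊓ (sigmaCore N ⊓ centralizer ({x} : Set G)) = ⊥ := by
      rw [eq_bot_iff, ← hN.inf_bot]
      exact le_inf (inf_le_right.trans inf_le_left) (inf_le_left.trans inf_le_left)
    have hcompl : IsComplIn (M ⊓ centralizer ({x} : Set G)) (sigmaCore N ⊓ centralizer ({x} : Set G))
        (centralizer ({x} : Set G)) := ⟨inf_le_right, inf_le_right, hdisj, hN.cent_split⟩
    have hHall : IsPiHallOf (sigma N) (sigmaCore N) N := (Cfsg.Agent.S1350.result hG N hN.coatom).1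
    refine ⟨?_, sigmaCore N ⊓ centralizer ({x} : Set G), ?_, hcompl, ?_⟩
    · rw [relIndex_eq_card_right hcompl]
      have h1 : Nat.card ↥(M ⊓ centralizer ({x} : Set G)) ∣ Nat.card ↥(M ⊓ N) :=
        Subgroup.card_dvd_of_le (le_inf inf_le_left (inf_le_right.trans hCN))
      have h2 : Nat.card ↥(sigmaCore N ⊓ centralizer ({x} : Set G)) ∣ Nat.card ↥(sigmaCore N) :=
        Subgroup.card_dvd_of_le inf_le_left
      have h3 : (Nat.card ↥(M ⊓ N)).Coprime (Nat.card ↥(sigmaCore N)) := by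
        apply Nat.coprime_of_dvd
        intro p hp hp1 hp2
        exact Cfsg.Agent.Lib.Helper13.BG12.complIn_prime_not_mem_sigma hHall hN.compl p hp hp1
          (hHall.2.1 p hp hp2)
      exact Nat.Coprime.coprime_dvd_left h1 (Nat.Coprime.coprime_dvd_right h2 h3)
    · intro c hc
      rw [Subgroup.mem_normalizer_iff]
      intro y
      have h1 := Subgroup.mem_normalizer_iff.mp
        (Cfsg.Agent.Lib.Helper71.BG11.le_normalizer_sigmaCore N (hCN hc)) y
      have h2 := Subgroup.mem_normalizer_iff.mp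
        (Subgroup.le_normalizer hc : c ∈ Subgroup.normalizer ((centralizer ({x} : Set G) : Subgroup G) : Set G)) y
      exact ⟨fun h => ⟨h1.mp h.1, h2.mp h.2⟩, fun h => ⟨h1.mpr h.1, h2.mpr h.2⟩⟩
    · intro g hg
      obtain ⟨c, hc, hcg⟩ := hA M hM x hx hx1 g hg
      obtain ⟨e, he, a, ha, hca⟩ := hN.cent_split c⁻¹ (Subgroup.inv_mem _ hc)
      have hc' : c = a⁻¹ * e⁻¹ := by
        rw [← mul_inv_rev, ← hca, inv_inv]
      have h1 : cj a⁻¹ M = cj g M := by
        have h2 : cj c M = cj a⁻¹ (cj e⁻¹ M) := by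
          rw [hc']
          exact Cfsg.Agent.Lib.Helper55.cj_mul a⁻¹ e⁻¹ M
        have h3 : cj e⁻¹ M = M := Cfsg.Agent.Lib.Helper55.cj_eq_self_of_mem (M.inv_mem he.1)
        rw [h3] at h2
        exact h2.symm.trans hcg
      refine ⟨a⁻¹, ⟨Subgroup.inv_mem _ ha, h1⟩, ?_⟩
      rintro r ⟨hr, hrg⟩
      have h4 : cj (a * r) M = M := by
        have h5 : cj (a * r) M = cj a (cj r M) := Cfsg.Agent.Lib.Helper55.cj_mul a r M
        have h6 : cj r M = cj a⁻¹ M := hrg.trans h1.symm
        rw [h5, h6]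
        have := Cfsg.Agent.Lib.Helper55.cj_inv_cj a⁻¹ M
        rwa [inv_inv] at this
      have h7 : a * r ∈ M := by
        have := Cfsg.Agent.Lib.Helper55.cj_eq_self_iff.mp h4
        rwa [hNM] at this
      have h8 : a * r ∈ sigmaCore N ⊓ M := ⟨(sigmaCore N).mul_mem ha.1 hr.1, h7⟩
      rw [hN.inf_bot] at h8
      have h9 : a * r = 1 := Subgroup.mem_bot.mp h8
      exact (eq_inv_of_mul_eq_one_right h9)

end Cfsg.Agent.Lib.Helper29.BG144
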