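import Mathlib
import Cfsg.Agent.Lib.Helper83.GSDefs

/-! K-GS-K3 (keystone 484009, helper83's S4840 pack): the eigenspace trick for a quaternion action on
an elementary abelian 3-group. -/

set_option autoImplicit false

namespace Cfsg.Agent.Lib.Helper29.GS

universe u

theorem card_eq_sq_of_quaternion_action {V : Type u} [CommGroup V] [Finite V]
    (hV3 : ∀ v : V, v ^ 3 = 1) (i j : MulAut V)
    (hi : ∀ v : V, i (i v) = v⁻¹) (hj : ∀ v : V, j (j v) = v⁻¹)
    (hij : ∀ v : V, i (j v) = (j (i v))⁻¹)
    (U : Subgroup V) (hU : ∀ v : V, v ∈ U ↔ i v * j v = v) :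
    Nat.card V = Nat.card U * Nat.card U := by
  have h3 : ∀ v : V, v⁻¹ * v⁻¹ = v := by
    intro v
    have := hV3 v
    rw [pow_succ, pow_two] at this
    calc v⁻¹ * v⁻¹ = v⁻¹ * v⁻¹ * (v * v * v) := by rw [this, mul_one]
      _ = v := by group
  have h1 : ∀ v, i (j (i v)) = j v := by
    intro v
    rw [hij (i v), hi v, map_inv, inv_inv]
  have h2 : ∀ v, j (i (j v)) = i v := by
    intro v
    have := hij (j v)
    rw [hj v, map_inv] at this
    exact (inv_injective this).symm
  let sH : V →* V :=
    { toFun := fun v => i v * j v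
      map_one' := by simp
      map_mul' := fun a b => by
        simp only [map_mul]
        exact mul_mul_mul_comm _ _ _ _ }
  have sH_apply : ∀ v, sH v = i v * j v := fun v => rfl
  have hss : ∀ v, sH (sH v) = v := by
    intro v
    rw [sH_apply (sH v), sH_apply v, map_mul, map_mul, hi, hj, hij v]
    calc v⁻¹ * (j (i v))⁻¹ * (j (i v) * v⁻¹) = v⁻¹ * v⁻¹ := by group
      _ = v := h3 v
  have hsk : ∀ v, sH (i (j v)) = (i (j (sH v)))⁻¹ := by
    intro v
    rw [sH_apply (i (j v)), hi (j v), h2 v, sH_apply v, map_mul, map_mul, h1 v, hj v, map_inv,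
      mul_inv, inv_inv]
  let f : V →* V :=
    { toFun := fun v => sH v * v⁻¹
      map_one' := by simp
      map_mul' := fun a b => by
        rw [map_mul, mul_inv]
        exact mul_mul_mul_comm _ _ _ _ }
  have f_apply : ∀ v, f v = sH v * v⁻¹ := fun v => rfl
  have hA : Nat.card V = Nat.card f.range * Nat.card f.ker := by
    rw [Subgroup.card_eq_card_quotient_mul_card_subgroup f.ker,
      Nat.card_congr (QuotientGroup.quotientKerEquivRange f).toEquiv]
  have hker : f.ker = U := by
    ext v
    rw [MonoidHom.mem_ker, hU, f_apply, mul_inv_eq_one, sH_apply]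
  have hrange : Nat.card f.range = Nat.card U := by
    symm
    apply Nat.card_congr
    refine Equiv.subtypeEquiv (j.toEquiv.trans i.toEquiv) ?_
    intro v
    show v ∈ U ↔ i (j v) ∈ f.range
    constructor
    · intro hv
      have hv' : sH v = v := (hU v).1 hv
      refine ⟨i (j v), ?_⟩
      rw [f_apply, hsk, hv']
      exact h3 _
    · rintro ⟨w, hw⟩
      rw [hU v]
      have e1 : sH (i (j v)) = (i (j v))⁻¹ := by
        rw [← hw, f_apply, map_mul, map_inv, hss, mul_inv, inv_inv, mul_comm]
      rw [hsk] at e1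
      have e2 : i (j (sH v)) = i (j v) := inv_injective e1
      exact j.injective (i.injective e2)
  rw [hA, hrange, hker]

end Cfsg.Agent.Lib.Helper29.GS
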