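import Mathlib
import Cfsg.Prelude.Def_Local
import Cfsg.Agent.Lib.Helper29.LocalCore
import Cfsg.Agent.Lib.Helper03.PResidual

set_option autoImplicit false

namespace Cfsg.Agent.Lib.Helper29

open Cfsg
open scoped commutatorElement

section thmC

variable {G : Type*} [Group G]

/-- Two orbit products commute when the orbits are different. -/
theorem orbit_commute (R L : Subgroup G) (hL : IsComponent L) (w : G)
    (hcomm : ∀ r ∈ R, w * r = r * w) (hne : ∀ r ∈ R, cjMap L w ≠ cjMap L r) :
    (⨆ r : R, cjMap L (w * (r : G))) ≤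
      Subgroup.centralizer ((⨆ r : R, cjMap L (r : G) : Subgroup G) : Set G) := by
  have hcomp : ∀ g, IsComponent (cjMap L g) := isComponent_cjMap hL
  apply iSup_le
  intro r'
  rw [Subgroup.le_centralizer_iff]
  apply iSup_le
  intro r
  rw [← Subgroup.commutator_eq_bot_iff_le_centralizer]
  apply Cfsg.Agent.Lib.Helper30.component_commute (hcomp _) (hcomp _)
  intro heq
  have h1 : cjMap L ((r' : G)⁻¹ * (r : G)) = cjMap L w := by
    have hc : w * (r' : G) = (r' : G) * w := hcomm _ r'.2
    calc cjMap L ((r' : G)⁻¹ * (r : G))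
        = (cjMap L (r : G)).map (MulAut.conj (r' : G)⁻¹).toMonoidHom := cjMap_mul _ _ _
      _ = (cjMap L (w * (r' : G))).map (MulAut.conj (r' : G)⁻¹).toMonoidHom := by rw [heq]
      _ = cjMap L ((r' : G)⁻¹ * (w * (r' : G))) := (cjMap_mul _ _ _).symm
      _ = cjMap L w := by rw [hc]; congr 1; group
  exact hne _ (Subgroup.mul_mem _ (Subgroup.inv_mem _ r'.2) r.2) h1.symm

theorem map_conj_le_centralizer_map_conj {A B : Subgroup G} (h : A ≤ Subgroup.centralizer (B : Set G))
    (g : G) : A.map (MulAut.conj g).toMonoidHom ≤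
      Subgroup.centralizer ((B.map (MulAut.conj g).toMonoidHom : Subgroup G) : Set G) := by
  rintro _ ⟨a, ha, rfl⟩
  rw [Subgroup.mem_centralizer_iff]
  rintro _ ⟨b, hb, rfl⟩
  have h1 := Subgroup.mem_centralizer_iff.mp (h ha) b hb
  simp only [MulEquiv.coe_toMonoidHom, MulAut.conj_apply]
  calc g * b * g⁻¹ * (g * a * g⁻¹) = g * (b * a) * g⁻¹ := by group
    _ = g * (a * b) * g⁻¹ := by rw [h1]
    _ = g * a * g⁻¹ * (g * b * g⁻¹) := by group

/-- If `a b` has order dividing `m` with `a`, `b` commuting, then `a ^ m = (b ^ m)⁻¹`. -/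
theorem pow_eq_inv_pow_of_commute {a b : G} (hc : Commute a b) {m : ℕ} (h : (a * b) ^ m = 1) :
    a ^ m = (b ^ m)⁻¹ := by
  rw [hc.mul_pow] at h
  exact eq_inv_of_mul_eq_one_left h

end thmC

section thmC2

variable {G : Type*} [Group G] [Finite G] {p : ℕ} [hp : Fact p.Prime]

/-- **Generalized normalization theorem.** `O_{p'}(G) = 1`, `P` a `p`-subgroup, `y` a `p'`-element
centralizing `P` and `O_p(G)` such that `[d, y]` lies in a fixed `p'`-group `W` for all
`d ∈ N_{E(G)}(P)`. Then `y` normalizes every component of `G`. -/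
theorem localElement_mem_normalizer_component (hO : pPrimeCore p G = ⊥) (P W : Subgroup G)
    (hP : IsPGroup p P) (hW : (Nat.card W).Coprime p) (y : G) (n : ℕ) (hyn : y ^ n = 1)
    (hn : n.Coprime p) (hyP : ∀ r ∈ P, y * r = r * y) (hyZ : ∀ z ∈ pCore p G, y * z = z * y)
    (h3 : ∀ d ∈ layer G ⊓ Subgroup.normalizer (P : Set G), d⁻¹ * (y * d * y⁻¹) ∈ W)
    (L : Subgroup G) (hL : IsComponent L) : y ∈ Subgroup.normalizer (L : Set G) := by
  by_contra hyL
  have hcomp : ∀ g, IsComponent (cjMap L g) := isComponent_cjMap hL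
  have hZn : (pCore p G).Normal := Cfsg.Agent.Lib.Helper76.pCore_normal p
  have hZp : IsPGroup p (pCore p G) := Cfsg.Agent.Lib.Helper76.pCore_isPGroup p
  set P' : Subgroup G := P ⊔ pCore p G with hP'
  have hP'p : IsPGroup p P' := IsPGroup.to_sup_of_normal_right hP hZp
  have hZP' : pCore p G ≤ P' := le_sup_right
  have hPP' : P ≤ P' := le_sup_left
  have hcomm : ∀ r ∈ P', y * r = r * y := by
    have h1 : P' ≤ Subgroup.centralizer ({y} : Set G) := by
      apply sup_le
      · intro r hr
        rw [Subgroup.mem_centralizer_iff]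
        intro h hh
        rw [Set.mem_singleton_iff] at hh
        rw [hh]; exact hyP r hr
      · intro r hr
        rw [Subgroup.mem_centralizer_iff]
        intro h hh
        rw [Set.mem_singleton_iff] at hh
        rw [hh]; exact hyZ r hr
    intro r hr
    have := Subgroup.mem_centralizer_iff.mp (h1 hr) y rfl
    exact this
  have hB2 := cjMap_ne_of_commute P' hP'p L y n hyn hn hcomm hyL
  -- orbit products
  set K : Subgroup G := ⨆ r : P', cjMap L (r : G) with hK
  set K₁ : Subgroup G := ⨆ r : P', cjMap L (y * (r : G)) with hK₁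
  have hK₁eq : K.map (MulAut.conj y).toMonoidHom = K₁ := map_conj_iSup_cjMap L P' y
  set K₂ : Subgroup G := K₁.map (MulAut.conj y).toMonoidHom with hK₂
  have hLK : L ≤ K := by
    have h := le_iSup (fun r : P' => cjMap L (r : G)) (1 : P')
    rw [show ((1 : P') : G) = 1 from rfl, cjMap_one] at h
    exact h
  have hKK₁ : K₁ ≤ Subgroup.centralizer (K : Set G) := orbit_commute P' L hL y hcomm hB2
  have hK₁K₂ : K₂ ≤ Subgroup.centralizer (K₁ : Set G) := by
    have := map_conj_le_centralizer_map_conj hKK₁ y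
    rw [hK₁eq] at this
    exact this
  have hKw : ∀ k ∈ K, y * k * y⁻¹ ∈ K₁ := by
    intro k hk
    rw [← hK₁eq]
    exact ⟨k, hk, rfl⟩
  have hK₁w : ∀ k ∈ K₁, y * k * y⁻¹ ∈ K₂ := fun k hk => ⟨k, hk, rfl⟩
  have hRK : P' ≤ Subgroup.normalizer (K : Set G) := le_normalizer_iSup_cjMap L P'
  have hKE : K ≤ layer G := iSup_le fun r => Cfsg.Agent.Lib.Helper30.component_le_layer (hcomp _)
  have hK₁E : K₁ ≤ layer G := iSup_le fun r => Cfsg.Agent.Lib.Helper30.component_le_layer (hcomp _)
  have hA : K ⊓ Subgroup.centralizer (K : Set G) ≤ pCore p G :=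
    (orbit_center_le_fitting P' L hL).trans (fitting_le_pCore_of_pPrimeCore_eq_bot p hO)
  -- the double commutator argument
  have hα : ∀ t ∈ K, t ∈ Subgroup.normalizer (P' : Set G) → (∃ j : ℕ, t ^ p ^ j = 1) → t ∈ P' := by
    intro t htK htN ⟨j, hj⟩
    apply hZP'
    have ht₁ : y * t * y⁻¹ ∈ K₁ := hKw t htK
    have ht₂ : y * (y * t * y⁻¹) * y⁻¹ ∈ K₂ := hK₁w _ ht₁
    have hc₁E : t⁻¹ * (y * t * y⁻¹) ∈ layer G :=
      Subgroup.mul_mem _ (hKE (Subgroup.inv_mem _ htK)) (hK₁E ht₁)
    have hc₁C : ∀ r ∈ P', (t⁻¹ * (y * t * y⁻¹)) * r = r * (t⁻¹ * (y * t * y⁻¹)) := by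
      intro r hr
      have hr' : t * r * t⁻¹ ∈ P' := (Subgroup.mem_normalizer_iff.mp htN r).mp hr
      have e1 : y * (t * r * t⁻¹) = (t * r * t⁻¹) * y := hcomm _ hr'
      have e2 : y * r = r * y := hcomm _ hr
      have e3 : y⁻¹ * r = r * y⁻¹ := by
        have : r = y⁻¹ * (y * r) := by group
        rw [e2] at this
        calc y⁻¹ * r = y⁻¹ * r * (y * y⁻¹) := by group
          _ = y⁻¹ * (r * y) * y⁻¹ := by group
          _ = y⁻¹ * (y * r) * y⁻¹ := by rw [e2]
          _ = r * y⁻¹ := by group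
      calc t⁻¹ * (y * t * y⁻¹) * r = t⁻¹ * (y * t) * (y⁻¹ * r) := by group
        _ = t⁻¹ * (y * t) * (r * y⁻¹) := by rw [e3]
        _ = t⁻¹ * (y * (t * r * t⁻¹)) * t * y⁻¹ := by group
        _ = t⁻¹ * ((t * r * t⁻¹) * y) * t * y⁻¹ := by rw [e1]
        _ = r * (t⁻¹ * (y * t * y⁻¹)) := by group
    have hc₁N : t⁻¹ * (y * t * y⁻¹) ∈ Subgroup.normalizer (P : Set G) := by
      apply Subgroup.centralizer_le_normalizer
      rw [Subgroup.mem_centralizer_iff]
      intro r hr
      exact (hc₁C r (hPP' hr)).symm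
    have hc₂W := h3 _ ⟨hc₁E, hc₁N⟩
    have hc₂m := pow_card_eq_one_of_mem hc₂W
    have hct : Commute t (y * t * y⁻¹) := by
      have := Subgroup.mem_centralizer_iff.mp (hKK₁ ht₁) t htK
      exact this
    have hct' : Commute t (y * t * y⁻¹)⁻¹ := hct.inv_right
    by_cases hB : ∃ r ∈ P', cjMap L (y * y) = cjMap L r
    · -- Case B
      obtain ⟨r, hr, heq⟩ := hB
      have hyy_comm : ∀ r ∈ P', (y * y) * r = r * (y * y) := by
        intro r hr
        calc y * y * r = y * (y * r) := by group
          _ = y * (r * y) := by rw [hcomm r hr]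
          _ = (y * r) * y := by group
          _ = (r * y) * y := by rw [hcomm r hr]
          _ = r * (y * y) := by group
      have hyyn : (y * y) ^ n = 1 := by
        rw [(Commute.refl y).mul_pow, hyn, one_mul]
      have hyyL : y * y ∈ Subgroup.normalizer (L : Set G) := by
        by_contra h
        exact cjMap_ne_of_commute P' hP'p L (y * y) n hyyn hn hyy_comm h r hr heq
      have hp2 : p ≠ 2 := by
        intro h2
        have h1 : orderOf y ∣ n := orderOf_dvd_of_pow_eq_one hyn
        have h3 : Nat.Coprime 2 (orderOf y) := by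
          rw [h2] at hn
          exact (Nat.Coprime.coprime_dvd_left h1 hn).symm
        obtain ⟨k, hk⟩ := exists_pow_eq_self_of_coprime h3
        apply hyL
        rw [← hk, pow_two]
        exact Subgroup.pow_mem _ hyyL k
      have h2m : (2 * Nat.card W).Coprime p := by
        apply Nat.Coprime.mul_left _ hW
        rw [Nat.coprime_comm]
        exact (Nat.coprime_primes hp.out Nat.prime_two).mpr hp2
      have hK₂K : K₂ = K := by
        rw [hK₂, hK₁, Subgroup.map_iSup, hK]
        apply iSup_congr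
        intro r
        have h4 : cjMap L (y * y) = L := map_conj_eq_of_mem_normalizer L _ hyyL
        calc (cjMap L (y * (r : G))).map (MulAut.conj y).toMonoidHom
            = cjMap L (y * (y * (r : G))) := (cjMap_mul _ _ _).symm
          _ = cjMap L ((r : G) * (y * y)) := by rw [← mul_assoc, hyy_comm _ r.2]
          _ = (cjMap L (y * y)).map (MulAut.conj (r : G)).toMonoidHom := cjMap_mul _ _ _
          _ = cjMap L (r : G) := by rw [h4]; rfl
      have ht₂K : y * (y * t * y⁻¹) * y⁻¹ ∈ K := by rw [← hK₂K]; exact ht₂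
      -- c₂ = a * b with a = t₁⁻¹ t₁⁻¹ ∈ C(K), b = t t₂ ∈ K
      have hab : (t⁻¹ * (y * t * y⁻¹))⁻¹ * (y * (t⁻¹ * (y * t * y⁻¹)) * y⁻¹) =
          ((y * t * y⁻¹)⁻¹ * (y * t * y⁻¹)⁻¹) * (t * (y * (y * t * y⁻¹) * y⁻¹)) := by
        have e : (t⁻¹ * (y * t * y⁻¹))⁻¹ * (y * (t⁻¹ * (y * t * y⁻¹)) * y⁻¹) =
            (y * t * y⁻¹)⁻¹ * (t * (y * t * y⁻¹)⁻¹) * (y * (y * t * y⁻¹) * y⁻¹) := by group
        rw [e, hct'.eq]; group
      have haC : (y * t * y⁻¹)⁻¹ * (y * t * y⁻¹)⁻¹ ∈ Subgroup.centralizer (K : Set G) :=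
        Subgroup.mul_mem _ (Subgroup.inv_mem _ (hKK₁ ht₁)) (Subgroup.inv_mem _ (hKK₁ ht₁))
      have hbK : t * (y * (y * t * y⁻¹) * y⁻¹) ∈ K := Subgroup.mul_mem _ htK ht₂K
      have hcab : Commute ((y * t * y⁻¹)⁻¹ * (y * t * y⁻¹)⁻¹) (t * (y * (y * t * y⁻¹) * y⁻¹)) := by
        have := Subgroup.mem_centralizer_iff.mp haC _ hbK
        exact this.symm
      rw [hab] at hc₂m
      have h5 := pow_eq_inv_pow_of_commute hcab hc₂m
      have h6 : ((y * t * y⁻¹)⁻¹ * (y * t * y⁻¹)⁻¹) ^ Nat.card W ∈
          K ⊓ Subgroup.centralizer (K : Set G) :=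
        ⟨by rw [h5]; exact Subgroup.inv_mem _ (Subgroup.pow_mem _ hbK _), Subgroup.pow_mem _ haC _⟩
      have h7 : ((y * t * y⁻¹)⁻¹ * (y * t * y⁻¹)⁻¹) ^ Nat.card W =
          y * (t ^ (2 * Nat.card W))⁻¹ * y⁻¹ := by
        have e1 : (y * t * y⁻¹)⁻¹ * (y * t * y⁻¹)⁻¹ = y * (t ^ 2)⁻¹ * y⁻¹ := by
          rw [pow_two]; group
        rw [e1]
        have e2 : (y * (t ^ 2)⁻¹ * y⁻¹) ^ Nat.card W = y * ((t ^ 2)⁻¹) ^ Nat.card W * y⁻¹ := by
          rw [conj_pow]
        rw [e2, inv_pow, ← pow_mul]
      have h8 : y * (t ^ (2 * Nat.card W))⁻¹ * y⁻¹ ∈ pCore p G := by rw [← h7]; exact hA h6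
      have h9 : t ^ (2 * Nat.card W) ∈ pCore p G := by
        have := hZn.conj_mem _ h8 y⁻¹
        have e : y⁻¹ * (y * (t ^ (2 * Nat.card W))⁻¹ * y⁻¹) * y⁻¹⁻¹ = (t ^ (2 * Nat.card W))⁻¹ := by
          group
        rw [e] at this
        exact (Subgroup.inv_mem_iff _).mp this
      obtain ⟨m, hm⟩ := exists_pow_pow_eq_self hj h2m
      rw [← hm]
      exact Subgroup.pow_mem _ h9 m
    · -- Case A
      push Not at hB
      have hyy_comm : ∀ r ∈ P', (y * y) * r = r * (y * y) := by
        intro r hr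
        calc y * y * r = y * (y * r) := by group
          _ = y * (r * y) := by rw [hcomm r hr]
          _ = (y * r) * y := by group
          _ = (r * y) * y := by rw [hcomm r hr]
          _ = r * (y * y) := by group
      have hKK₂ : K₂ ≤ Subgroup.centralizer (K : Set G) := by
        have h4 := orbit_commute P' L hL (y * y) hyy_comm hB
        have h5 : K₂ = ⨆ r : P', cjMap L (y * y * (r : G)) := by
          rw [hK₂, hK₁, Subgroup.map_iSup]
          apply iSup_congr
          intro r
          rw [← cjMap_mul, mul_assoc]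
        rw [h5]
        exact h4
      -- c₂ = t * b with b = t₁⁻¹ t₁⁻¹ t₂ ∈ C(K)
      have hab : (t⁻¹ * (y * t * y⁻¹))⁻¹ * (y * (t⁻¹ * (y * t * y⁻¹)) * y⁻¹) =
          t * ((y * t * y⁻¹)⁻¹ * (y * t * y⁻¹)⁻¹ * (y * (y * t * y⁻¹) * y⁻¹)) := by
        have e : (t⁻¹ * (y * t * y⁻¹))⁻¹ * (y * (t⁻¹ * (y * t * y⁻¹)) * y⁻¹) =
            (y * t * y⁻¹)⁻¹ * t * ((y * t * y⁻¹)⁻¹ * (y * (y * t * y⁻¹) * y⁻¹)) := by group
        rw [e, ← hct'.eq]; group
      have hbC : (y * t * y⁻¹)⁻¹ * (y * t * y⁻¹)⁻¹ * (y * (y * t * y⁻¹) * y⁻¹) ∈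
          Subgroup.centralizer (K : Set G) :=
        Subgroup.mul_mem _ (Subgroup.mul_mem _ (Subgroup.inv_mem _ (hKK₁ ht₁))
          (Subgroup.inv_mem _ (hKK₁ ht₁))) (hKK₂ ht₂)
      have hcab : Commute t
          ((y * t * y⁻¹)⁻¹ * (y * t * y⁻¹)⁻¹ * (y * (y * t * y⁻¹) * y⁻¹)) := by
        have := Subgroup.mem_centralizer_iff.mp hbC _ htK
        exact this
      rw [hab] at hc₂m
      have h5 := pow_eq_inv_pow_of_commute hcab hc₂m
      have h6 : t ^ Nat.card W ∈ K ⊓ Subgroup.centralizer (K : Set G) :=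
        ⟨Subgroup.pow_mem _ htK _, by
          rw [h5]; exact Subgroup.inv_mem _ (Subgroup.pow_mem _ hbC _)⟩
      obtain ⟨m, hm⟩ := exists_pow_pow_eq_self hj hW
      rw [← hm]
      exact Subgroup.pow_mem _ (hA h6) m
  -- Sylow argument in `M = K P'`
  set M : Subgroup G := K ⊔ P' with hM
  have hKM : K ≤ M := le_sup_left
  have hRM : P' ≤ M := le_sup_right
  have hMK : M ≤ Subgroup.normalizer (K : Set G) := sup_le Subgroup.le_normalizer hRK
  have hKn : (K.subgroupOf M).Normal := (Subgroup.normal_subgroupOf_iff_le_normalizer hKM).2 hMK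
  have hR0 : IsPGroup p (P'.subgroupOf M) :=
    hP'p.comap_of_injective M.subtype M.subtype_injective
  have htop : K.subgroupOf M ⊔ P'.subgroupOf M = ⊤ := by
    rw [← Subgroup.subgroupOf_sup hKM hRM, Subgroup.subgroupOf_self]
  have hS := exists_conj_mem_of_pElements p (K.subgroupOf M) (P'.subgroupOf M) hR0 htop (by
    intro k hk hkN ⟨j, hj⟩
    rw [← Subgroup.subgroupOf_normalizer_eq hRM] at hkN
    rw [Subgroup.mem_subgroupOf] at hk hkN ⊢
    refine hα _ hk hkN ⟨j, ?_⟩
    have h' := congrArg Subtype.val hj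
    rw [Subgroup.coe_pow] at h'
    exact h')
  -- final contradiction
  apply component_pElements_not_central p hO L hL
  intro s hs ⟨k, hk⟩
  have hsM : s ∈ M := hKM (hLK hs)
  obtain ⟨g, hg⟩ := hS ⟨s, hsM⟩ ⟨k, by apply Subtype.ext; rw [Subgroup.coe_pow]; exact hk⟩
  rw [Subgroup.mem_subgroupOf] at hg
  have hyR : (g : G) * s * (g : G)⁻¹ ∈ P' := hg
  have hyK : (g : G) * s * (g : G)⁻¹ ∈ K :=
    (Subgroup.mem_normalizer_iff.mp (hMK g.2) s).mp (hLK hs)
  have hyw : y * ((g : G) * s * (g : G)⁻¹) * y⁻¹ = (g : G) * s * (g : G)⁻¹ := by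
    rw [hcomm _ hyR]; group
  have hyC : (g : G) * s * (g : G)⁻¹ ∈ Subgroup.centralizer (K : Set G) := by
    have := hKK₁ (hKw _ hyK)
    rwa [hyw] at this
  have hyZ' : (g : G) * s * (g : G)⁻¹ ∈ pCore p G := hA ⟨hyK, hyC⟩
  have hsZ : s ∈ pCore p G := by
    have h1 := hZn.conj_mem _ hyZ' (g : G)⁻¹
    have h2 : (g : G)⁻¹ * ((g : G) * s * (g : G)⁻¹) * (g : G)⁻¹⁻¹ = s := by group
    rwa [h2] at h1
  have hLZ := Cfsg.Agent.Lib.Helper28.component_centralizes_pCore p hL
  rw [Subgroup.commutator_comm, Subgroup.commutator_eq_bot_iff_le_centralizer] at hLZ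
  exact hLZ hsZ

end thmC2

section assembly

variable {H : Type*} [Group H] [Finite H] {p : ℕ} [hp : Fact p.Prime]

/-- A lift of an element centralizing `O_p(H / O_{p'}(H))` centralizes every normal `p`-subgroup. -/
theorem commute_of_map_centralizes_pCore (Q : Subgroup H) [hQn : Q.Normal] (hQ : IsPGroup p Q)
    (y : H)
    (hy : QuotientGroup.mk' (pPrimeCore p H) y ∈
      Subgroup.centralizer ((pCore p (H ⧸ pPrimeCore p H) : Subgroup (H ⧸ pPrimeCore p H)) :
        Set (H ⧸ pPrimeCore p H))) :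
    ∀ q ∈ Q, y * q = q * y := by
  intro q hq
  set π := QuotientGroup.mk' (pPrimeCore p H) with hπ
  have h1 : Q.map π ≤ pCore p (H ⧸ pPrimeCore p H) :=
    le_sSup ⟨hQn.map π (QuotientGroup.mk'_surjective _), hQ.map π⟩
  have h2 : π q * π y = π y * π q :=
    Subgroup.mem_centralizer_iff.mp hy (π q) (h1 (Subgroup.mem_map_of_mem π hq))
  have h3 : y * q * y⁻¹ * q⁻¹ ∈ pPrimeCore p H := by
    rw [← QuotientGroup.ker_mk' (pPrimeCore p H), MonoidHom.mem_ker]
    show π (y * q * y⁻¹ * q⁻¹) = 1
    rw [map_mul, map_mul, map_mul, map_inv, map_inv, ← h2]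
    group
  have h4 : y * q * y⁻¹ * q⁻¹ ∈ Q :=
    Subgroup.mul_mem _ (hQn.conj_mem q hq y) (Subgroup.inv_mem _ hq)
  have h5 : Q ⊓ pPrimeCore p H = ⊥ :=
    Cfsg.Agent.Lib.Helper15.isPGroup_inf_coprime_eq_bot hQ (pPrimeCore_coprime p)
  have h6 : y * q * y⁻¹ * q⁻¹ ∈ Q ⊓ pPrimeCore p H := ⟨h4, h3⟩
  rw [h5, Subgroup.mem_bot] at h6
  calc y * q = (y * q * y⁻¹ * q⁻¹) * (q * y) := by group
    _ = q * y := by rw [h6, one_mul]

/-- A quasisimple group is generated by its `p'`-elements. -/
theorem pResidual_eq_top_of_qs (hH : IsQuasisimple H) : pResidual p H = ⊤ := by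
  apply Cfsg.Agent.Lib.Helper03.pResidual_eq_top_of_sylow_le_commutator (default : Sylow p H)
  rw [qs_perfect hH]
  exact le_top

end assembly

section S1269

variable {G : Type*} [Group G] [Finite G] {p : ℕ} [hp : Fact p.Prime]

/-- `L_{p'}`-normalization: if `O_{p'}(G) = 1`, `P` is a `p`-subgroup and `N = N_G(P)`, then the
full preimage in `N` of `E(N / O_{p'}(N))` normalizes every component of `G`. -/
theorem localLayer_le_normalizer_component (hO : pPrimeCore p G = ⊥) (P : Subgroup G)
    (hP : IsPGroup p P) (L : Subgroup G) (hL : IsComponent L) :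
    ((layer (↥(Subgroup.normalizer (P : Set G)) ⧸
        pPrimeCore p ↥(Subgroup.normalizer (P : Set G)))).comap
      (QuotientGroup.mk' (pPrimeCore p ↥(Subgroup.normalizer (P : Set G))))).map
        (Subgroup.normalizer (P : Set G)).subtype ≤ Subgroup.normalizer (L : Set G) := by
  classical
  set N : Subgroup G := Subgroup.normalizer (P : Set G) with hN
  set ON : Subgroup ↥N := pPrimeCore p ↥N with hON
  set π := QuotientGroup.mk' ON with hπ
  set W : Subgroup G := ON.map N.subtype with hW
  have hWc : (Nat.card W).Coprime p := by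
    rw [hW, Subgroup.card_map_of_injective (Subgroup.subtype_injective _)]
    exact pPrimeCore_coprime p
  have hWN : W ≤ N := Subgroup.map_subtype_le _
  have hNW : N ≤ Subgroup.normalizer (W : Set G) :=
    Subgroup.le_normalizer.trans (normalizer_le_normalizer_map_pPrimeCore p N)
  have hWL : W ≤ Subgroup.normalizer (L : Set G) :=
    localCore_le_normalizer_component hO P W hP hWN hNW hWc L hL
  set S : Subgroup ↥N := (Subgroup.normalizer (L : Set G)).subgroupOf N with hS
  have hONS : ON ≤ S := by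
    intro o ho
    rw [hS, Subgroup.mem_subgroupOf]
    exact hWL ⟨o, ho, rfl⟩
  -- key claim
  have claim : layer (↥N ⧸ ON) ≤ S.map π := by
    apply Cfsg.Agent.Lib.Helper30.layer_le
    intro J hJ
    -- the normal subgroup `D = E(G) ∩ N` of `N`
    have hDn : ((layer G).subgroupOf N).Normal := Subgroup.Normal.subgroupOf inferInstance N
    have hDS : (layer G).subgroupOf N ≤ S := by
      intro d hd
      rw [hS, Subgroup.mem_subgroupOf]
      rw [Subgroup.mem_subgroupOf] at hd
      exact Cfsg.Agent.Lib.Helper30.layer_le_normalizer hL.1 hd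
    have hDbar : (((layer G).subgroupOf N).map π).Normal :=
      hDn.map π (QuotientGroup.mk'_surjective _)
    rcases Cfsg.Agent.Lib.Helper30.component_normal_dichotomy hJ.1 hJ.2 hDbar with h1 | h1
    · exact h1.trans (Subgroup.map_mono hDS)
    · -- `J` commutes with the image of `D`
      have hres : pResidual p ↥J = ⊤ := pResidual_eq_top_of_qs hJ.2
      intro j hj
      have hjr : (⟨j, hj⟩ : ↥J) ∈ pResidual p ↥J := by rw [hres]; trivial
      unfold pResidual at hjr
      have key : ∀ g : ↥J, g ∈ Subgroup.closure {g : ↥J | Nat.Coprime (orderOf g) p} →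
          (g : ↥N ⧸ ON) ∈ S.map π := by
        intro g hg
        induction hg using Subgroup.closure_induction with
        | one => exact Subgroup.one_mem _
        | mul a b _ _ ha hb => exact Subgroup.mul_mem _ ha hb
        | inv a _ ha => exact Subgroup.inv_mem _ ha
        | mem g hg =>
          have hgo : (orderOf (g : ↥N ⧸ ON)).Coprime p := by
            rw [Subgroup.orderOf_coe]; exact hg
          obtain ⟨y, hy⟩ := QuotientGroup.mk'_surjective ON (g : ↥N ⧸ ON)
          refine ⟨y, ?_, hy⟩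
          show y ∈ (Subgroup.normalizer (L : Set G)).subgroupOf N
          rw [Subgroup.mem_subgroupOf]
          -- apply the generalized normalization theorem to `y`
          have hyJ : π y ∈ J := by rw [hy]; exact g.2
          have hcent : π y ∈ Subgroup.centralizer
              ((pCore p (↥N ⧸ ON) : Subgroup (↥N ⧸ ON)) : Set (↥N ⧸ ON)) := by
            have := Cfsg.Agent.Lib.Helper28.component_centralizes_pCore p hJ
            rw [Subgroup.commutator_eq_bot_iff_le_centralizer] at this
            exact this hyJ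
          -- order of y
          have hyn : (y : G) ^ (orderOf (g : ↥N ⧸ ON) * Nat.card ON) = 1 := by
            have hy' : π y = (g : ↥N ⧸ ON) := hy
            have h2 : y ^ orderOf (g : ↥N ⧸ ON) ∈ ON := by
              apply (QuotientGroup.eq_one_iff _).mp
              show π (y ^ orderOf (g : ↥N ⧸ ON)) = 1
              rw [map_pow, hy']; exact pow_orderOf_eq_one _
            have h3 := pow_card_eq_one_of_mem h2
            rw [← pow_mul] at h3
            have := congrArg Subtype.val h3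
            rw [Subgroup.coe_pow] at this
            exact this
          have hncop : (orderOf (g : ↥N ⧸ ON) * Nat.card ON).Coprime p :=
            Nat.Coprime.mul_left hgo (pPrimeCore_coprime p)
          -- y centralizes P
          have hPn : (P.subgroupOf N).Normal := Subgroup.normal_in_normalizer
          have hPp : IsPGroup p (P.subgroupOf N) :=
            hP.comap_of_injective N.subtype N.subtype_injective
          have hyP : ∀ r ∈ P, (y : G) * r = r * (y : G) := by
            intro r hr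
            have := commute_of_map_centralizes_pCore (P.subgroupOf N) hPp y hcent
              ⟨r, Subgroup.le_normalizer hr⟩ (Subgroup.mem_subgroupOf.mpr hr)
            exact congrArg Subtype.val this
          -- y centralizes O_p(G) ∩ N
          have hZn : ((pCore p G).subgroupOf N).Normal :=
            Subgroup.Normal.subgroupOf (Cfsg.Agent.Lib.Helper76.pCore_normal p) N
          have hZp : IsPGroup p ((pCore p G).subgroupOf N) :=
            (Cfsg.Agent.Lib.Helper76.pCore_isPGroup p).comap_of_injective N.subtype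
              N.subtype_injective
          have hyZN : ∀ z ∈ pCore p G ⊓ N, (y : G) * z = z * (y : G) := by
            intro z hz
            have := commute_of_map_centralizes_pCore ((pCore p G).subgroupOf N) hZp y hcent
              ⟨z, hz.2⟩ (Subgroup.mem_subgroupOf.mpr hz.1)
            exact congrArg Subtype.val this
          -- A × B
          have hycop : ∀ x ∈ Subgroup.zpowers (y : G), (orderOf x).Coprime p := by
            intro x hx
            have h1 : orderOf x ∣ orderOf (y : G) := orderOf_dvd_of_mem_zpowers hx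
            have h2 : orderOf (y : G) ∣ _ := orderOf_dvd_of_pow_eq_one hyn
            exact Nat.Coprime.coprime_dvd_left (h1.trans h2) hncop
          have hzc : ∀ (A : Subgroup G), (∀ a ∈ A, (y : G) * a = a * (y : G)) →
              ⁅Subgroup.zpowers (y : G), A⁆ = ⊥ := by
            intro A hA
            rw [Subgroup.commutator_eq_bot_iff_le_centralizer, Subgroup.zpowers_le,
              Subgroup.mem_centralizer_iff]
            intro a ha
            exact (hA a ha).symm
          have hyZ : ∀ z ∈ pCore p G, (y : G) * z = z * (y : G) := by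
            have h1 := Cfsg.Agent.Lib.Helper28.pClosing_centralizes_pCore P hP
              (Subgroup.zpowers (y : G)) (Cfsg.Agent.Lib.Helper28.pClosing_of_coprime p hycop)
              (hzc P hyP) (hzc _ hyZN)
            rw [Subgroup.commutator_eq_bot_iff_le_centralizer] at h1
            intro z hz
            have := Subgroup.mem_centralizer_iff.mp (h1 (Subgroup.mem_zpowers _)) z hz
            exact this.symm
          -- the commutator condition
          have h3 : ∀ d ∈ layer G ⊓ Subgroup.normalizer (P : Set G),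
              d⁻¹ * ((y : G) * d * (y : G)⁻¹) ∈ W := by
            intro d hd
            have hdD : (⟨d, hd.2⟩ : ↥N) ∈ (layer G).subgroupOf N :=
              Subgroup.mem_subgroupOf.mpr hd.1
            have hc : π ⟨d, hd.2⟩ ∈ Subgroup.centralizer (J : Set (↥N ⧸ ON)) := by
              rw [Subgroup.commutator_comm, Subgroup.commutator_eq_bot_iff_le_centralizer] at h1
              exact h1 (Subgroup.mem_map_of_mem π hdD)
            have hc' : π y * π ⟨d, hd.2⟩ = π ⟨d, hd.2⟩ * π y :=
              Subgroup.mem_centralizer_iff.mp hc (π y) hyJ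
            have h4 : (⟨d, hd.2⟩ : ↥N)⁻¹ * (y * ⟨d, hd.2⟩ * y⁻¹) ∈ ON := by
              apply (QuotientGroup.eq_one_iff _).mp
              show π ((⟨d, hd.2⟩ : ↥N)⁻¹ * (y * ⟨d, hd.2⟩ * y⁻¹)) = 1
              rw [map_mul, map_mul, map_mul, map_inv, map_inv, hc']
              group
            exact ⟨_, h4, rfl⟩
          exact localElement_mem_normalizer_component hO P W hP hWc (y : G) _ hyn hncop hyP hyZ
            h3 L hL
      exact key ⟨j, hj⟩ hjr
  -- conclusion
  rintro _ ⟨x', hx', rfl⟩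
  have hx'' : π x' ∈ layer (↥N ⧸ ON) := hx'
  obtain ⟨s, hs, hsx⟩ := claim hx''
  have h1 : s⁻¹ * x' ∈ ON := by
    apply (QuotientGroup.eq_one_iff _).mp
    show π (s⁻¹ * x') = 1
    rw [map_mul, map_inv, hsx]; group
  have h2 : x' = s * (s⁻¹ * x') := by group
  have h3 : x' ∈ S := by
    rw [h2]; exact Subgroup.mul_mem _ hs (hONS h1)
  exact Subgroup.mem_subgroupOf.mp h3

end S1269

end Cfsg.Agent.Lib.Helper29
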