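import Mathlib
import Cfsg.Prelude.Def_JordanBlocks
import Cfsg.Agent.Lib.Helper73.UCDefs
import Cfsg.Agent.Lib.Helper73.SPCDefs

set_option autoImplicit false

/-!
# K-SPC LEAF C5 (keystone 267614, architect helper73): equivariance of the top blocks

`topBlock_mul_of` takes the statement of leaf C4 (`commute_nilM_entries`) as a hypothesis.
-/

namespace Cfsg.Agent.Lib.Helper29.SPC

open Matrix Cfsg.Agent.Lib.Helper73.UC Cfsg.Agent.Lib.Helper73.SPC

variable {F : Type*} [Field F]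

theorem topC_eq_shankel {t : ℕ} (d : Fin t → ℕ) (hd : ∀ k, 1 ≤ d k) (c : CIdx d → F)
    (l k : Fin t) (h : d l = d k) :
    topC d hd c l k =
      shankel d c ⟨l, ⟨0, hd l⟩⟩ ⟨k, ⟨d k - 1, by have := hd k; omega⟩⟩ := by
  have hk := hd k
  simp only [topC, shankel, hankel, Matrix.of_apply]
  rw [dif_pos h, dif_pos (by rw [h, min_self]; simp; omega)]
  simp

theorem shankel_eq_zero {t : ℕ} (d : Fin t → ℕ) (c : CIdx d → F) (l k : Fin t)
    (b : Fin (d l)) (a : Fin (d k)) (h : ¬ ((b : ℕ) + (a : ℕ) < d l ∧ (b : ℕ) + (a : ℕ) < d k)) :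
    shankel d c ⟨l, b⟩ ⟨k, a⟩ = 0 := by
  simp only [shankel, hankel, Matrix.of_apply]
  rw [dif_neg (by rw [lt_min_iff]; exact h), mul_zero]

theorem topBlock_mul_of {t : ℕ} (d : Fin t → ℕ) (hd : ∀ k, 1 ≤ d k)
    (hC4 : ∀ x : Matrix (JI d) (JI d) F, x * nilM d F = nilM d F * x →
      ∀ (l k : Fin t) (b : Fin (d l)) (a : Fin (d k)),
      x ⟨l, b⟩ ⟨k, a⟩ =
        if h : (a : ℕ) ≤ (b : ℕ) ∧ d l ≤ (b : ℕ) - (a : ℕ) + d k then
          x ⟨l, ⟨(b : ℕ) - (a : ℕ), by have := b.2; omega⟩⟩ ⟨k, ⟨0, by have := a.2; omega⟩⟩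
        else 0)
    (c c' : CIdx d → F)
    (x y : Matrix (JI d) (JI d) F) (hx : x * nilM d F = nilM d F * x)
    (hy : y * nilM d F = nilM d F * y) (h : xᵀ * shankel d c * y = shankel d c') (i : ℕ) :
    topBlock d hd c' i =
      (Matrix.of fun l k : {k : Fin t // d k = i} => x ⟨l.1, ⟨0, hd l.1⟩⟩ ⟨k.1, ⟨0, hd k.1⟩⟩)ᵀ *
        topBlock d hd c i *
      (Matrix.of fun l k : {k : Fin t // d k = i} => y ⟨l.1, ⟨0, hd l.1⟩⟩ ⟨k.1, ⟨0, hd k.1⟩⟩) := by
  classical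
  ext l k
  have hl := l.2
  have hk := k.2
  have hLHS : topBlock d hd c' i l k =
      shankel d c' ⟨l.1, ⟨0, hd l.1⟩⟩ ⟨k.1, ⟨d k.1 - 1, by have := hd k.1; omega⟩⟩ := by
    show topC d hd c' l.1 k.1 = _
    exact topC_eq_shankel d hd c' l.1 k.1 (by omega)
  rw [hLHS, ← h, Matrix.mul_apply, Matrix.mul_apply]
  symm
  apply Finset.sum_of_injOn
    (fun k' : {k : Fin t // d k = i} =>
      (⟨k'.1, ⟨d k'.1 - 1, by have := hd k'.1; omega⟩⟩ : JI d))
  · intro a _ b _ hab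
    exact Subtype.ext (congrArg Sigma.fst hab)
  · intro _ _; exact Finset.mem_coe.mpr (Finset.mem_univ _)
  · rintro ⟨k', a'⟩ _ hq
    have ha' := a'.2
    have hq' : ¬ (d k' = i ∧ (a' : ℕ) + 1 = d k') := by
      rintro ⟨h1, h2⟩
      apply hq
      refine ⟨⟨k', h1⟩, Finset.mem_coe.mpr (Finset.mem_univ _), ?_⟩
      have : (⟨d k' - 1, by omega⟩ : Fin (d k')) = a' := Fin.ext (by simp; omega)
      simp only [this]
    by_cases h2 : (a' : ℕ) + 1 = d k' ∧ i ≤ d k'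
    · -- the `xᵀ B` factor vanishes
      have hz : (xᵀ * shankel d c) ⟨l.1, ⟨0, hd l.1⟩⟩ ⟨k', a'⟩ = 0 := by
        rw [Matrix.mul_apply]
        apply Finset.sum_eq_zero
        rintro ⟨l', b'⟩ _
        have hb' := b'.2
        rw [Matrix.transpose_apply]
        by_cases hb : (b' : ℕ) = 0 ∧ d k' ≤ d l'
        · rw [hC4 x hx, dif_neg (by simp; omega), zero_mul]
        · rw [shankel_eq_zero d c l' k' b' a' (by omega), mul_zero]
      rw [hz, zero_mul]
    · -- the `y` factor vanishes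
      rw [hC4 y hy, dif_neg (by simp; omega), mul_zero]
  · intro k' _
    have hk' := k'.2
    have hk1 := hd k'.1
    have hk1' := hd k.1
    -- the `y` factor
    have hyy : y ⟨k'.1, ⟨d k'.1 - 1, by omega⟩⟩ ⟨k.1, ⟨d k.1 - 1, by omega⟩⟩ =
        y ⟨k'.1, ⟨0, hd k'.1⟩⟩ ⟨k.1, ⟨0, hd k.1⟩⟩ := by
      rw [hC4 y hy, dif_pos (by simp; omega)]
      have : (⟨((⟨d k'.1 - 1, by omega⟩ : Fin (d k'.1)) : ℕ) -
          ((⟨d k.1 - 1, by omega⟩ : Fin (d k.1)) : ℕ), by simp; omega⟩ : Fin (d k'.1)) =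
          ⟨0, hd k'.1⟩ := Fin.ext (by simp; omega)
      rw [this]
    rw [hyy]
    simp only [Matrix.of_apply]
    congr 1
    rw [Matrix.mul_apply, Matrix.mul_apply]
    apply Finset.sum_of_injOn
      (fun l' : {k : Fin t // d k = i} => (⟨l'.1, ⟨0, hd l'.1⟩⟩ : JI d))
    · intro a _ b _ hab
      exact Subtype.ext (congrArg Sigma.fst hab)
    · intro _ _; exact Finset.mem_coe.mpr (Finset.mem_univ _)
    · rintro ⟨l', b'⟩ _ hp
      have hb' := b'.2
      have hp' : ¬ (d l' = i ∧ (b' : ℕ) = 0) := by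
        rintro ⟨h1, h2⟩
        apply hp
        refine ⟨⟨l', h1⟩, Finset.mem_coe.mpr (Finset.mem_univ _), ?_⟩
        have : (⟨0, hd l'⟩ : Fin (d l')) = b' := Fin.ext (by simp; omega)
        simp only [this]
      rw [Matrix.transpose_apply]
      by_cases hb : (b' : ℕ) = 0 ∧ i ≤ d l'
      · rw [hC4 x hx, dif_neg (by simp; omega), zero_mul]
      · rw [shankel_eq_zero d c l' k'.1 b' _ (by simp; omega), mul_zero]
    · intro l' _
      have hl' := l'.2
      rw [Matrix.transpose_apply, Matrix.transpose_apply, Matrix.of_apply]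
      congr 1
      show topC d hd c l'.1 k'.1 = _
      exact topC_eq_shankel d hd c l'.1 k'.1 (by omega)

end Cfsg.Agent.Lib.Helper29.SPC
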