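import Mathlib
import Cfsg.Prelude.Def_Local
import Cfsg.Agent.Lib.Helper28.FStar
import Cfsg.Agent.Lib.Helper30.FStar
import Cfsg.Agent.Lib.Helper30.Components

/-!
# Keystone 292909 K-SylAlt-B0 (`exists_fstar_internal`) for helper6's S2929 pack.
-/

set_option autoImplicit false

namespace Cfsg.Agent.Lib.Helper29.SylAlt

variable {G : Type*} [Group G]

/-- A quasisimple subgroup `K` normalized by `H ≥ K`, and `M ≤ H` normalized by `H`: `K ≤ M` or
`M` centralizes `K`. -/
theorem le_or_commute_aux (H K M : Subgroup G) (hKH : K ≤ H)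
    (hHK : H ≤ Subgroup.normalizer (K : Set G)) (hq : Cfsg.IsQuasisimple ↥K) (hMH : M ≤ H)
    (hHM : H ≤ Subgroup.normalizer (M : Set G)) :
    K ≤ M ∨ ∀ m ∈ M, ∀ k ∈ K, m * k = k * m := by
  obtain ⟨hperf, -, hN⟩ := Cfsg.Agent.Lib.Helper30.qs_subgroup hq
  have hKnM : K ≤ Subgroup.normalizer (M : Set G) := hKH.trans hHM
  have hMnK : M ≤ Subgroup.normalizer (K : Set G) := hMH.trans hHK
  have hKnN : K ≤ Subgroup.normalizer ((M ⊓ K : Subgroup G) : Set G) := by
    intro k hk
    rw [Subgroup.mem_normalizer_iff]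
    intro x
    have h1 := Subgroup.mem_normalizer_iff.mp (hKnM hk) x
    have h2 := Subgroup.mem_normalizer_iff.mp ((hKH.trans hHK) hk) x
    rw [Subgroup.mem_inf, Subgroup.mem_inf, h1, h2]
  rcases hN (M ⊓ K) inf_le_right hKnN with h | h
  · left
    rw [← h]
    exact inf_le_left
  · right
    have hMK : ⁅M, K⁆ ≤ M ⊓ K := by
      rw [Subgroup.commutator_le]
      intro m hm k hk
      rw [commutatorElement_def]
      refine ⟨?_, ?_⟩
      · -- m * (k m⁻¹ k⁻¹) ∈ M
        have := (Subgroup.mem_normalizer_iff.mp (hKnM hk) m⁻¹).mp (M.inv_mem hm)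
        have e : m * k * m⁻¹ * k⁻¹ = m * (k * m⁻¹ * k⁻¹) := by
          simp [mul_assoc]
        rw [e]
        exact M.mul_mem hm this
      · have := (Subgroup.mem_normalizer_iff.mp (hMnK hm) k).mp hk
        exact K.mul_mem this (K.inv_mem hk)
    have h1 : ⁅⁅M, K⁆, K⁆ = ⊥ := by
      rw [Subgroup.commutator_eq_bot_iff_le_centralizer]
      exact hMK.trans h
    have h2 : ⁅⁅K, M⁆, K⁆ = ⊥ := by
      rw [Subgroup.commutator_comm K M]; exact h1
    have h3 : ⁅⁅K, K⁆, M⁆ = ⊥ := Subgroup.commutator_commutator_eq_bot_of_rotate h2 h1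
    rw [hperf, Subgroup.commutator_comm, Subgroup.commutator_eq_bot_iff_le_centralizer] at h3
    intro m hm k hk
    exact (Subgroup.mem_centralizer_iff.mp (h3 hm) k hk).symm

/-- a quasisimple subgroup is not commutative -/
theorem not_comm_of_qs {L : Subgroup G} (hq : Cfsg.IsQuasisimple ↥L) :
    ¬ ∀ a ∈ L, ∀ b ∈ L, a * b = b * a := by
  intro hc
  obtain ⟨hperf, hne, -⟩ := Cfsg.Agent.Lib.Helper30.qs_subgroup hq
  apply hne
  rw [← hperf, Subgroup.commutator_eq_bot_iff_le_centralizer]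
  intro a ha
  rw [Subgroup.mem_centralizer_iff]
  intro b hb
  exact hc b hb a ha

/-- **K-SylAlt-B0.** -/
theorem exists_fstar_internal [Finite G] (H : Subgroup G)
    (hF : Cfsg.IsQuasisimple ↥(Cfsg.generalizedFittingSubgroup ↥H)) :
    ∃ K : Subgroup G, K ≤ H ∧ H ≤ Subgroup.normalizer (K : Set G) ∧ Cfsg.IsQuasisimple ↥K ∧
      Nonempty (↥(Cfsg.generalizedFittingSubgroup ↥H) ≃* ↥K) ∧
      (∀ h ∈ H, (∀ k ∈ K, h * k = k * h) → h ∈ K) ∧
      (∀ L M : Subgroup G, L ≤ M → M ≤ H → H ≤ Subgroup.normalizer (M : Set G) →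
        M ≤ Subgroup.normalizer (L : Set G) → Cfsg.IsQuasisimple ↥L → L = K) := by
  set K : Subgroup G := (Cfsg.generalizedFittingSubgroup ↥H).map H.subtype with hK
  have hKH : K ≤ H := Subgroup.map_subtype_le _
  have e : ↥(Cfsg.generalizedFittingSubgroup ↥H) ≃* ↥K :=
    Subgroup.equivMapOfInjective _ H.subtype H.subtype_injective
  have hKq : Cfsg.IsQuasisimple ↥K := Cfsg.Agent.Lib.Helper30.isQuasisimple_of_mulEquiv e hF
  have hHK : H ≤ Subgroup.normalizer (K : Set G) := by
    intro h hh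
    rw [Subgroup.mem_normalizer_iff]
    intro x
    constructor
    · rintro ⟨y, hy, rfl⟩
      refine ⟨⟨h, hh⟩ * y * ⟨h, hh⟩⁻¹, ?_, rfl⟩
      exact Subgroup.Normal.conj_mem inferInstance y hy ⟨h, hh⟩
    · rintro ⟨y, hy, hyx⟩
      refine ⟨⟨h, hh⟩⁻¹ * y * ⟨h, hh⟩, ?_, ?_⟩
      · have := Subgroup.Normal.conj_mem (inferInstance : (Cfsg.generalizedFittingSubgroup ↥H).Normal)
          y hy (⟨h, hh⟩⁻¹)
        simpa using this
      · have : (H.subtype y : G) = h * x * h⁻¹ := hyx
        simp only [map_mul, map_inv, Subgroup.subtype_apply] at this ⊢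
        rw [this]
        group
  have hcent : ∀ h ∈ H, (∀ k ∈ K, h * k = k * h) → h ∈ K := by
    intro h hh hc
    have hmem : (⟨h, hh⟩ : ↥H) ∈ Subgroup.centralizer
        (Cfsg.generalizedFittingSubgroup ↥H : Set ↥H) := by
      rw [Subgroup.mem_centralizer_iff]
      intro y hy
      apply Subtype.ext
      exact (hc (y : G) ⟨y, hy, rfl⟩).symm
    exact ⟨⟨h, hh⟩, Cfsg.Agent.Lib.Helper28.centralizer_genFitting_le hmem, rfl⟩
  refine ⟨K, hKH, hHK, hKq, ⟨e⟩, hcent, ?_⟩
  intro L M hLM hMH hHM hML hLq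
  have hLH : L ≤ H := hLM.trans hMH
  -- K ≤ M
  have hKM : K ≤ M := by
    rcases le_or_commute_aux H K M hKH hHK hKq hMH hHM with h | h
    · exact h
    · exfalso
      have hMK : M ≤ K := fun m hm => hcent m (hMH hm) (fun k hk => h m hm k hk)
      apply not_comm_of_qs hLq
      intro a ha b hb
      exact h a (hLM ha) b (hMK (hLM hb))
  -- inside `M`
  have hMK' : M ≤ Subgroup.normalizer (K : Set G) := hMH.trans hHK
  have hKL : K ≤ L := by
    rcases le_or_commute_aux M K L hKM hMK' hKq hLM hML with h | h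
    · exact h
    · exfalso
      have hLK : L ≤ K := fun l hl => hcent l (hLH hl) (fun k hk => h l hl k hk)
      apply not_comm_of_qs hLq
      intro a ha b hb
      exact h a ha b (hLK hb)
  have hLK : L ≤ K := by
    rcases le_or_commute_aux M L K hLM hML hLq hKM hMK' with h | h
    · exact h
    · exfalso
      apply not_comm_of_qs hKq
      intro a ha b hb
      exact h a ha b (hKL hb)
  exact le_antisymm hLK hKL

end Cfsg.Agent.Lib.Helper29.SylAlt
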