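import Mathlib
import Cfsg.Prelude.Def_Local
import Cfsg.Agent.Lib.Helper06.SylAlt.Defs
import Cfsg.Agent.Lib.Helper06.SylTwo.Defs
import Cfsg.Agent.Lib.Helper30.Components
import Cfsg.Agent.Lib.Helper64.MarggrafC

/-!
# Keystone 292822 K-SylTwo-F (`altOn_le_of_ncard_eight`) for helper6's S2928 pack.

`altOn_le_of_ncard_eight_of` is the leaf with the 8-point theorem `a8_main` as a hypothesis (`hmain`).
-/

set_option autoImplicit false

namespace Cfsg.Agent.Lib.Helper29.SylTwo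

open Equiv Equiv.Perm MulAction
open Cfsg.Agent.Lib.Helper06.SylAlt Cfsg.Agent.Lib.Helper06.SylTwo
open Cfsg.Agent.Lib.Helper64.Marggraf (IsJ)

universe u

variable {α : Type u} [Fintype α] [DecidableEq α]

theorem inv_app (f : Perm α) (x : α) : f⁻¹ (f x) = x := f.symm_apply_apply x

theorem app_inv (f : Perm α) (x : α) : f (f⁻¹ x) = x := f.apply_symm_apply x

/-- points outside `supp K` are fixed by `K` -/
theorem fix_of_notMem_suppSet {K : Subgroup (Perm α)} {x : α} (hx : x ∉ suppSet K) {k : Perm α}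
    (hk : k ∈ K) : k x = x := by
  by_contra h
  exact hx ⟨k, hk, h⟩

/-- the normalizer of `K` stabilizes `supp K` -/
theorem apply_mem_suppSet {H K : Subgroup (Perm α)} (hHK : H ≤ Subgroup.normalizer (K : Set (Perm α)))
    {h : Perm α} (hh : h ∈ H) {x : α} (hx : x ∈ suppSet K) : h x ∈ suppSet K := by
  obtain ⟨k, hk, hkx⟩ := hx
  refine ⟨h * k * h⁻¹, (Subgroup.mem_normalizer_iff.mp (hHK hh) k).mp hk, ?_⟩
  simp only [Perm.mul_apply, inv_app]
  intro hEq
  exact hkx (h.injective hEq)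

theorem apply_notMem_suppSet {H K : Subgroup (Perm α)} (hHK : H ≤ Subgroup.normalizer (K : Set (Perm α)))
    {h : Perm α} (hh : h ∈ H) {x : α} (hx : x ∉ suppSet K) : h x ∉ suppSet K := by
  intro hx'
  have := apply_mem_suppSet hHK (H.inv_mem hh) hx'
  rw [inv_app] at this
  exact hx this

/-- the action of `H` on `supp K` -/
@[reducible] def actOn (H K : Subgroup (Perm α)) (hHK : H ≤ Subgroup.normalizer (K : Set (Perm α))) :
    MulAction ↥H ↥(suppSet K) where
  smul h x := ⟨(h : Perm α) x, apply_mem_suppSet hHK h.2 x.2⟩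
  one_smul x := Subtype.ext rfl
  mul_smul g h x := Subtype.ext rfl

/-- an element of `H` fixing `supp K` pointwise is trivial -/
theorem eq_one_of_fix {H K : Subgroup (Perm α)} (hKH : K ≤ H)
    (hHK : H ≤ Subgroup.normalizer (K : Set (Perm α)))
    (hcent : ∀ h ∈ H, (∀ k ∈ K, h * k = k * h) → h ∈ K) {h : Perm α} (hh : h ∈ H)
    (hfix : ∀ x ∈ suppSet K, h x = x) : h = 1 := by
  have hK : h ∈ K := by
    apply hcent h hh
    intro k hk
    ext x
    simp only [Perm.mul_apply]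
    by_cases hx : x ∈ suppSet K
    · rw [hfix x hx, hfix _ (apply_mem_suppSet hHK (hKH hk) hx)]
    · rw [fix_of_notMem_suppSet hx hk, fix_of_notMem_suppSet (apply_notMem_suppSet hHK hh hx) hk]
  ext x
  by_cases hx : x ∈ suppSet K
  · simpa using hfix x hx
  · simpa using fix_of_notMem_suppSet hx hK

section klein
variable {a b c d : α}

theorem klein_fix {z : α} (hza : z ≠ a) (hzb : z ≠ b) (hzc : z ≠ c) (hzd : z ≠ d) {v : Perm α}
    (hv : v ∈ klein a b c d) : v z = z := by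
  have hle : klein a b c d ≤ MulAction.stabilizer (Perm α) z := by
    unfold klein
    rw [Subgroup.closure_le]
    rintro g (rfl | rfl)
    · simp only [SetLike.mem_coe, MulAction.mem_stabilizer_iff, Perm.smul_def, Perm.mul_apply]
      rw [swap_apply_of_ne_of_ne hzc hzd, swap_apply_of_ne_of_ne hza hzb]
    · simp only [SetLike.mem_coe, MulAction.mem_stabilizer_iff, Perm.smul_def, Perm.mul_apply]
      rw [swap_apply_of_ne_of_ne hzb hzd, swap_apply_of_ne_of_ne hza hzc]
  exact hle hv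

theorem klein_from_a (hab : a ≠ b) (hac : a ≠ c) (had : a ≠ d) (hbc : b ≠ c) (hbd : b ≠ d) (hcd : c ≠ d)
    {x : α} (hx : x = a ∨ x = b ∨ x = c ∨ x = d) : ∃ v ∈ klein a b c d, v a = x := by
  have h1 : swap a b * swap c d ∈ klein a b c d := Subgroup.subset_closure (by simp)
  have h2 : swap a c * swap b d ∈ klein a b c d := Subgroup.subset_closure (by simp)
  rcases hx with rfl | rfl | rfl | rfl
  · exact ⟨1, one_mem _, rfl⟩
  · refine ⟨_, h1, ?_⟩
    rw [Perm.mul_apply, swap_apply_of_ne_of_ne hac had, swap_apply_left]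
  · refine ⟨_, h2, ?_⟩
    rw [Perm.mul_apply, swap_apply_of_ne_of_ne hab had, swap_apply_left]
  · refine ⟨_, mul_mem h1 h2, ?_⟩
    simp only [Perm.mul_apply]
    rw [swap_apply_of_ne_of_ne hab had, swap_apply_left, swap_apply_left,
      swap_apply_of_ne_of_ne had.symm hbd.symm]

theorem klein_trans (hab : a ≠ b) (hac : a ≠ c) (had : a ≠ d) (hbc : b ≠ c) (hbd : b ≠ d) (hcd : c ≠ d)
    {x y : α} (hx : x = a ∨ x = b ∨ x = c ∨ x = d) (hy : y = a ∨ y = b ∨ y = c ∨ y = d) :
    ∃ v ∈ klein a b c d, v x = y := by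
  obtain ⟨vx, hvx, hx'⟩ := klein_from_a hab hac had hbc hbd hcd hx
  obtain ⟨vy, hvy, hy'⟩ := klein_from_a hab hac had hbc hbd hcd hy
  refine ⟨vy * vx⁻¹, mul_mem hvy (inv_mem hvx), ?_⟩
  rw [Perm.mul_apply, ← hx', inv_app, hy']

/-- the points moved by the Klein four-group -/
theorem klein_moved_iff (hab : a ≠ b) (hac : a ≠ c) (had : a ≠ d) (hbc : b ≠ c) (hbd : b ≠ d) (hcd : c ≠ d)
    (z : α) : (∃ v ∈ klein a b c d, v z ≠ z) ↔ z = a ∨ z = b ∨ z = c ∨ z = d := by
  constructor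
  · rintro ⟨v, hv, hvz⟩
    by_contra hz
    simp only [not_or] at hz
    exact hvz (klein_fix hz.1 hz.2.1 hz.2.2.1 hz.2.2.2 hv)
  · intro hz
    have hy : ∃ y, (y = a ∨ y = b ∨ y = c ∨ y = d) ∧ y ≠ z := by
      by_cases hza : z = a
      · exact ⟨b, Or.inr (Or.inl rfl), by rw [hza]; exact hab.symm⟩
      · exact ⟨a, Or.inl rfl, fun h => hza h.symm⟩
    obtain ⟨y, hy, hyz⟩ := hy
    obtain ⟨v, hv, hvz⟩ := klein_trans hab hac had hbc hbd hcd hz hy
    exact ⟨v, hv, by rw [hvz]; exact hyz⟩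

theorem ncard_four (hab : a ≠ b) (hac : a ≠ c) (had : a ≠ d) (hbc : b ≠ c) (hbd : b ≠ d) (hcd : c ≠ d) :
    ({a, b, c, d} : Set α).ncard = 4 := by
  rw [Set.ncard_insert_of_notMem (by simp [hab, hac, had]),
    Set.ncard_insert_of_notMem (by simp [hbc, hbd]), Set.ncard_pair hcd]

end klein

/-- **K-SylTwo-F**, with the 8-point theorem as a hypothesis. -/
theorem altOn_le_of_ncard_eight_of
    (hmain : ∀ (M β : Type u) [Group M] [Finite M] [MulAction M β] [FaithfulSMul M β] [Fintype β]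
      [DecidableEq β], Fintype.card β = 8 → ∀ (K : Subgroup M) [K.Normal], Cfsg.IsQuasisimple ↥K →
      Subgroup.centralizer (K : Set M) ≤ K → ∀ B : Set β, B.ncard = 4 → IsJ M B → 64 ∣ Nat.card M →
      ∀ σ : Perm β, Perm.sign σ = 1 → ∃ k ∈ K, MulAction.toPerm k = σ)
    (H K V T : Subgroup (Perm α)) (hKH : K ≤ H)
    (hHK : H ≤ Subgroup.normalizer (K : Set (Perm α))) (hq : Cfsg.IsQuasisimple ↥K)
    (hcent : ∀ h ∈ H, (∀ k ∈ K, h * k = k * h) → h ∈ K) (h8 : (suppSet K).ncard = 8) (hV : IsKlein V)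
    (hVH : V ≤ H) (hVs : ∀ v ∈ V, ∀ x, x ∉ suppSet K → v x = x) (hTH : T ≤ H) (h64 : 64 ∣ Nat.card ↥T) :
    altOn (suppSet K) ≤ K := by
  classical
  letI : MulAction ↥H ↥(suppSet K) := actOn H K hHK
  have hsmul : ∀ (h : ↥H) (x : ↥(suppSet K)), ((h • x : ↥(suppSet K)) : α) = (h : Perm α) x :=
    fun _ _ => rfl
  haveI : FaithfulSMul ↥H ↥(suppSet K) := ⟨by
    intro h₁ h₂ hh
    have h1 : (h₂ : Perm α)⁻¹ * (h₁ : Perm α) = 1 := by
      apply eq_one_of_fix hKH hHK hcent (H.mul_mem (H.inv_mem h₂.2) h₁.2)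
      intro x hx
      have := congrArg Subtype.val (hh ⟨x, hx⟩)
      rw [hsmul, hsmul] at this
      simp only [Perm.mul_apply]
      rw [this, inv_app]
    apply Subtype.ext
    have h2 : (h₁ : Perm α) = (h₂ : Perm α) * ((h₂ : Perm α)⁻¹ * (h₁ : Perm α)) := by group
    rw [h2, h1, mul_one]⟩
  haveI : (K.subgroupOf H).Normal := Subgroup.normal_subgroupOf_of_le_normalizer hHK
  have hq' : Cfsg.IsQuasisimple ↥(K.subgroupOf H) :=
    Cfsg.Agent.Lib.Helper30.isQuasisimple_of_mulEquiv (Subgroup.subgroupOfEquivOfLe hKH).symm hq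
  have hcent' : Subgroup.centralizer ((K.subgroupOf H : Subgroup ↥H) : Set ↥H) ≤ K.subgroupOf H := by
    intro h hh
    rw [Subgroup.mem_subgroupOf]
    apply hcent _ h.2
    intro k hk
    have := hh ⟨k, hKH hk⟩ (by simpa [Subgroup.mem_subgroupOf] using hk)
    exact (congrArg Subtype.val this).symm
  have h8' : Fintype.card ↥(suppSet K) = 8 := by
    rw [← Nat.card_eq_fintype_card, Nat.card_coe_set_eq, h8]
  have h64' : 64 ∣ Nat.card ↥H := h64.trans (Subgroup.card_dvd_of_le hTH)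
  obtain ⟨a, b, c, d, hab, hac, had, hbc, hbd, hcd, rfl⟩ := hV
  -- the Jordan set
  have hS : ({a, b, c, d} : Set α) ⊆ suppSet K := by
    intro z hz
    by_contra hz'
    obtain ⟨v, hv, hvz⟩ := (klein_moved_iff hab hac had hbc hbd hcd z).mpr (by simpa using hz)
    exact hvz (hVs v hv z hz')
  set B : Set ↥(suppSet K) := {x | ∃ v ∈ klein a b c d, v (x : α) ≠ (x : α)} with hBdef
  have hBeq : B = Subtype.val ⁻¹' ({a, b, c, d} : Set α) := by
    ext x
    simp only [hBdef, Set.mem_ofPred_eq, Set.mem_preimage, Set.mem_insert_iff, Set.mem_singleton_iff]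
    exact klein_moved_iff hab hac had hbc hbd hcd (x : α)
  have hB4 : B.ncard = 4 := by
    rw [hBeq, Set.ncard_preimage_of_injective_subset_range Subtype.val_injective
      (by rw [Subtype.range_coe]; exact hS)]
    exact ncard_four hab hac had hbc hbd hcd
  have hJ : IsJ ↥H B := by
    intro x hx y hy
    have hx' : (x : α) = a ∨ (x : α) = b ∨ (x : α) = c ∨ (x : α) = d :=
      (klein_moved_iff hab hac had hbc hbd hcd (x : α)).mp hx
    have hy' : (y : α) = a ∨ (y : α) = b ∨ (y : α) = c ∨ (y : α) = d :=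
      (klein_moved_iff hab hac had hbc hbd hcd (y : α)).mp hy
    obtain ⟨v, hv, hvxy⟩ := klein_trans hab hac had hbc hbd hcd hx' hy'
    refine ⟨⟨v, hVH hv⟩, ?_, Subtype.ext (by rw [hsmul]; exact hvxy)⟩
    intro z hz
    apply Subtype.ext
    rw [hsmul]
    by_contra hne
    exact hz ⟨v, hv, hne⟩
  -- conclusion
  intro τ hτ
  obtain ⟨hτalt, hτfix⟩ := mem_altOn.mp hτ
  have hτΔ : ∀ x, τ x ∈ suppSet K ↔ x ∈ suppSet K := by
    intro x
    constructor
    · intro hx
      by_contra hx'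
      rw [hτfix x hx'] at hx
      exact hx' hx
    · intro hx
      by_contra hx'
      have h2 : τ x = x := τ.injective (hτfix (τ x) hx')
      rw [h2] at hx'
      exact hx' hx
  have hσ : Perm.sign (τ.subtypePerm hτΔ) = 1 := by
    rw [sign_subtypePerm τ hτΔ (fun x hx => by
      by_contra hx'
      exact hx (hτfix x hx'))]
    exact mem_alternatingGroup.mp hτalt
  obtain ⟨k, hk, hkσ⟩ := hmain ↥H ↥(suppSet K) h8' (K.subgroupOf H) hq' hcent' B hB4 hJ h64'
    (τ.subtypePerm hτΔ) hσ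
  have hkK : (k : Perm α) ∈ K := Subgroup.mem_subgroupOf.mp hk
  have hkτ : (k : Perm α) = τ := by
    ext x
    by_cases hx : x ∈ suppSet K
    · have := congrArg (fun f : Perm ↥(suppSet K) => ((f ⟨x, hx⟩ : ↥(suppSet K)) : α)) hkσ
      simpa [MulAction.toPerm_apply, hsmul] using this
    · rw [fix_of_notMem_suppSet hx hkK, hτfix x hx]
  rw [← hkτ]
  exact hkK

end Cfsg.Agent.Lib.Helper29.SylTwo
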