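import Mathlib
import Cfsg.Prelude.Def_GeometricClasses
import Cfsg.Agent.Lib.Helper61.AschDefs

/-!
K-S5630-B1 (keystone 203, architect helper61): a subalgebra `A` of `M_n(F)` for which `F^n` is a semisimple
isotypic `A`-module is a simple ring.
-/

set_option autoImplicit false

namespace Cfsg.Agent.Lib.Helper29.Asch

open Cfsg Cfsg.Geo Cfsg.Agent.Lib.Helper61.Asch
open scoped Matrix Kronecker MatrixGroups

variable {F : Type*} [Field F] [Fintype F] {n : ℕ}

/-- The `A`-linear embedding `a ↦ (columns of a)` of `A` into `(F^n)^n`. -/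
noncomputable def colEmb (A : Subalgebra F (Matrix (Fin n) (Fin n) F)) :
    A →ₗ[A] (Fin n → (Fin n → F)) where
  toFun a := fun i => a • (Pi.single i (1 : F) : Fin n → F)
  map_add' a b := by
    funext i
    simp [add_smul]
  map_smul' c a := by
    funext i
    simp [mul_smul]

omit [Fintype F] in
theorem colEmb_injective (A : Subalgebra F (Matrix (Fin n) (Fin n) F)) :
    Function.Injective (colEmb A) := by
  intro a b hab
  apply Subtype.ext
  ext i j
  have h := congrFun (congrFun hab j) i
  have ha : (a • (Pi.single j (1 : F) : Fin n → F)) = (a : Matrix (Fin n) (Fin n) F) *ᵥ Pi.single j 1 := rfl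
  have hb : (b • (Pi.single j (1 : F) : Fin n → F)) = (b : Matrix (Fin n) (Fin n) F) *ᵥ Pi.single j 1 := rfl
  simp only [colEmb, LinearMap.coe_mk, AddHom.coe_mk] at h
  rw [ha, hb, Matrix.mulVec_single_one, Matrix.mulVec_single_one] at h
  simpa using h

/-- A finite power of an isotypic module is isotypic (of the same type). -/
theorem isIsotypicOfType_pi {R : Type*} [Ring R] {M S : Type*} [AddCommGroup M] [Module R M]
    [AddCommGroup S] [Module R S] {ι : Type*} (h : IsIsotypicOfType R M S) :
    IsIsotypicOfType R (ι → M) S := by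
  intro m hm
  have hnt : Nontrivial m := IsSimpleModule.nontrivial R m
  obtain ⟨x, hx⟩ := exists_ne (0 : m)
  have hx' : (x : ι → M) ≠ 0 := fun h0 => hx (Subtype.ext h0)
  obtain ⟨i, hi⟩ : ∃ i, (x : ι → M) i ≠ 0 := by
    by_contra hcon
    push Not at hcon
    exact hx' (funext hcon)
  let π : m →ₗ[R] M := (LinearMap.proj i).comp m.subtype
  have hπ : Function.Injective π := by
    rcases LinearMap.injective_or_eq_zero π with h1 | h1
    · exact h1
    · exfalso
      apply hi
      have := LinearMap.congr_fun h1 x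
      simpa [π] using this
  let e : m ≃ₗ[R] LinearMap.range π := LinearEquiv.ofInjective π hπ
  have : IsSimpleModule R (LinearMap.range π) := IsSimpleModule.congr e.symm
  obtain ⟨e2⟩ := h (LinearMap.range π)
  exact ⟨e.trans e2⟩

/-- K-S5630-B1. -/
theorem isSimpleRing_of_isIsotypic (A : Subalgebra F (Matrix (Fin n) (Fin n) F)) (hn : 0 < n)
    (hss : IsSemisimpleModule A (Fin n → F)) (hiso : IsIsotypic A (Fin n → F)) : IsSimpleRing A := by
  have : NeZero n := ⟨hn.ne'⟩
  have hss' : IsSemisimpleRing A := IsSemisimpleModule.of_injective (colEmb A) (colEmb_injective A)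
  have hntV : Nontrivial (Fin n → F) := inferInstance
  obtain ⟨S, hS⟩ := IsAtomic.exists_atom (Submodule A (Fin n → F))
  rw [← isSimpleModule_iff_isAtom] at hS
  have hT : IsIsotypicOfType A (Fin n → F) S := hiso S
  have hT' : IsIsotypicOfType A (Fin n → (Fin n → F)) S := isIsotypicOfType_pi hT
  have hA : IsIsotypicOfType A A S := hT'.of_injective (colEmb A) (colEmb_injective A)
  have hnt : Nontrivial A := inferInstance
  exact (isSimpleRing_isArtinianRing_iff.mpr ⟨hss', hA.isIsotypic, hnt⟩).1

end Cfsg.Agent.Lib.Helper29.Asch
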