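import Mathlib
import Cfsg.Prelude.Def_GeometricClasses
import Cfsg.Agent.Lib.Helper61.AschDefs

/-!
K-S5630-B3 (keystone 205, architect helper61): a central simple subalgebra of `M_n(F)`, `F` a finite field,
is a full matrix algebra over `F`.
-/

set_option autoImplicit false

namespace Cfsg.Agent.Lib.Helper29.Asch

open Cfsg Cfsg.Geo Cfsg.Agent.Lib.Helper61.Asch
open scoped Matrix Kronecker MatrixGroups

variable {F : Type*} [Field F] [Fintype F] {n : ℕ}

/-- K-S5630-B3. -/
theorem exists_algEquiv_matrix_of_center_eq_bot (A : Subalgebra F (Matrix (Fin n) (Fin n) F))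
    [IsSimpleRing A] (hc : Subalgebra.center F A = ⊥) :
    ∃ a : ℕ, 0 < a ∧ Nonempty (Matrix (Fin a) (Fin a) F ≃ₐ[F] A) := by
  have : Module.Finite F A := inferInstance
  have : IsArtinianRing A := IsArtinianRing.of_finite F A
  obtain ⟨a, ha, D, hD, hAlg, hfin, ⟨e⟩⟩ :=
    IsSimpleRing.exists_algEquiv_matrix_divisionRing_finite F A
  have : Finite D := Module.finite_of_finite F
  have hcomm : ∀ x y : D, x * y = y * x := fun x y => by
    let _ := littleWedderburn D
    exact mul_comm x y
  have hinj : Function.Injective (algebraMap F D) := (algebraMap F D).injective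
  have hsurj : Function.Surjective (algebraMap F D) := by
    intro d
    set M : Matrix (Fin a) (Fin a) D := Matrix.scalar (Fin a) d with hM
    have hMc : ∀ N : Matrix (Fin a) (Fin a) D, N * M = M * N := fun N =>
      ((Matrix.scalar_commute d (fun r' => hcomm d r') N).eq).symm
    have hmem : e.symm M ∈ Subalgebra.center F A := by
      rw [Subalgebra.mem_center_iff]
      intro x
      have hx : x = e.symm (e x) := (e.symm_apply_apply x).symm
      rw [hx, ← map_mul, ← map_mul, hMc]
    rw [hc, Algebra.mem_bot] at hmem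
    obtain ⟨c, hcM⟩ := hmem
    refine ⟨c, ?_⟩
    have h1 : e (algebraMap F A c) = M := by rw [hcM, e.apply_symm_apply]
    rw [e.commutes] at h1
    have h2 := congrFun (congrFun h1 (0 : Fin a)) (0 : Fin a)
    simpa [hM, Matrix.algebraMap_matrix_apply] using h2
  let φ : F ≃ₐ[F] D := AlgEquiv.ofBijective (Algebra.ofId F D) ⟨hinj, hsurj⟩
  exact ⟨a, Nat.pos_of_ne_zero (NeZero.ne a), ⟨(e.trans (AlgEquiv.mapMatrix φ.symm)).symm⟩⟩

end Cfsg.Agent.Lib.Helper29.Asch
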