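import Cfsg.Agent.Lib.Helper38.OhP.Defs

/-!
# Keystone 597405 K-OhP-S1 (`type_of_le_V1_q`) for helper38's S5974 pack: dimension and type of the invariant
nondegenerate subspaces of `V1` (port of `Cfsg.Agent.Lib.Helper98.Oh.type_of_le_V1`).

`type_of_le_V1_q_of` takes the leaves A (`plusQ_sup_iff`), C1 (`exists_min_nonDeg_q`), C2 (`plusQ_iff_of_min`) as
hypotheses (for the fixed `Q`, `r`, `y`).
-/

set_option autoImplicit false
set_option linter.unusedSimpArgs false
set_option linter.unusedSectionVars false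
set_option linter.unusedVariables false

namespace Cfsg.Agent.Lib.Helper29.OhP

open Module Cfsg.Agent.Lib.Helper98.Elus Cfsg.Agent.Lib.Helper98.Sy Cfsg.Agent.Lib.Helper38.OhP

universe u
variable {F : Type u} [Field F] {V : Type u} [AddCommGroup V] [Module F V]

/-- LEAF S1 with the leaves A, C1, C2 as hypotheses. -/
theorem type_of_le_V1_q_of [Fintype F] [FiniteDimensional F V] (Q : QuadraticForm F V)
    (p f : ℕ) [Fact p.Prime] (hF : Fintype.card F = p ^ f)
    (r : ℕ) [Fact r.Prime] (hpr : p ≠ r) (y : V →ₗ[F] V)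
    (hy : y ^ r = 1) (hiso : QIso Q y)
    (hA : ∀ W1 W2 : Submodule F V, NonDeg (pB Q) W1 → NonDeg (pB Q) W2 → Ort (pB Q) W1 W2 →
      Even (finrank F W1) → Even (finrank F W2) → (PlusQ Q (W1 ⊔ W2) ↔ (PlusQ Q W1 ↔ PlusQ Q W2)))
    (hC1 : ∀ U : Submodule F V, U ≤ V1 r y → Inv y U → NonDeg (pB Q) U → U ≠ ⊥ →
      ∃ W : Submodule F V, W ≤ U ∧ Inv y W ∧ NonDeg (pB Q) W ∧
        finrank F W = cOf (orderOf ((Fintype.card F : ℕ) : ZMod r)))
    (hC2 : ∀ W : Submodule F V, W ≤ V1 r y → Inv y W → NonDeg (pB Q) W →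
      finrank F W = cOf (orderOf ((Fintype.card F : ℕ) : ZMod r)) →
      (PlusQ Q W ↔ Odd (orderOf ((Fintype.card F : ℕ) : ZMod r))))
    (U : Submodule F V) (hUV1 : U ≤ V1 r y) (hU : Inv y U) (hUnd : NonDeg (pB Q) U) :
    cOf (orderOf ((Fintype.card F : ℕ) : ZMod r)) ∣ finrank F U ∧
      (PlusQ Q U ↔ tPlus (orderOf ((Fintype.card F : ℕ) : ZMod r))
        (finrank F U / cOf (orderOf ((Fintype.card F : ℕ) : ZMod r)))) := by
  have hr : r.Prime := Fact.out
  have hR := Cfsg.Agent.Lib.Helper98.Os.isRefl_of_symm (pB_symm Q)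
  set i := orderOf ((Fintype.card F : ℕ) : ZMod r) with hi
  set c := cOf i with hc
  have hc1 : 1 ≤ c := cOf_pos _ (orderOf_card_pos p f hF r hpr)
  have hce : Even c := cOf_even _
  suffices H : ∀ n : ℕ, ∀ U : Submodule F V, finrank F U = n → U ≤ V1 r y → Inv y U →
      NonDeg (pB Q) U → c ∣ n ∧ (PlusQ Q U ↔ tPlus i (n / c)) from
    H (finrank F U) U rfl hUV1 hU hUnd
  intro n
  induction n using Nat.strong_induction_on with
  | _ n ih =>
    intro U hUd hUV1 hU hUnd
    by_cases hU0 : U = ⊥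
    · rw [hU0, finrank_bot] at hUd
      subst hUd
      refine ⟨dvd_zero _, ?_⟩
      rw [hU0]
      constructor
      · intro _
        right
        simp
      · intro _
        exact plusQ_bot Q
    · obtain ⟨W, hWU, hW, hWnd, hWd⟩ := hC1 U hUV1 hU hUnd hU0
      have hWV1 : W ≤ V1 r y := le_trans hWU hUV1
      have hWtype := hC2 W hWV1 hW hWnd hWd
      obtain ⟨h1, h2', h3, h4⟩ := Cfsg.Agent.Lib.Helper98.Os.compl_props hR W U hWnd hWU hUnd
      have hU'inv : Inv y ((pB Q).orthogonal W ⊓ U) :=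
        (inv_orth r hr.pos y hy hiso.iso W hW).inf hU
      have hU'V1 : (pB Q).orthogonal W ⊓ U ≤ V1 r y := le_trans inf_le_right hUV1
      have hU'd : finrank F ↥((pB Q).orthogonal W ⊓ U) = n - c := by omega
      have hcn : c ≤ n := by omega
      obtain ⟨hdvd, htype⟩ := ih (n - c) (by omega) _ hU'd hU'V1 hU'inv h3
      obtain ⟨j, hj⟩ := hdvd
      have hn : n = c * (j + 1) := by
        rw [Nat.mul_succ]
        omega
      refine ⟨⟨j + 1, hn⟩, ?_⟩
      have hort : Ort (pB Q) W ((pB Q).orthogonal W ⊓ U) := by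
        intro a ha z hz
        exact LinearMap.BilinForm.mem_orthogonal_iff.mp (Submodule.mem_inf.mp hz).1 a ha
      have hadd := hA W ((pB Q).orthogonal W ⊓ U) hWnd h3 hort
        (by rw [hWd]; exact hce) (by rw [hU'd, hj]; exact hce.mul_right j)
      rw [h1] at hadd
      rw [hadd, hWtype, htype]
      have hq1 : (n - c) / c = j := by
        rw [hj]
        exact Nat.mul_div_cancel_left j (by omega)
      have hq2 : n / c = j + 1 := by
        rw [hn]
        exact Nat.mul_div_cancel_left (j + 1) (by omega)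
      rw [hq1, hq2]
      unfold tPlus
      by_cases hio : Odd i
      · simp [hio]
      · simp only [hio, false_or, false_iff]
        rw [Nat.even_add_one]

end Cfsg.Agent.Lib.Helper29.OhP
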