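import Cfsg.Agent.Lib.Helper49.OElDefs
import Cfsg.Agent.Lib.Helper50.PlusForm
import Cfsg.Agent.Lib.Helper50.DiagPlus

/-!
# K-OEl-BRP (keystone 598809, architect helper49): bridge `Cfsg.Geo` <-> abstract vocabulary for the elliptic
subspaces of `quadFormPlus` (mirror of K-OhP T0 `isHyp_iff`), and a non-singular vector.
-/

set_option autoImplicit false
set_option linter.unusedSectionVars false
set_option linter.unusedVariables false

namespace Cfsg.Agent.Lib.Helper29.OEl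

open Module Cfsg.Agent.Lib.Helper98.Elus Cfsg.Agent.Lib.Helper98.Sy Cfsg.Agent.Lib.Helper38.OhP
  Cfsg.Agent.Lib.Helper49.OEl

universe u
variable {F : Type u} [Field F] {V : Type u} [AddCommGroup V] [Module F V]

theorem pB_Q0_apply' (d : ℕ) (a b : Fin d ⊕ Fin d → F) :
    pB (Q0 d F) a b = QuadraticMap.polar (Cfsg.quadFormPlus d F) a b := by
  rw [QuadraticMap.polarBilin_apply_apply]
  rfl

/-- LEAF BRP (598809). -/
theorem isEllP_iff (d m : ℕ) (W : Submodule F (Fin d ⊕ Fin d → F)) :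
    IsEllP d m W ↔ (finrank F W = m ∧ NonDeg (pB (Q0 d F)) W ∧ ¬ PlusQ (Q0 d F) W) := by
  have hplus : Cfsg.Geo.IsPlusTypeOn (Cfsg.quadFormPlus d F) W ↔ PlusQ (Q0 d F) W := by
    constructor
    · rintro ⟨U, hUW, hU, hUd⟩
      exact ⟨U, hUW, fun u hu => hU u hu, hUd⟩
    · rintro ⟨U, hUW, hU, hUd⟩
      exact ⟨U, hUW, fun u hu => hU u hu, hUd⟩
  constructor
  · rintro ⟨hm, hnd, hnp⟩
    refine ⟨hm, ?_, fun h => hnp (hplus.mpr h)⟩
    intro u hu hall
    by_contra hu0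
    obtain ⟨-, v, hv, hne⟩ := hnd u hu hu0
    rw [← pB_Q0_apply'] at hne
    exact hne (hall v hv)
  · rintro ⟨hm, hnd, hnp⟩
    refine ⟨hm, ?_, fun h => hnp (hplus.mp h)⟩
    intro u hu hu0
    have hex : ∃ v ∈ W, QuadraticMap.polar (Cfsg.quadFormPlus d F) u v ≠ 0 := by
      by_contra hcon
      push Not at hcon
      apply hu0
      apply hnd u hu
      intro v hv
      rw [pB_Q0_apply']
      exact hcon v hv
    obtain ⟨v, hv, hne⟩ := hex
    exact ⟨⟨v, hv, by rw [QuadraticMap.polar_comm]; exact hne⟩, ⟨v, hv, hne⟩⟩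

theorem exists_Q0_ne_zero (d : ℕ) (hd : 1 ≤ d) : ∃ v, Q0 d F v ≠ 0 := by
  have i₀ : Fin d := ⟨0, by omega⟩
  refine ⟨Sum.elim (Pi.single i₀ 1) (Pi.single i₀ 1), ?_⟩
  have hv₁ : Cfsg.Agent.Lib.Helper50.QPlus d F (Sum.elim (Pi.single i₀ 1) (Pi.single i₀ 1)) = 1 := by
    rw [Cfsg.Agent.Lib.Helper50.QPlus_elim]; simp
  show Cfsg.Agent.Lib.Helper50.QPlus d F (Sum.elim (Pi.single i₀ 1) (Pi.single i₀ 1)) ≠ 0
  rw [hv₁]
  exact one_ne_zero

end Cfsg.Agent.Lib.Helper29.OEl
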