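import Mathlib
import Cfsg.Agent.Lib.Helper02.Zipper
import Cfsg.Agent.Lib.Helper13.RelSubnormal

/-!
# Wielandt's second maximizer lemma

`A < G` with normal closure `G`.  If the proper subgroups `H ≥ A` in which `A` is contranormal
(`A^H = H`) do not generate `G`, then `A` lies in a unique maximal subgroup of `G`.
-/

set_option autoImplicit false

namespace Cfsg.Agent.Lib.Helper29.Maximizer

open scoped Pointwise
open Cfsg.Agent.Lib.Helper01 Cfsg.Agent.Lib.Helper02

universe u
variable {G : Type u} [Group G]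

/-- `A` is contranormal in `H`: no proper subgroup of `H` normalized by `H` contains `A`. -/
def CN (A H : Subgroup G) : Prop :=
  A ≤ H ∧ ∀ N : Subgroup G, A ≤ N → N ≤ H → H ≤ Subgroup.normalizer (N : Set G) → N = H

theorem CN.refl (A : Subgroup G) : CN A A :=
  ⟨le_rfl, fun _ h1 h2 _ => le_antisymm h2 h1⟩

theorem CN.mono_left {A B H : Subgroup G} (h : CN A H) (hAB : A ≤ B) (hBH : B ≤ H) : CN B H :=
  ⟨hBH, fun N h1 h2 h3 => h.2 N (hAB.trans h1) h2 h3⟩

theorem CN.le_of_normalizes {A B N : Subgroup G} (h : CN A B) (hAN : A ≤ N)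
    (hBN : B ≤ Subgroup.normalizer (N : Set G)) : B ≤ N := by
  have h1 : N ⊓ B = B := h.2 (N ⊓ B) (le_inf hAN h.1) inf_le_right
    ((le_inf hBN Subgroup.le_normalizer).trans Subgroup.inf_normalizer_le_normalizer_inf)
  exact h1 ▸ inf_le_left

theorem CN.trans {A B H : Subgroup G} (h1 : CN A B) (h2 : CN B H) : CN A H := by
  refine ⟨h1.1.trans h2.1, fun N hAN hNH hHN => ?_⟩
  exact h2.2 N (h1.le_of_normalizes hAN (h2.1.trans hHN)) hNH hHN

theorem CN.sup {A H₁ H₂ : Subgroup G} (h1 : CN A H₁) (h2 : CN A H₂) : CN A (H₁ ⊔ H₂) := by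
  refine ⟨h1.1.trans le_sup_left, fun N hAN hNH hHN => le_antisymm hNH (sup_le ?_ ?_)⟩
  · exact h1.le_of_normalizes hAN (le_sup_left.trans hHN)
  · exact h2.le_of_normalizes hAN (le_sup_right.trans hHN)

theorem CN.eq_of_rsn {T H : Subgroup G} (h : RSn T H) : CN T H → T = H := by
  induction h with
  | refl => intro _; rfl
  | step M K hTM hMK hKN ih =>
    intro hc
    have hMK' : M = K := hc.2 M hTM.le hMK hKN
    subst hMK'
    exact ih hc

theorem cn_top_of_normalClosure {A : Subgroup G}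
    (h : Subgroup.normalClosure (A : Set G) = ⊤) : CN A ⊤ := by
  refine ⟨le_top, fun N hAN _ hN => ?_⟩
  have hN' : N.Normal := Subgroup.normalizer_eq_top_iff.mp (top_le_iff.mp hN)
  have : Subgroup.normalClosure (A : Set G) ≤ N := Subgroup.normalClosure_le_normal hAN
  rw [h] at this
  exact top_le_iff.mp this

theorem cn_iff_normalClosure {A H : Subgroup G} (hAH : A ≤ H) :
    CN A H ↔ Subgroup.normalClosure ((A.subgroupOf H : Subgroup ↥H) : Set ↥H) = ⊤ := by
  constructor
  · intro h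
    set N' : Subgroup ↥H := Subgroup.normalClosure ((A.subgroupOf H : Subgroup ↥H) : Set ↥H)
      with hN'
    have hnorm : N'.Normal := Subgroup.normalClosure_normal
    have h1 : A ≤ N'.map H.subtype := by
      intro a ha
      refine ⟨⟨a, hAH ha⟩, ?_, rfl⟩
      apply Subgroup.subset_normalClosure
      exact ha
    have h2 : N'.map H.subtype ≤ H := by
      rintro _ ⟨x, _, rfl⟩
      exact x.2
    have h3 : H ≤ Subgroup.normalizer ((N'.map H.subtype : Subgroup G) : Set G) := by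
      intro x hx
      rw [Subgroup.mem_normalizer_iff]
      intro y
      constructor
      · rintro ⟨z, hz, rfl⟩
        refine ⟨⟨x, hx⟩ * z * ⟨x, hx⟩⁻¹, hnorm.conj_mem z hz _, ?_⟩
        simp
      · rintro ⟨z, hz, hzy⟩
        refine ⟨⟨x, hx⟩⁻¹ * z * ⟨x, hx⟩, ?_, ?_⟩
        · have := hnorm.conj_mem z hz (⟨x, hx⟩⁻¹)
          simpa using this
        · have : (z : G) = x * y * x⁻¹ := hzy
          simp [this, mul_assoc]
    have h4 := h.2 _ h1 h2 h3
    rw [eq_top_iff]
    intro x _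
    have hx : (x : G) ∈ N'.map H.subtype := by rw [h4]; exact x.2
    obtain ⟨z, hz, hzx⟩ := hx
    have : z = x := Subtype.ext hzx
    exact this ▸ hz
  · intro h
    refine ⟨hAH, fun N hAN hNH hHN => le_antisymm hNH ?_⟩
    have hnorm : (N.subgroupOf H).Normal :=
      (Subgroup.normal_subgroupOf_iff_le_normalizer hNH).mpr hHN
    have h1 : Subgroup.normalClosure ((A.subgroupOf H : Subgroup ↥H) : Set ↥H) ≤ N.subgroupOf H :=
      Subgroup.normalClosure_le_normal (fun x hx => hAN hx)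
    rw [h] at h1
    intro x hx
    have : (⟨x, hx⟩ : ↥H) ∈ N.subgroupOf H := h1 (Subgroup.mem_top _)
    exact this

/-- conjugates of a contranormal subgroup of `G` are contranormal in `G`. -/
theorem CN.conj_top {A : Subgroup G} (h : CN A ⊤) (g : G) : CN (MulAut.conj g • A) ⊤ := by
  refine ⟨le_top, fun N hAN _ hN => ?_⟩
  have hN' : N.Normal := Subgroup.normalizer_eq_top_iff.mp (top_le_iff.mp hN)
  apply h.2 N ?_ le_top hN
  intro a ha
  have h1 : g * a * g⁻¹ ∈ N := hAN ⟨a, ha, rfl⟩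
  have h2 := hN'.conj_mem _ h1 g⁻¹
  simpa [mul_assoc] using h2

/-- the subnormal closure: a subnormal subgroup of `X` containing `A` in which `A` is contranormal. -/
theorem exists_rsn_cn [Finite G] {A X : Subgroup G} (h : A ≤ X) : ∃ S, RSn S X ∧ CN A S := by
  obtain ⟨S, -, hS⟩ := exists_minimal_le_of_wellFoundedLT
    (fun S : Subgroup G => A ≤ S ∧ RSn S X) X ⟨h, RSn.refl X⟩
  refine ⟨S, hS.prop.2, hS.prop.1, fun N hAN hNS hSN => le_antisymm hNS ?_⟩
  exact hS.le_of_le ⟨hAN, (RSn.single hNS hSN).trans hS.prop.2⟩ hNS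

/-! ### conjugation helpers -/

theorem conj_inv_smul_smul (g : G) (H : Subgroup G) :
    MulAut.conj g⁻¹ • (MulAut.conj g • H) = H := by
  rw [conj_smul_conj_smul, inv_mul_cancel, map_one, one_smul]

theorem conj_smul_inv_smul (g : G) (H : Subgroup G) :
    MulAut.conj g • (MulAut.conj g⁻¹ • H) = H := by
  rw [conj_smul_conj_smul, mul_inv_cancel, map_one, one_smul]

theorem conj_smul_le_iff {g : G} {S T : Subgroup G} :
    MulAut.conj g • S ≤ T ↔ S ≤ MulAut.conj g⁻¹ • T := by
  rw [Subgroup.pointwise_smul_subset_iff, map_inv]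

theorem le_conj_smul_iff {g : G} {S T : Subgroup G} :
    S ≤ MulAut.conj g • T ↔ MulAut.conj g⁻¹ • S ≤ T := by
  rw [Subgroup.subset_pointwise_smul_iff, map_inv]

theorem conj_smul_eq_iff {g : G} {S T : Subgroup G} :
    MulAut.conj g • S = T ↔ S = MulAut.conj g⁻¹ • T := by
  constructor
  · rintro rfl; rw [conj_inv_smul_smul]
  · rintro rfl; rw [conj_smul_inv_smul]

theorem conj_smul_top (g : G) : MulAut.conj g • (⊤ : Subgroup G) = ⊤ := by
  rw [eq_top_iff, le_conj_smul_iff]; exact le_top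

theorem isCoatom_conj_smul {M : Subgroup G} (hM : IsCoatom M) (g : G) :
    IsCoatom (MulAut.conj g • M) := by
  refine ⟨fun h => hM.1 ?_, fun b hb => ?_⟩
  · rw [conj_smul_eq_iff, conj_smul_top] at h; exact h
  · have h1 : M < MulAut.conj g⁻¹ • b := by
      refine lt_of_le_of_ne (conj_smul_le_iff.mp hb.le) ?_
      intro h
      apply hb.ne
      rw [h, conj_smul_inv_smul]
    have h2 := hM.2 _ h1
    rw [← conj_smul_inv_smul g b, h2, conj_smul_top]

theorem card_lt_card_of_lt [Finite G] {S T : Subgroup G} (h : S < T) : Nat.card S < Nat.card T :=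
  card_lt_of_lt h

theorem maxIn_top_iff {M : Subgroup G} : MaxIn M ⊤ ↔ IsCoatom M := by
  constructor
  · intro h
    exact ⟨h.1.ne, fun b hb => h.2 b hb le_top⟩
  · intro h
    exact ⟨lt_top_iff_ne_top.mpr h.1, fun L hL _ => h.2 L hL⟩


theorem coatom_eq_of_le {a b : Subgroup G} (ha : IsCoatom a) (hb : IsCoatom b) (h : a ≤ b) :
    a = b := by
  by_contra hne
  exact hb.1 (ha.2 b (lt_of_le_of_ne h hne))

theorem le_normalizer_sInf {Q : Set (Subgroup G)} {X : Subgroup G}
    (h : ∀ x ∈ X, ∀ H ∈ Q, MulAut.conj x • H ∈ Q) :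
    X ≤ Subgroup.normalizer ((sInf Q : Subgroup G) : Set G) := by
  rw [le_normalizer_iff_conj_smul]
  have key : ∀ x ∈ X, MulAut.conj x • sInf Q ≤ sInf Q := by
    intro x hx
    apply le_sInf
    intro H hH
    rw [conj_smul_le_iff]
    exact sInf_le (h x⁻¹ (X.inv_mem hx) H hH)
  intro x hx
  apply le_antisymm (key x hx)
  have := key x⁻¹ (X.inv_mem hx)
  rw [conj_smul_le_iff, inv_inv] at this
  exact this

/-- The conclusion of the second maximizer lemma for `T`. -/
def PP (T : Subgroup G) : Prop :=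
  sSup {H : Subgroup G | H ≠ ⊤ ∧ CN T H} = ⊤ ∨
    ∀ M₁ M₂ : Subgroup G, IsCoatom M₁ → IsCoatom M₂ → T ≤ M₁ → T ≤ M₂ → M₁ = M₂

/-- The situation in a minimal counterexample: `M` is the only maximal subgroup containing `A`
in which `A` is not subnormal (its "home"). -/
structure Setup (A M : Subgroup G) : Prop where
  cn : CN A ⊤
  coatom : IsCoatom M
  le : A ≤ M
  sn : ∀ K, IsCoatom K → A ≤ K → K ≠ M → RSn A K
  norm : Subgroup.normalizer (A : Set G) ≤ M
  ih : ∀ T : Subgroup G, Nat.card A < Nat.card T → T ≠ ⊤ → CN T ⊤ → PP T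

variable {A M : Subgroup G}

theorem Setup.sn_conj (hS : Setup A M) (g : G) {K : Subgroup G} (hK : IsCoatom K)
    (hAK : MulAut.conj g • A ≤ K) (hne : K ≠ MulAut.conj g • M) :
    RSn (MulAut.conj g • A) K := by
  have h1 : IsCoatom (MulAut.conj g⁻¹ • K) := isCoatom_conj_smul hK g⁻¹
  have h2 : A ≤ MulAut.conj g⁻¹ • K := conj_smul_le_iff.mp hAK
  have h3 : MulAut.conj g⁻¹ • K ≠ M := by
    intro h; apply hne; rw [← h, conj_smul_inv_smul]
  have h4 := (hS.sn _ h1 h2 h3).conj g
  rwa [conj_smul_inv_smul] at h4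

theorem Setup.conj_le (hS : Setup A M) (g : G) : MulAut.conj g • A ≤ MulAut.conj g • M :=
  Subgroup.pointwise_smul_le_pointwise_smul_iff.mpr hS.le

theorem Setup.home_eq (hS : Setup A M) {g h : G}
    (hgh : MulAut.conj g • A = MulAut.conj h • A) :
    MulAut.conj g • M = MulAut.conj h • M := by
  have h1 : MulAut.conj (h⁻¹ * g) • A = A := by
    rw [← conj_smul_conj_smul, hgh, conj_inv_smul_smul]
  have h2 : h⁻¹ * g ∈ M := hS.norm (mem_normalizer_iff_conj_smul.mpr h1)
  have h3 : MulAut.conj (h⁻¹ * g) • M = M := Subgroup.conj_smul_eq_self_of_mem h2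
  rw [← conj_smul_conj_smul] at h3
  have h4 := conj_smul_eq_iff.mp h3
  rwa [inv_inv] at h4

/-- two distinct conjugates of `A` that lie together in two distinct maximal subgroups have
distinct homes and lie in each other's homes. -/
theorem Setup.pair [Finite G] (hS : Setup A M) {g h : G}
    (hne : MulAut.conj g • A ≠ MulAut.conj h • A) {K₁ K₂ : Subgroup G}
    (hK₁ : IsCoatom K₁) (hK₂ : IsCoatom K₂) (hK : K₁ ≠ K₂)
    (h1 : MulAut.conj g • A ⊔ MulAut.conj h • A ≤ K₁)
    (h2 : MulAut.conj g • A ⊔ MulAut.conj h • A ≤ K₂) :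
    MulAut.conj g • M ≠ MulAut.conj h • M ∧ MulAut.conj h • A ≤ MulAut.conj g • M ∧
      MulAut.conj g • A ≤ MulAut.conj h • M := by
  have hgM := hS.conj_le g
  have hhM := hS.conj_le h
  have hcg : IsCoatom (MulAut.conj g • M) := isCoatom_conj_smul hS.coatom g
  have hch : IsCoatom (MulAut.conj h • M) := isCoatom_conj_smul hS.coatom h
  set Cg := MulAut.conj g • A with hCg
  set Ch := MulAut.conj h • A with hCh
  set T := Cg ⊔ Ch with hT
  have hTtop : T ≠ ⊤ := fun h' => hK₁.1 (top_le_iff.mp (h' ▸ h1))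
  have hcard : Nat.card A < Nat.card T := by
    have h3 : Cg < T := by
      refine lt_of_le_of_ne le_sup_left (fun h' => hne ?_)
      have h4 : Ch ≤ Cg := by
        calc Ch ≤ T := le_sup_right
          _ = Cg := h'.symm
      exact (Subgroup.eq_of_le_of_card_ge h4 (by rw [hCg, hCh, card_conj_smul, card_conj_smul])).symm
    have := card_lt_of_lt h3
    rwa [hCg, card_conj_smul] at this
  have hcn : CN T ⊤ := (hS.cn.conj_top g).mono_left le_sup_left le_top
  rcases hS.ih T hcard hTtop hcn with hP | hP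
  · by_contra hcon
    have bound : ∀ K₀ : Subgroup G, K₀ ≠ ⊤ → (∀ H, H ≠ ⊤ → CN T H → H ≤ K₀) → False := by
      intro K₀ hK₀ hb
      apply hK₀
      rw [eq_top_iff, ← hP]
      exact sSup_le (fun H hH => hb H hH.1 hH.2)
    have cover : ∀ H, H ≠ ⊤ → CN T H →
        H = T ∨ (H ≤ MulAut.conj g • M ∧ Ch ≤ MulAut.conj g • M) ∨
          (H ≤ MulAut.conj h • M ∧ Cg ≤ MulAut.conj h • M) := by
      intro H hH hc
      by_cases hHT : H = T
      · exact Or.inl hHT
      · right
        obtain ⟨K, hKc, hHK⟩ := (eq_top_or_exists_le_coatom H).resolve_left hH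
        have hk : K = MulAut.conj g • M ∨ K = MulAut.conj h • M := by
          by_contra hk
          push Not at hk
          have s1 : RSn Cg K := hS.sn_conj g hKc ((le_sup_left.trans hc.1).trans hHK) hk.1
          have s2 : RSn Ch K := hS.sn_conj h hKc ((le_sup_right.trans hc.1).trans hHK) hk.2
          have s3 : RSn T H := RSn.sup (s1.restrict (le_sup_left.trans hc.1) hHK)
            (s2.restrict (le_sup_right.trans hc.1) hHK)
          exact hHT (CN.eq_of_rsn s3 hc).symm
        rcases hk with rfl | rfl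
        · exact Or.inl ⟨hHK, (le_sup_right.trans hc.1).trans hHK⟩
        · exact Or.inr ⟨hHK, (le_sup_left.trans hc.1).trans hHK⟩
    by_cases a : Ch ≤ MulAut.conj g • M
    · by_cases b : Cg ≤ MulAut.conj h • M
      · have e : MulAut.conj g • M = MulAut.conj h • M := by
          by_contra e
          exact hcon ⟨e, a, b⟩
        refine bound (MulAut.conj g • M) hcg.1 (fun H hH hc => ?_)
        rcases cover H hH hc with rfl | ⟨h3, -⟩ | ⟨h3, -⟩
        · exact sup_le hgM a
        · exact h3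
        · rw [e]; exact h3
      · refine bound (MulAut.conj g • M) hcg.1 (fun H hH hc => ?_)
        rcases cover H hH hc with rfl | ⟨h3, -⟩ | ⟨-, h3⟩
        · exact sup_le hgM a
        · exact h3
        · exact absurd h3 b
    · by_cases b : Cg ≤ MulAut.conj h • M
      · refine bound (MulAut.conj h • M) hch.1 (fun H hH hc => ?_)
        rcases cover H hH hc with rfl | ⟨-, h3⟩ | ⟨h3, -⟩
        · exact sup_le b hhM
        · exact absurd h3 a
        · exact h3
      · refine bound K₁ hK₁.1 (fun H hH hc => ?_)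
        rcases cover H hH hc with rfl | ⟨-, h3⟩ | ⟨-, h3⟩
        · exact h1
        · exact absurd h3 a
        · exact absurd h3 b
  · exact absurd (hP K₁ K₂ hK₁ hK₂ h1 h2) hK

/-- a clique: at least two homes, each with a conjugate of `A` inside the common intersection. -/
def IsClique (A M : Subgroup G) (Q : Set (Subgroup G)) : Prop :=
  (∃ H₁ ∈ Q, ∃ H₂ ∈ Q, H₁ ≠ H₂) ∧
    ∀ H ∈ Q, ∃ g : G, MulAut.conj g • M = H ∧ MulAut.conj g • A ≤ sInf Q

theorem Setup.clique_coatom (hS : Setup A M) {Q : Set (Subgroup G)} (hQ : IsClique A M Q)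
    {H : Subgroup G} (hH : H ∈ Q) : IsCoatom H := by
  obtain ⟨x, rfl, -⟩ := hQ.2 H hH
  exact isCoatom_conj_smul hS.coatom x

theorem Setup.home_mem_of_maximal [Finite G] (hS : Setup A M) {Q : Set (Subgroup G)}
    (hQ : Maximal (IsClique A M) Q) {g : G} (hg : MulAut.conj g • A ≤ sInf Q) :
    MulAut.conj g • M ∈ Q := by
  by_contra hnot
  obtain ⟨⟨H₁, hH₁, H₂, hH₂, hH⟩, hmem⟩ := hQ.prop
  have hnew : IsClique A M (insert (MulAut.conj g • M) Q) := by
    refine ⟨⟨H₁, Set.mem_insert_of_mem _ hH₁, H₂, Set.mem_insert_of_mem _ hH₂, hH⟩, ?_⟩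
    intro H hHmem
    rw [sInf_insert]
    rcases Set.mem_insert_iff.mp hHmem with rfl | hHQ
    · exact ⟨g, rfl, le_inf (hS.conj_le g) hg⟩
    · obtain ⟨x, hx1, hx2⟩ := hmem H hHQ
      refine ⟨x, hx1, le_inf ?_ hx2⟩
      have hne : MulAut.conj g • A ≠ MulAut.conj x • A := by
        intro he
        apply hnot
        rw [hS.home_eq he, hx1]; exact hHQ
      have := hS.pair hne (hS.clique_coatom hQ.prop hH₁) (hS.clique_coatom hQ.prop hH₂) hH
        (sup_le (hg.trans (sInf_le hH₁)) (hx2.trans (sInf_le hH₁)))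
        (sup_le (hg.trans (sInf_le hH₂)) (hx2.trans (sInf_le hH₂)))
      exact this.2.1
  have hle : Q ≤ insert (MulAut.conj g • M) Q := Set.subset_insert _ _
  exact hnot (hQ.le_of_ge hnew hle (Set.mem_insert _ _))

/-- For a maximal clique `Q` and `H' ∈ Q`: the only maximal subgroup containing `N(⋂Q) ∩ H'`
is `H'`. -/
theorem Setup.unique_over [Finite G] (hS : Setup A M) {Q : Set (Subgroup G)}
    (hQ : Maximal (IsClique A M) Q) {H' : Subgroup G} (hH' : H' ∈ Q)
    {K : Subgroup G} (hK : IsCoatom K)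
    (hLK : Subgroup.normalizer ((sInf Q : Subgroup G) : Set G) ⊓ H' ≤ K) : K = H' := by
  obtain ⟨⟨H₁, hH₁, H₂, hH₂, hH⟩, hmem⟩ := hQ.prop
  have hcoat : ∀ H ∈ Q, IsCoatom H := fun H hH => hS.clique_coatom hQ.prop hH
  have hIH' : sInf Q ≤ H' := sInf_le hH'
  set S₀ : Set (Subgroup G) := {C | ∃ x : G, C = MulAut.conj x • A ∧
    MulAut.conj x • A ≤ sInf Q ∧ MulAut.conj x • M ≠ H'} with hS₀
  set F : Set (Subgroup G) := {C | ∃ B ∈ S₀, ∃ v ∈ H', C = MulAut.conj v • B} with hF
  have hS₀F : S₀ ⊆ F := fun B hB => ⟨B, hB, 1, H'.one_mem, by simp⟩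
  have hF_le : ∀ C ∈ F, C ≤ H' := by
    rintro C ⟨B, ⟨x, rfl, hx2, -⟩, v, hv, rfl⟩
    exact conj_smul_le_of_mem (hx2.trans hIH') hv
  have hF_rsn : ∀ C ∈ F, RSn C H' := by
    rintro C ⟨B, ⟨x, rfl, hx2, hx3⟩, v, hv, rfl⟩
    have h1 : RSn (MulAut.conj x • A) H' :=
      hS.sn_conj x (hcoat H' hH') (hx2.trans hIH') (Ne.symm hx3)
    have h2 := h1.conj v
    rwa [Subgroup.conj_smul_eq_self_of_mem hv] at h2
  have hF_conj : ∀ C ∈ F, ∀ v ∈ H', MulAut.conj v • C ∈ F := by
    rintro C ⟨B, hB, w, hw, rfl⟩ v hv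
    exact ⟨B, hB, v * w, H'.mul_mem hv hw, conj_smul_conj_smul v w B⟩
  have hmemS₀ : ∀ H ∈ Q, H ≠ H' → ∃ y : G, MulAut.conj y • M = H ∧ MulAut.conj y • A ≤ sInf Q ∧
      MulAut.conj y • A ∈ S₀ := by
    intro H hHQ hHH'
    obtain ⟨y, hy1, hy2⟩ := hmem H hHQ
    exact ⟨y, hy1, hy2, y, rfl, hy2, by rw [hy1]; exact hHH'⟩
  by_cases hEq : F ⊆ S₀
  · have hH'L : H' ≤ Subgroup.normalizer ((sInf Q : Subgroup G) : Set G) := by
      apply le_normalizer_sInf
      intro v hv H hHQ
      by_cases hHH' : H = H'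
      · rw [hHH', Subgroup.conj_smul_eq_self_of_mem hv]; exact hH'
      · obtain ⟨x, hx1, hx2, hB⟩ := hmemS₀ H hHQ hHH'
        have hvB : MulAut.conj v • (MulAut.conj x • A) ∈ S₀ := hEq ⟨_, hB, v, hv, rfl⟩
        obtain ⟨y, hy1, hy2, -⟩ := hvB
        have h3 : MulAut.conj (v * x) • A ≤ sInf Q := by
          rw [← conj_smul_conj_smul, hy1]; exact hy2
        have h4 := hS.home_mem_of_maximal hQ h3
        rwa [← conj_smul_conj_smul, hx1] at h4
    exact (coatom_eq_of_le (hcoat H' hH') hK ((le_inf hH'L le_rfl).trans hLK)).symm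
  · have hss : S₀ ⊂ F := ⟨hS₀F, hEq⟩
    obtain ⟨X, hXF, hXS₀, hXn⟩ := Cfsg.Agent.Lib.Helper13.exists_normalizing_member H' F S₀ hF_le
      (fun C hC => (hF_rsn C hC).isSubnormal_subgroupOf) hF_conj hss
    have hXH' : X ≤ H' := hF_le X hXF
    obtain ⟨B, ⟨x, rfl, hx2, hx3⟩, v, hv, hXeq'⟩ := hXF
    have hXeq : X = MulAut.conj (v * x) • A := by rw [hXeq', conj_smul_conj_smul]
    have hhome : MulAut.conj (v * x) • M ≠ H' := by
      rw [← conj_smul_conj_smul]
      intro h
      apply hx3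
      have := conj_smul_eq_iff.mp h
      rw [this, Subgroup.conj_smul_eq_self_of_mem (H'.inv_mem hv)]
    have hQ'I : sSup S₀ ≤ sInf Q := by
      apply sSup_le
      rintro C ⟨y, rfl, hy2, -⟩
      exact hy2
    have hXL : X ≤ Subgroup.normalizer ((sInf Q : Subgroup G) : Set G) := by
      apply le_normalizer_sInf
      intro z hz H hHQ
      by_cases hHH' : H = H'
      · rw [hHH', Subgroup.conj_smul_eq_self_of_mem (hXH' hz)]; exact hH'
      · obtain ⟨y, hy1, hy2, hB⟩ := hmemS₀ H hHQ hHH'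
        have h1 : MulAut.conj y • A ≤ sSup S₀ := le_sSup hB
        have h2 : MulAut.conj z • (MulAut.conj y • A) ≤ sSup S₀ := by
          have := Subgroup.pointwise_smul_le_pointwise_smul_iff (a := MulAut.conj z) |>.mpr h1
          rwa [mem_normalizer_iff_conj_smul.mp (hXn hz)] at this
        have h3 : MulAut.conj (z * y) • A ≤ sInf Q := by
          rw [← conj_smul_conj_smul]; exact h2.trans hQ'I
        have h4 := hS.home_mem_of_maximal hQ h3
        rwa [← conj_smul_conj_smul, hy1] at h4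
    by_contra hKH'
    have hXK : X ≤ K := (le_inf hXL hXH').trans hLK
    have hIK : sInf Q ≤ K := (le_inf Subgroup.le_normalizer hIH').trans hLK
    have hXI : X ≤ sInf Q := by
      apply le_sInf
      intro H hHQ
      by_cases hHH' : H = H'
      · rw [hHH']; exact hXH'
      · obtain ⟨y, hy1, hy2, hB⟩ := hmemS₀ H hHQ hHH'
        have hne : MulAut.conj (v * x) • A ≠ MulAut.conj y • A := by
          intro he
          apply hXS₀
          rw [hXeq, he]; exact hB
        have := hS.pair hne hK (hcoat H' hH') hKH'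
          (sup_le (hXeq ▸ hXK) (hy2.trans hIK)) (sup_le (hXeq ▸ hXH') (hy2.trans hIH'))
        rw [hXeq, ← hy1]; exact this.2.2
    apply hXS₀
    exact ⟨v * x, hXeq, hXeq ▸ hXI, hhome⟩

/-- The situation `Setup A M` with a second maximal subgroup containing `A` is contradictory. -/
theorem Setup.false [Finite G] (hS : Setup A M) {K : Subgroup G} (hK : IsCoatom K)
    (hAK : A ≤ K) (hKM : K ≠ M) : False := by
  have hsn := hS.sn K hK hAK hKM
  rcases hsn.exists_conj_le_normalizer with hKN | ⟨k, hkK, hne, hle⟩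
  · exact hKM (coatom_eq_of_le hK hS.coatom (hKN.trans hS.norm))
  · have hne' : MulAut.conj (1 : G) • A ≠ MulAut.conj k • A := by
      rw [map_one, one_smul]; exact hne.symm
    have hpair := hS.pair hne' hK hS.coatom hKM
      (sup_le (by rw [map_one, one_smul]; exact hAK) (conj_smul_le_of_mem hAK hkK))
      (sup_le (by rw [map_one, one_smul]; exact hS.le) (hle.trans hS.norm))
    simp only [map_one, one_smul] at hpair
    obtain ⟨h1, h2, h3⟩ := hpair
    have hI : sInf ({M, MulAut.conj k • M} : Set (Subgroup G)) = M ⊓ MulAut.conj k • M := by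
      rw [sInf_insert, sInf_singleton]
    have hQ₀ : IsClique A M {M, MulAut.conj k • M} := by
      refine ⟨⟨M, by simp, MulAut.conj k • M, by simp, h1⟩, ?_⟩
      intro H hH
      rw [hI]
      rcases hH with rfl | rfl
      · exact ⟨1, by simp, by simpa using le_inf hS.le h3⟩
      · exact ⟨k, rfl, le_inf h2 (hS.conj_le k)⟩
    obtain ⟨Q, -, hQ⟩ := exists_maximal_ge_of_wellFoundedGT (IsClique A M) _ hQ₀
    obtain ⟨⟨H₁, hH₁, H₂, hH₂, hH⟩, hmem⟩ := hQ.prop
    have hLtop : Subgroup.normalizer ((sInf Q : Subgroup G) : Set G) ≠ ⊤ := by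
      intro h
      obtain ⟨x, hx1, hx2⟩ := hmem H₁ hH₁
      have hcn := hS.cn.conj_top x
      have h4 := hcn.2 (sInf Q) hx2 le_top (h ▸ le_rfl)
      have h5 : (⊤ : Subgroup G) ≤ H₁ := h4 ▸ sInf_le hH₁
      exact (hS.clique_coatom hQ.prop hH₁).1 (top_le_iff.mp h5)
    obtain ⟨KL, hKL, hLKL⟩ := (eq_top_or_exists_le_coatom _).resolve_left hLtop
    have e1 := hS.unique_over hQ hH₁ hKL (inf_le_left.trans hLKL)
    have e2 := hS.unique_over hQ hH₂ hKL (inf_le_left.trans hLKL)
    exact hH (e1.symm.trans e2)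


theorem second_maximizer_aux [Finite G] : ∀ (n : ℕ) (A : Subgroup G),
    Nat.card G - Nat.card A = n → A ≠ ⊤ → CN A ⊤ → PP A := by
  intro n
  induction n using Nat.strong_induction_on with
  | _ n IH =>
    intro A hn hAtop hcn
    by_contra hPP
    unfold PP at hPP
    push Not at hPP
    obtain ⟨hY, M₁, M₂, hM₁, hM₂, hAM₁, hAM₂, hM₁₂⟩ := hPP
    have ih : ∀ T : Subgroup G, Nat.card A < Nat.card T → T ≠ ⊤ → CN T ⊤ → PP T := by
      intro T hcard hT hcnT
      have hTle : Nat.card T ≤ Nat.card G := Subgroup.card_le_card_group T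
      exact IH (Nat.card G - Nat.card T) (by omega) T rfl hT hcnT
    -- non-subnormal maximal overgroups have a subnormal closure with a unique maximal overgroup
    have hns : ∀ K, IsCoatom K → A ≤ K → ¬ RSn A K → ∃ S, S ≠ ⊤ ∧ CN A S ∧
        (∀ K', IsCoatom K' → S ≤ K' → K' = K) := by
      intro K hK hAK hnot
      obtain ⟨S, hSK, hAS⟩ := exists_rsn_cn hAK
      have hSA : A < S := by
        refine lt_of_le_of_ne hAS.1 ?_
        intro h
        exact hnot (h ▸ hSK)
      have hStop : S ≠ ⊤ := fun h => hK.1 (top_le_iff.mp (h ▸ hSK.le))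
      have hPS := ih S (card_lt_of_lt hSA) hStop (hcn.mono_left hAS.1 le_top)
      refine ⟨S, hStop, hAS, ?_⟩
      rcases hPS with hPS | hPS
      · exfalso
        apply hY
        have hle : sSup {H : Subgroup G | H ≠ ⊤ ∧ CN S H} ≤
            sSup {H : Subgroup G | H ≠ ⊤ ∧ CN A H} := by
          apply sSup_le_sSup
          intro H hH
          exact ⟨hH.1, hAS.trans hH.2⟩
        rw [hPS] at hle
        exact top_le_iff.mp hle
      · intro K' hK' hSK'
        exact hPS K' K hK' hK hSK' hSK.le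
    -- there is a maximal overgroup in which `A` is not subnormal
    have hex : ∃ M, IsCoatom M ∧ A ≤ M ∧ ¬ RSn A M := by
      by_contra hno
      push Not at hno
      apply hM₁₂
      refine zipper (⊤ : Subgroup G) _ A rfl le_top ?_ ?_ M₁ M₂ (maxIn_top_iff.mpr hM₁)
        (maxIn_top_iff.mpr hM₂) hAM₁ hAM₂
      · intro h; exact hAtop (CN.eq_of_rsn h hcn)
      · intro H hAH hH
        obtain ⟨K, hK, hHK⟩ := (eq_top_or_exists_le_coatom H).resolve_left hH.ne
        exact (hno K hK (hAH.trans hHK)).restrict hAH hHK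
    obtain ⟨M, hM, hAM, hnsM⟩ := hex
    have huniq : ∀ K, IsCoatom K → A ≤ K → K ≠ M → RSn A K := by
      intro K hK hAK hKM
      by_contra hnsK
      obtain ⟨S₁, hS₁top, hc₁, hu₁⟩ := hns M hM hAM hnsM
      obtain ⟨S₂, hS₂top, hc₂, hu₂⟩ := hns K hK hAK hnsK
      have hJY : S₁ ⊔ S₂ ≤ sSup {H : Subgroup G | H ≠ ⊤ ∧ CN A H} :=
        sup_le (le_sSup ⟨hS₁top, hc₁⟩) (le_sSup ⟨hS₂top, hc₂⟩)
      have hJtop : S₁ ⊔ S₂ ≠ ⊤ := fun h => hY (top_le_iff.mp (h ▸ hJY))
      obtain ⟨KJ, hKJ, hJKJ⟩ := (eq_top_or_exists_le_coatom _).resolve_left hJtop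
      have e1 := hu₁ KJ hKJ (le_sup_left.trans hJKJ)
      have e2 := hu₂ KJ hKJ (le_sup_right.trans hJKJ)
      exact hKM (e2.symm.trans e1)
    have hnorm : Subgroup.normalizer (A : Set G) ≤ M := by
      intro x hx
      have hxA : MulAut.conj x • A = A := mem_normalizer_iff_conj_smul.mp hx
      have h1 : A ≤ MulAut.conj x • M := by
        rw [← hxA]; exact Subgroup.pointwise_smul_le_pointwise_smul_iff.mpr hAM
      have h2 : IsCoatom (MulAut.conj x • M) := isCoatom_conj_smul hM x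
      have h3 : MulAut.conj x • M = M := by
        by_contra hne
        have h4 := (huniq _ h2 h1 hne).conj x⁻¹
        rw [conj_inv_smul_smul] at h4
        have hA' : MulAut.conj x⁻¹ • A = A := by
          have := conj_smul_eq_iff.mp hxA
          exact this.symm
        rw [hA'] at h4
        exact hnsM h4
      have hxM : x ∈ Subgroup.normalizer (M : Set G) := mem_normalizer_iff_conj_smul.mpr h3
      by_contra hxnot
      have hlt : M < Subgroup.normalizer (M : Set G) :=
        lt_of_le_of_ne Subgroup.le_normalizer (fun h => hxnot (h ▸ hxM))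
      have htop := hM.2 _ hlt
      have := hcn.2 M hAM le_top (htop ▸ le_rfl)
      exact hM.1 this
    have hS : Setup A M := ⟨hcn, hM, hAM, huniq, hnorm, ih⟩
    by_cases h1 : M₁ = M
    · exact hS.false hM₂ hAM₂ (fun h => hM₁₂ (h1.trans h.symm))
    · exact hS.false hM₁ hAM₁ h1

/-- **Wielandt's second maximizer lemma.** -/
theorem second_maximizer [Finite G] (A : Subgroup G) (hA : A ≠ ⊤) (hcn : CN A ⊤) :
    sSup {H : Subgroup G | H ≠ ⊤ ∧ CN A H} = ⊤ ∨
      ∀ M₁ M₂ : Subgroup G, IsCoatom M₁ → IsCoatom M₂ → A ≤ M₁ → A ≤ M₂ → M₁ = M₂ :=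
  second_maximizer_aux _ A rfl hA hcn

/-- The second maximizer lemma in the form of statement S3947. -/
theorem second_maximizer' [Finite G] (A : Subgroup G)
    (hA : Subgroup.normalClosure (A : Set G) = ⊤) (hAG : A ≠ ⊤) :
    sSup {H : Subgroup G | A ≤ H ∧ H ≠ ⊤ ∧
        Subgroup.normalClosure ((A.subgroupOf H : Subgroup ↥H) : Set ↥H) = ⊤} = ⊤ ∨
      ∃! M : Subgroup G, IsCoatom M ∧ A ≤ M := by
  have hset : {H : Subgroup G | A ≤ H ∧ H ≠ ⊤ ∧
      Subgroup.normalClosure ((A.subgroupOf H : Subgroup ↥H) : Set ↥H) = ⊤} =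
      {H : Subgroup G | H ≠ ⊤ ∧ CN A H} := by
    ext H
    constructor
    · rintro ⟨h1, h2, h3⟩
      exact ⟨h2, (cn_iff_normalClosure h1).mpr h3⟩
    · rintro ⟨h2, h3⟩
      exact ⟨h3.1, h2, (cn_iff_normalClosure h3.1).mp h3⟩
  rw [hset]
  rcases second_maximizer A hAG (cn_top_of_normalClosure hA) with h | h
  · exact Or.inl h
  · right
    obtain ⟨M, hM, hAM⟩ := (eq_top_or_exists_le_coatom A).resolve_left hAG
    exact ⟨M, ⟨hM, hAM⟩, fun M' hM' => h M' M hM'.1 hM hM'.2 hAM⟩

end Cfsg.Agent.Lib.Helper29.Maximizer
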