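import Mathlib
import Cfsg.Agent.Lib.Helper29.Maximizer

/-!
# Iterated commutators with an automorphism generate

If `[G, α] = G` then the `k`-fold commutators `[g, α, …, α]` generate `G`
(Wielandt; via the second maximizer lemma in `G ⋊ ⟨α⟩`).
-/

set_option autoImplicit false

namespace Cfsg.Agent.Lib.Helper29.IterComm

open scoped Pointwise
open Cfsg.Agent.Lib.Helper01 Cfsg.Agent.Lib.Helper02 Cfsg.Agent.Lib.Helper29.Maximizer
open SemidirectProduct

universe u
variable {G : Type u} [Group G] (α : MulAut G)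

/-- the commutator map `c ↦ c α(c)⁻¹`. -/
def cm (c : G) : G := c * (α c)⁻¹

theorem alpha_cm (c : G) : α (cm α c) = cm α (α c) := by
  unfold cm; rw [map_mul, map_inv]

theorem alpha_iter (k : ℕ) (c : G) : α ((cm α)^[k] c) = (cm α)^[k] (α c) := by
  induction k generalizing c with
  | zero => rfl
  | succ k ih => rw [Function.iterate_succ_apply, ih, alpha_cm, ← Function.iterate_succ_apply]

theorem alpha_inv_iter (k : ℕ) (c : G) : α⁻¹ ((cm α)^[k] c) = (cm α)^[k] (α⁻¹ c) := by
  have h := alpha_iter α k (α⁻¹ c)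
  have h2 : α (α⁻¹ c) = c := by simp
  rw [h2] at h
  rw [← h]; simp

theorem cm_mul (u x : G) : cm α (u * x) = u * cm α x * u⁻¹ * cm α u := by
  unfold cm; rw [map_mul]; group

/-- the acting cyclic group. -/
abbrev AA : Type u := ↥(Subgroup.zpowers α)

/-- its action. -/
abbrev phi : AA α →* MulAut G := (Subgroup.zpowers α).subtype

/-- the semidirect product `G ⋊ ⟨α⟩`. -/
abbrev Gam : Type u := G ⋊[phi α] AA α

instance [Finite G] : Finite (Gam α) := Finite.of_equiv _ SemidirectProduct.equivProd.symm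

/-- the generator of the acting group. -/
def gen : AA α := ⟨α, Subgroup.mem_zpowers α⟩

/-- `α` as an element of the semidirect product. -/
def a0 : Gam α := inr (gen α)

theorem inl_alpha (x : G) : (inl (α x) : Gam α) = a0 α * inl x * (a0 α)⁻¹ := by
  have h := inl_aut (φ := phi α) (gen α) x
  rw [map_inv] at h
  exact h

theorem inl_alpha_inv (x : G) : (inl (α⁻¹ x) : Gam α) = (a0 α)⁻¹ * inl x * a0 α := by
  have h := inl_aut_inv (φ := phi α) (gen α) x
  rw [map_inv] at h
  exact h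

theorem inl_cm (c : G) : (inl (cm α c) : Gam α) = inl c * a0 α * (inl c)⁻¹ * (a0 α)⁻¹ := by
  unfold cm
  rw [map_mul, map_inv, inl_alpha]
  group

theorem inr_mem_zpowers (b : AA α) : (inr b : Gam α) ∈ Subgroup.zpowers (a0 α) := by
  obtain ⟨n, hn⟩ := Subgroup.mem_zpowers_iff.mp b.2
  have hb : b = gen α ^ n := by
    apply Subtype.ext
    rw [Subgroup.coe_zpow]
    exact hn.symm
  rw [hb, map_zpow]
  exact Subgroup.zpow_mem_zpowers _ n

theorem eq_top_of_mem {H : Subgroup (Gam α)} (h0 : a0 α ∈ H)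
    (h : ∀ g : G, (inl g : Gam α) ∈ H) : H = ⊤ := by
  rw [eq_top_iff]
  intro y _
  rw [← inl_left_mul_inr_right y]
  exact H.mul_mem (h _) (Subgroup.zpowers_le.mpr h0 (inr_mem_zpowers α _))

theorem zpowers_invariant {Z : Subgroup G} (h1 : ∀ x ∈ Z, α x ∈ Z) (h2 : ∀ x ∈ Z, α⁻¹ x ∈ Z) :
    ∀ b ∈ Subgroup.zpowers α, ∀ x ∈ Z, b x ∈ Z := by
  let S : Subgroup (MulAut G) :=
    { carrier := {b | (∀ x ∈ Z, b x ∈ Z) ∧ (∀ x ∈ Z, b⁻¹ x ∈ Z)}
      mul_mem' := by
        rintro b c ⟨hb1, hb2⟩ ⟨hc1, hc2⟩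
        refine ⟨fun x hx => ?_, fun x hx => ?_⟩
        · rw [MulAut.mul_apply]; exact hb1 _ (hc1 x hx)
        · rw [mul_inv_rev, MulAut.mul_apply]; exact hc2 _ (hb2 x hx)
      one_mem' := ⟨fun x hx => by simpa using hx, fun x hx => by simpa using hx⟩
      inv_mem' := by
        rintro b ⟨hb1, hb2⟩
        exact ⟨hb2, by simpa using hb1⟩ }
  intro b hb
  exact ((Subgroup.zpowers_le (H := S)).mpr ⟨h1, h2⟩ hb).1

/-- the subgroup `Z ⟨α⟩` of the semidirect product, for a stable subgroup `Z`. -/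
def Lam (Z : Subgroup G) (hZ : ∀ b ∈ Subgroup.zpowers α, ∀ x ∈ Z, b x ∈ Z) :
    Subgroup (Gam α) where
  carrier := {y | y.left ∈ Z}
  mul_mem' := by
    intro x y hx hy
    show (x * y).left ∈ Z
    rw [mul_left]
    exact Z.mul_mem hx (hZ _ x.right.2 _ hy)
  one_mem' := Z.one_mem
  inv_mem' := by
    intro x hx
    show (x⁻¹).left ∈ Z
    rw [inv_left]
    exact hZ _ (x.right⁻¹).2 _ (Z.inv_mem hx)

theorem mem_Lam {Z : Subgroup G} {hZ : ∀ b ∈ Subgroup.zpowers α, ∀ x ∈ Z, b x ∈ Z}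
    {y : Gam α} : y ∈ Lam α Z hZ ↔ y.left ∈ Z := Iff.rfl

/-- stability of the subgroup generated by the iterated commutators of a stable subgroup. -/
theorem closure_iter_stable {X : Subgroup G} (h1 : ∀ x ∈ X, α x ∈ X) (h2 : ∀ x ∈ X, α⁻¹ x ∈ X)
    (k : ℕ) :
    (∀ x ∈ Subgroup.closure ((cm α)^[k] '' (X : Set G)),
        α x ∈ Subgroup.closure ((cm α)^[k] '' (X : Set G))) ∧
      (∀ x ∈ Subgroup.closure ((cm α)^[k] '' (X : Set G)),
        α⁻¹ x ∈ Subgroup.closure ((cm α)^[k] '' (X : Set G))) := by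
  constructor
  · intro x hx
    have : Subgroup.closure ((cm α)^[k] '' (X : Set G)) ≤
        (Subgroup.closure ((cm α)^[k] '' (X : Set G))).comap α.toMonoidHom := by
      rw [Subgroup.closure_le]
      rintro _ ⟨c, hc, rfl⟩
      show α ((cm α)^[k] c) ∈ Subgroup.closure ((cm α)^[k] '' (X : Set G))
      rw [alpha_iter]
      exact Subgroup.subset_closure ⟨α c, h1 c hc, rfl⟩
    exact this hx
  · intro x hx
    have : Subgroup.closure ((cm α)^[k] '' (X : Set G)) ≤
        (Subgroup.closure ((cm α)^[k] '' (X : Set G))).comap (α⁻¹).toMonoidHom := by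
      rw [Subgroup.closure_le]
      rintro _ ⟨c, hc, rfl⟩
      show α⁻¹ ((cm α)^[k] c) ∈ Subgroup.closure ((cm α)^[k] '' (X : Set G))
      rw [alpha_inv_iter]
      exact Subgroup.subset_closure ⟨α⁻¹ c, h2 c hc, rfl⟩
    exact this hx

theorem comap_stable {H : Subgroup (Gam α)} (h0 : a0 α ∈ H) :
    (∀ x ∈ H.comap (inl : G →* Gam α), α x ∈ H.comap (inl : G →* Gam α)) ∧
      (∀ x ∈ H.comap (inl : G →* Gam α), α⁻¹ x ∈ H.comap (inl : G →* Gam α)) := by
  constructor
  · intro x hx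
    show (inl (α x) : Gam α) ∈ H
    rw [inl_alpha]
    exact H.mul_mem (H.mul_mem h0 hx) (H.inv_mem h0)
  · intro x hx
    show (inl (α⁻¹ x) : Gam α) ∈ H
    rw [inl_alpha_inv]
    exact H.mul_mem (H.mul_mem (H.inv_mem h0) hx) h0

theorem left_mem_comap {H : Subgroup (Gam α)} (h0 : a0 α ∈ H) {y : Gam α} (hy : y ∈ H) :
    y.left ∈ H.comap (inl : G →* Gam α) := by
  show (inl y.left : Gam α) ∈ H
  have h1 : (inl y.left : Gam α) = y * (inr y.right)⁻¹ := by
    rw [eq_mul_inv_iff_mul_eq, inl_left_mul_inr_right]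
  rw [h1]
  exact H.mul_mem hy (H.inv_mem (Subgroup.zpowers_le.mpr h0 (inr_mem_zpowers α _)))

theorem cn_top (hG : Subgroup.closure (Set.range (cm α)) = ⊤) :
    CN (Subgroup.zpowers (a0 α)) ⊤ := by
  refine ⟨le_top, fun N' hAN _ hN => ?_⟩
  have hN' : N'.Normal := Subgroup.normalizer_eq_top_iff.mp (top_le_iff.mp hN)
  have h0 : a0 α ∈ N' := hAN (Subgroup.mem_zpowers _)
  apply eq_top_of_mem α h0
  have hle : Subgroup.closure (Set.range (cm α)) ≤ N'.comap (inl : G →* Gam α) := by
    rw [Subgroup.closure_le]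
    rintro _ ⟨c, rfl⟩
    show (inl (cm α c) : Gam α) ∈ N'
    rw [inl_cm]
    exact N'.mul_mem (hN'.conj_mem _ h0 _) (N'.inv_mem h0)
  rw [hG] at hle
  intro g
  exact hle (Subgroup.mem_top g)

theorem mem_normalizer_of_conj_smul_le {G' : Type*} [Group G'] [Finite G'] {B : Subgroup G'}
    {g : G'} (h : MulAut.conj g • B ≤ B) : g ∈ Subgroup.normalizer (B : Set G') := by
  rw [mem_normalizer_iff_conj_smul]
  exact Subgroup.eq_of_le_of_card_ge h (by rw [card_conj_smul])

/-- if `⟨α⟩` is contranormal in `H ≤ G ⋊ ⟨α⟩` then `X = H ∩ G` satisfies `[X, α] = X`. -/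
theorem comm_eq_of_cn [Finite G] {H : Subgroup (Gam α)} (hcn : CN (Subgroup.zpowers (a0 α)) H) :
    H.comap (inl : G →* Gam α) ≤
      Subgroup.closure (cm α '' ((H.comap (inl : G →* Gam α) : Subgroup G) : Set G)) := by
  have h0 : a0 α ∈ H := hcn.1 (Subgroup.mem_zpowers _)
  set X : Subgroup G := H.comap (inl : G →* Gam α) with hX
  obtain ⟨hX1, hX2⟩ := comap_stable α h0
  set X₁ : Subgroup G := Subgroup.closure (cm α '' (X : Set G)) with hX₁
  have hX₁X : X₁ ≤ X := by
    rw [hX₁, Subgroup.closure_le]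
    rintro _ ⟨c, hc, rfl⟩
    exact X.mul_mem hc (X.inv_mem (hX1 c hc))
  have hst := closure_iter_stable α hX1 hX2 1
  rw [Function.iterate_one] at hst
  have hZ := zpowers_invariant α hst.1 hst.2
  -- normality of `X₁` in `X`
  have hnormal : ∀ u ∈ X, ∀ x ∈ X₁, u * x * u⁻¹ ∈ X₁ := by
    intro u hu x hx
    have : X₁ ≤ X₁.comap (MulAut.conj u).toMonoidHom := by
      rw [hX₁, Subgroup.closure_le]
      rintro _ ⟨c, hc, rfl⟩
      show u * cm α c * u⁻¹ ∈ Subgroup.closure (cm α '' (X : Set G))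
      have e : u * cm α c * u⁻¹ = cm α (u * c) * (cm α u)⁻¹ := by
        rw [cm_mul]; group
      rw [e]
      exact Subgroup.mul_mem _ (Subgroup.subset_closure ⟨u * c, X.mul_mem hu hc, rfl⟩)
        (Subgroup.inv_mem _ (Subgroup.subset_closure ⟨u, hu, rfl⟩))
    exact this hx
  set H₁ : Subgroup (Gam α) :=
    Subgroup.closure ((inl : G →* Gam α) '' (X₁ : Set G) ∪ {a0 α}) with hH₁
  have ha : Subgroup.zpowers (a0 α) ≤ H₁ :=
    Subgroup.zpowers_le.mpr (Subgroup.subset_closure (Or.inr rfl))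
  have hb : H₁ ≤ H := by
    rw [hH₁, Subgroup.closure_le]
    rintro _ (⟨x, hx, rfl⟩ | rfl)
    · exact hX₁X hx
    · exact h0
  have hH₂ : H ≤ Subgroup.closure ((inl : G →* Gam α) '' (X : Set G) ∪ {a0 α}) := by
    intro y hy
    have hz : Subgroup.zpowers (a0 α) ≤
        Subgroup.closure ((inl : G →* Gam α) '' (X : Set G) ∪ {a0 α}) :=
      Subgroup.zpowers_le.mpr (Subgroup.subset_closure (Or.inr rfl))
    rw [← inl_left_mul_inr_right y]
    exact Subgroup.mul_mem _
      (Subgroup.subset_closure (Or.inl ⟨y.left, left_mem_comap α h0 hy, rfl⟩))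
      (hz (inr_mem_zpowers α _))
  have hc : H ≤ Subgroup.normalizer (H₁ : Set (Gam α)) := by
    refine hH₂.trans ?_
    rw [Subgroup.closure_le]
    rintro _ (⟨u, hu, rfl⟩ | rfl)
    · apply mem_normalizer_of_conj_smul_le
      show H₁.map (MulAut.conj (inl u : Gam α)).toMonoidHom ≤ H₁
      rw [hH₁, MonoidHom.map_closure, Subgroup.closure_le]
      rintro _ ⟨_, (⟨x, hx, rfl⟩ | rfl), rfl⟩
      · have e : (MulAut.conj (inl u : Gam α)).toMonoidHom (inl x) = inl (u * x * u⁻¹) := by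
          simp [MulAut.conj_apply]
        rw [e]
        exact Subgroup.subset_closure (Or.inl ⟨_, hnormal u hu x hx, rfl⟩)
      · have e : (MulAut.conj (inl u : Gam α)).toMonoidHom (a0 α) = inl (cm α u) * a0 α := by
          rw [inl_cm]; simp [MulAut.conj_apply]
        rw [e]
        exact Subgroup.mul_mem _
          (Subgroup.subset_closure (Or.inl ⟨_, Subgroup.subset_closure ⟨u, hu, rfl⟩, rfl⟩))
          (Subgroup.subset_closure (Or.inr rfl))
    · exact Subgroup.le_normalizer (ha (Subgroup.mem_zpowers _))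
  have hd : H₁ = H := hcn.2 H₁ ha hb hc
  have he : H₁ ≤ Lam α X₁ hZ := by
    rw [hH₁, Subgroup.closure_le]
    rintro _ (⟨x, hx, rfl⟩ | rfl)
    · exact hx
    · exact X₁.one_mem
  intro x hx
  have h1 : (inl x : Gam α) ∈ H₁ := hd ▸ hx
  exact he h1

/-- the restriction of `α` to a stable subgroup. -/
def restr (X : Subgroup G) (h1 : ∀ x ∈ X, α x ∈ X) (h2 : ∀ x ∈ X, α⁻¹ x ∈ X) : MulAut ↥X where
  toFun x := ⟨α x, h1 x x.2⟩
  invFun x := ⟨α⁻¹ x, h2 x x.2⟩
  left_inv x := Subtype.ext (by simp)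
  right_inv x := Subtype.ext (by simp)
  map_mul' x y := Subtype.ext (by simp)

variable {X : Subgroup G} (h1 : ∀ x ∈ X, α x ∈ X) (h2 : ∀ x ∈ X, α⁻¹ x ∈ X)

theorem coe_cm_restr (x : ↥X) : ((cm (restr α X h1 h2) x : ↥X) : G) = cm α x := rfl

theorem coe_iter_restr (k : ℕ) (x : ↥X) :
    (((cm (restr α X h1 h2))^[k] x : ↥X) : G) = (cm α)^[k] x := by
  induction k generalizing x with
  | zero => rfl
  | succ k ih =>
    rw [Function.iterate_succ_apply, ih, Function.iterate_succ_apply, coe_cm_restr]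

theorem closure_range_restr_eq_top
    (h : X ≤ Subgroup.closure (cm α '' (X : Set G))) :
    Subgroup.closure (Set.range (cm (restr α X h1 h2))) = ⊤ := by
  rw [eq_top_iff]
  intro y _
  have hy : (y : G) ∈ Subgroup.closure (cm α '' (X : Set G)) := h y.2
  have e : cm α '' (X : Set G) = X.subtype '' Set.range (cm (restr α X h1 h2)) := by
    ext z
    constructor
    · rintro ⟨c, hc, rfl⟩
      exact ⟨cm (restr α X h1 h2) ⟨c, hc⟩, ⟨_, rfl⟩, rfl⟩
    · rintro ⟨_, ⟨c, rfl⟩, rfl⟩
      exact ⟨c, c.2, rfl⟩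
  rw [e, ← MonoidHom.map_closure] at hy
  obtain ⟨z, hz, hzy⟩ := hy
  have : z = y := Subtype.ext hzy
  exact this ▸ hz

theorem le_of_closure_range_iter_restr (k : ℕ)
    (h : Subgroup.closure (Set.range ((cm (restr α X h1 h2))^[k])) = ⊤) :
    X ≤ Subgroup.closure (Set.range ((cm α)^[k])) := by
  intro x hx
  have h3 : (⟨x, hx⟩ : ↥X) ∈ Subgroup.closure (Set.range ((cm (restr α X h1 h2))^[k])) :=
    h ▸ Subgroup.mem_top _
  have h4 : (Subgroup.closure (Set.range ((cm (restr α X h1 h2))^[k]))).map X.subtype ≤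
      Subgroup.closure (Set.range ((cm α)^[k])) := by
    rw [MonoidHom.map_closure, Subgroup.closure_le]
    rintro _ ⟨_, ⟨c, rfl⟩, rfl⟩
    apply Subgroup.subset_closure
    exact ⟨c, (coe_iter_restr α h1 h2 k c).symm⟩
  exact h4 ⟨⟨x, hx⟩, h3, rfl⟩


theorem iter_comm_aux : ∀ (n : ℕ) (G : Type u) [Group G] [Finite G], Nat.card G = n →
    ∀ (α : MulAut G), Subgroup.closure (Set.range (cm α)) = ⊤ → ∀ k : ℕ,
      Subgroup.closure (Set.range ((cm α)^[k])) = ⊤ := by
  intro n
  induction n using Nat.strong_induction_on with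
  | _ n IH =>
    intro G _ _ hn α hG k
    by_contra hN
    have hst := closure_iter_stable α (X := ⊤) (fun x _ => Subgroup.mem_top _)
      (fun x _ => Subgroup.mem_top _) k
    rw [Subgroup.coe_top, Set.image_univ] at hst
    have hNZ := zpowers_invariant α hst.1 hst.2
    have hΛ : Lam α _ hNZ ≠ ⊤ := by
      intro h
      apply hN
      rw [eq_top_iff]
      intro g _
      have : (inl g : Gam α) ∈ Lam α _ hNZ := h ▸ Subgroup.mem_top _
      exact this
    have ha0Λ : a0 α ∈ Lam α _ hNZ := by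
      show (a0 α).left ∈ Subgroup.closure (Set.range ((cm α)^[k]))
      exact Subgroup.one_mem _
    have hAΛ : Subgroup.zpowers (a0 α) ≤ Lam α _ hNZ := Subgroup.zpowers_le.mpr ha0Λ
    have hAtop : Subgroup.zpowers (a0 α) ≠ ⊤ := fun h => hΛ (top_le_iff.mp (h ▸ hAΛ))
    rcases second_maximizer (Subgroup.zpowers (a0 α)) hAtop (cn_top α hG) with h | h
    · apply hΛ
      rw [eq_top_iff, ← h]
      apply sSup_le
      rintro H ⟨hHtop, hcn⟩
      have h0 : a0 α ∈ H := hcn.1 (Subgroup.mem_zpowers _)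
      obtain ⟨hX1, hX2⟩ := comap_stable α h0
      have hXtop : H.comap (inl : G →* Gam α) ≠ ⊤ := by
        intro hX
        apply hHtop
        apply eq_top_of_mem α h0
        intro g
        have : g ∈ H.comap (inl : G →* Gam α) := hX ▸ Subgroup.mem_top g
        exact this
      have hXcomm := comm_eq_of_cn α hcn
      have hcardX : Nat.card (H.comap (inl : G →* Gam α)) < n := by
        have := card_lt_of_lt (lt_top_iff_ne_top.mpr hXtop)
        rwa [Subgroup.card_top, hn] at this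
      have h5 := IH _ hcardX (↥(H.comap (inl : G →* Gam α))) rfl (restr α _ hX1 hX2)
        (closure_range_restr_eq_top α hX1 hX2 hXcomm) k
      have hXN := le_of_closure_range_iter_restr α hX1 hX2 k h5
      intro y hy
      exact hXN (left_mem_comap α h0 hy)
    · obtain ⟨Ms, hMs, hΛMs⟩ := (eq_top_or_exists_le_coatom _).resolve_left hΛ
      have hAMs : Subgroup.zpowers (a0 α) ≤ Ms := hAΛ.trans hΛMs
      have ha0 : a0 α ∈ Ms := hAMs (Subgroup.mem_zpowers _)
      have hnorm : Subgroup.normalizer (Ms : Set (Gam α)) ≤ Ms := by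
        by_contra hcon
        have hlt : Ms < Subgroup.normalizer (Ms : Set (Gam α)) :=
          lt_of_le_of_ne Subgroup.le_normalizer (fun e => hcon e.symm.le)
        have htop := hMs.2 _ hlt
        exact hMs.1 ((cn_top α hG).2 Ms hAMs le_top (htop ▸ le_rfl))
      have step : ∀ d : G, (inl (cm α d) : Gam α) ∈ Ms → (inl d : Gam α) ∈ Ms := by
        intro d hd
        rw [inl_cm] at hd
        have h1 : (inl d : Gam α) * a0 α * (inl d)⁻¹ ∈ Ms := by
          have := Ms.mul_mem hd ha0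
          simpa [mul_assoc] using this
        have h2 : Subgroup.zpowers (a0 α) ≤ MulAut.conj (inl d : Gam α)⁻¹ • Ms := by
          rw [Subgroup.zpowers_le, Subgroup.mem_pointwise_smul_iff_inv_smul_mem]
          simpa [MulAut.smul_def, mul_assoc] using h1
        have h3 := h Ms _ hMs (isCoatom_conj_smul hMs _) hAMs h2
        have h4 : (inl d : Gam α)⁻¹ ∈ Subgroup.normalizer (Ms : Set (Gam α)) :=
          mem_normalizer_iff_conj_smul.mpr h3.symm
        have h5 := Ms.inv_mem (hnorm h4)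
        simpa using h5
      have iter : ∀ j : ℕ, ∀ c : G, (inl ((cm α)^[j] c) : Gam α) ∈ Ms → (inl c : Gam α) ∈ Ms := by
        intro j
        induction j with
        | zero => intro c hc; exact hc
        | succ j ihj =>
          intro c hc
          rw [Function.iterate_succ_apply'] at hc
          exact ihj c (step _ hc)
      apply hMs.1
      apply eq_top_of_mem α ha0
      intro c
      apply iter k c
      apply hΛMs
      show (cm α)^[k] c ∈ Subgroup.closure (Set.range ((cm α)^[k]))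
      exact Subgroup.subset_closure ⟨c, rfl⟩

/-- **Wielandt**: if `[G, α] = G` then the `k`-fold commutators `[g, α, …, α]` generate `G`. -/
theorem iter_comm [Finite G] (hG : Subgroup.closure (Set.range (fun c : G => c * (α c)⁻¹)) = ⊤)
    (k : ℕ) : Subgroup.closure (Set.range ((fun c : G => c * (α c)⁻¹)^[k])) = ⊤ :=
  iter_comm_aux _ G rfl α hG k

end Cfsg.Agent.Lib.Helper29.IterComm
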