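import Mathlib
import Cfsg.Prelude.Def_GeometricClasses
import Cfsg.Agent.Lib.Helper49.SemisimpleConj

/-!
# Keystone 596504 K-SUB-4 (`isPow_of_sl`) for helper49's S5965 pack.
-/

set_option autoImplicit false

namespace Cfsg.Agent.Lib.Helper29.SUB

open Matrix Polynomial

variable {F : Type*} [Field F] [Fintype F]

/-- **K-SUB-4 (id 596504)**. -/
theorem isPow_of_sl (r : ℕ) [Fact r.Prime] (hr2 : r ≠ 2) (n : ℕ) (hn : 1 ≤ n)
    (hv : r ∣ Fintype.card F - 1 → padicValNat r n ≤ padicValNat r (Fintype.card F - 1))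
    (x : GL (Fin n) F) (hx : x ∈ Cfsg.Geo.specialLinear (Fin n) F) (z : F)
    (hz : ((x ^ r : GL (Fin n) F) : Matrix (Fin n) (Fin n) F) =
      z • (1 : Matrix (Fin n) (Fin n) F)) : ∃ l : F, l ^ r = z := by
  classical
  have hr : r.Prime := Fact.out
  have hrodd : Odd r := hr.odd_of_ne_two hr2
  by_contra hno
  simp only [not_exists] at hno
  have hz0 : z ≠ 0 := fun h => hno 0 (by rw [h, zero_pow hr.ne_zero])
  by_cases hdiv : r ∣ Fintype.card F - 1
  swap
  · -- the power map is bijective on units
    have hcop : (Nat.card Fˣ).Coprime r := by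
      rw [Nat.card_eq_fintype_card, Fintype.card_units F]
      exact ((Nat.Prime.coprime_iff_not_dvd hr).mpr hdiv).symm
    obtain ⟨l, hl⟩ := (powCoprime hcop).surjective (Units.mk0 z hz0)
    apply hno (l : F)
    have := congrArg Units.val hl
    simpa [powCoprime] using this
  · set X : Matrix (Fin n) (Fin n) F := (x : Matrix (Fin n) (Fin n) F) with hX
    have hXr : X ^ r = z • (1 : Matrix (Fin n) (Fin n) F) := by
      rw [← hz, Units.val_pow_eq_pow_val]
    have hdet : X.det = 1 := by
      have h1 : Matrix.GeneralLinearGroup.det x = 1 := hx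
      have h2 := congrArg Units.val h1
      simpa using h2
    have hirr : Irreducible (Polynomial.X ^ r - Polynomial.C z : F[X]) :=
      X_pow_sub_C_irreducible_of_prime hr hno
    have hmonic : (Polynomial.X ^ r - Polynomial.C z : F[X]).Monic :=
      Polynomial.monic_X_pow_sub_C z hr.ne_zero
    have haeval : Polynomial.aeval X (Polynomial.X ^ r - Polynomial.C z : F[X]) = 0 := by
      rw [map_sub, map_pow, Polynomial.aeval_X, Polynomial.aeval_C, hXr,
        Algebra.algebraMap_eq_smul_one, sub_self]
    have hdvd := Cfsg.Agent.Lib.Helper49.charpoly_dvd_pow_of_aeval_eq_zero X _ haeval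
    obtain ⟨m, -, hassoc⟩ := (dvd_prime_pow hirr.prime _).mp hdvd
    have hchar : X.charpoly = (Polynomial.X ^ r - Polynomial.C z : F[X]) ^ m :=
      Polynomial.eq_of_monic_of_associated (Matrix.charpoly_monic X) (hmonic.pow m) hassoc
    have hnm : n = m * r := by
      have h1 := congrArg Polynomial.natDegree hchar
      rw [Matrix.charpoly_natDegree_eq_dim, Fintype.card_fin, hmonic.natDegree_pow,
        Polynomial.natDegree_X_pow_sub_C] at h1
      exact h1
    have hzm : z ^ m = 1 := by
      have hdet2 := Matrix.det_eq_sign_charpoly_coeff X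
      rw [hchar, Fintype.card_fin, hdet, Polynomial.coeff_zero_eq_eval_zero, Polynomial.eval_pow,
        Polynomial.eval_sub, Polynomial.eval_pow, Polynomial.eval_X, Polynomial.eval_C,
        zero_pow hr.ne_zero, zero_sub, hnm, pow_mul] at hdet2
      have h4 : (((-1 : F)) ^ m) ^ r = (-1) ^ m := by
        rw [← pow_mul, mul_comm, pow_mul, hrodd.neg_one_pow]
      rw [h4, ← mul_pow] at hdet2
      rw [hdet2]
      congr 1
      ring
    -- order argument
    obtain ⟨g, hg⟩ := IsCyclic.exists_generator (α := Fˣ)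
    obtain ⟨j, hj⟩ : ∃ j : ℕ, g ^ j = Units.mk0 z hz0 := by
      have h1 : Units.mk0 z hz0 ∈ Subgroup.zpowers g := hg _
      rw [← mem_powers_iff_mem_zpowers] at h1
      exact h1
    have hrj : ¬ r ∣ j := by
      rintro ⟨j', rfl⟩
      apply hno ((g ^ j' : Fˣ) : F)
      have := congrArg Units.val hj
      rw [Units.val_mk0] at this
      rw [← this, ← Units.val_pow_eq_pow_val, ← pow_mul, mul_comm]
    have hord : orderOf g = Fintype.card F - 1 := by
      rw [orderOf_eq_card_of_forall_mem_zpowers hg, Nat.card_eq_fintype_card, Fintype.card_units F]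
    have hjm : Fintype.card F - 1 ∣ j * m := by
      rw [← hord]
      apply orderOf_dvd_of_pow_eq_one
      rw [pow_mul, hj]
      apply Units.ext
      rw [Units.val_pow_eq_pow_val, Units.val_mk0, hzm, Units.val_one]
    set a := padicValNat r (Fintype.card F - 1) with ha
    have h1 : r ^ a ∣ j * m := (pow_padicValNat_dvd).trans hjm
    have hcop : Nat.Coprime (r ^ a) j :=
      Nat.Coprime.pow_left a ((Nat.Prime.coprime_iff_not_dvd hr).mpr hrj)
    have h2 : r ^ a ∣ m := hcop.dvd_of_dvd_mul_left h1
    have h3 : r ^ (a + 1) ∣ n := by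
      rw [hnm, pow_succ]
      exact Nat.mul_dvd_mul h2 (dvd_refl r)
    have hn0 : n ≠ 0 := by omega
    have h4 : a + 1 ≤ padicValNat r n := (padicValNat_dvd_iff_le hn0).mp h3
    have h5 := hv hdiv
    omega

end Cfsg.Agent.Lib.Helper29.SUB
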