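import Mathlib
import Cfsg.Prelude.Def_OddOrderLocal
import Cfsg.Agent.S1405
import Cfsg.Agent.S1406
import Cfsg.Agent.Lib.Helper30.Generation
import Cfsg.Agent.Lib.Helper31.Transitivity
import Cfsg.Agent.Lib.Helper71.BG10Sub

/-!
# K-S1416-K5 (backup): `M_α = 1` (STEP 2 of BG Lemma 12.4)
-/

set_option autoImplicit false
set_option linter.unusedSectionVars false

namespace Cfsg.Agent.Lib.Helper29.BG124

open Cfsg

variable {G : Type*} [Group G] [Finite G]

variable {M A : Subgroup G} {p : ℕ} [Fact p.Prime]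

theorem alphaCore_eq_bot (hG : IsMinSimpleOddOrder G) (hM : IsCoatom M) (hAM : A ≤ M)
    (hAe : IsElementaryAbelian p A) (hA2 : Nat.card A = p ^ 2) (hα : p ∉ alpha M)
    (h : ∀ A₀ : Subgroup G, A₀ ≤ A → Nat.card A₀ = p → ∃ H : Subgroup G, IsCoatom H ∧ H ≠ M ∧
      Subgroup.normalizer (A₀ : Set G) ≤ H ∧
      A ≤ Subgroup.centralizer ((alphaCore M ⊓ H : Subgroup G) : Set G)) :
    alphaCore M = ⊥ := by
  have hpp : p.Prime := Fact.out
  obtain ⟨hHall, -, -, -, -⟩ := Cfsg.Agent.S1405.result hG M hM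
  have hMn : M ≤ Subgroup.normalizer (alphaCore M : Set G) :=
    Cfsg.Agent.Lib.Helper31.le_normalizer_piCoreOf (alpha M) M
  have hpX : ¬ p ∣ Nat.card (alphaCore M) := fun hd => hα (hHall.2.1 p hpp hd)
  -- Step 1: `M_α ≤ C(A)` by coprime generation
  have hcent : alphaCore M ≤ Subgroup.centralizer (A : Set G) := by
    refine Cfsg.Agent.Lib.Helper30.coprime_generation p A
      (fun a ha b hb => congrArg Subtype.val (hAe.1.is_comm.comm (⟨a, ha⟩ : A) ⟨b, hb⟩))
      hAe.2 hA2.ge (alphaCore M) (hAM.trans hMn) hpX _ ?_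
    intro B hBA hBidx
    have hBcard : Nat.card B = p := by
      have h1 : Nat.card B * B.relIndex A = Nat.card A := by
        rw [← Subgroup.relIndex_bot_left, ← Subgroup.relIndex_bot_left]
        exact Subgroup.relIndex_mul_relIndex _ _ _ bot_le hBA
      rw [hBidx, hA2, pow_two] at h1
      exact Nat.eq_of_mul_eq_mul_right hpp.pos h1
    obtain ⟨H, -, -, hNH, hAH⟩ := h B hBA hBcard
    intro x hx
    obtain ⟨hx1, hx2⟩ := Subgroup.mem_inf.mp hx
    have hxH : x ∈ alphaCore M ⊓ H :=
      Subgroup.mem_inf.mpr ⟨hx1, hNH (Subgroup.centralizer_le_normalizer _ hx2)⟩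
    rw [Subgroup.mem_centralizer_iff]
    intro a ha
    exact ((Subgroup.mem_centralizer_iff.mp (hAH ha)) x hxH).symm
  by_contra hne
  -- Step 2: a prime `q` dividing `|M_α|`, an `E_{q³}` inside `M_α`
  have hcard1 : Nat.card (alphaCore M) ≠ 1 := fun h1 => hne (Subgroup.card_eq_one.mp h1)
  obtain ⟨q, hq, hqd⟩ := Nat.exists_prime_and_dvd hcard1
  have hqα : q ∈ alpha M := hHall.2.1 q hq hqd
  have hr : ¬ RankLE 1 ↥(alphaCore M ⊓ Subgroup.centralizer (A : Set G)) := by
    intro hR
    apply hqα.2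
    -- an elementary abelian subgroup `E` of `M` lies in `M_α`
    intro E hEc hEe
    have hEM : E.map M.subtype ≤ M := Subgroup.map_subtype_le _
    have hEπ : ∀ r : ℕ, r.Prime → r ∣ Nat.card (E.map M.subtype) → r ∈ alpha M := by
      intro r hr hrd
      rw [Subgroup.card_map_of_injective M.subtype_injective] at hrd
      -- `E` is a `q`-group
      have hEq : IsPGroup q E := by
        intro e
        refine ⟨1, ?_⟩
        rw [pow_one]
        exact Subtype.ext (by
          rw [SubgroupClass.coe_pow]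
          exact hEe e.1 e.2)
      haveI : Fact q.Prime := ⟨hq⟩
      obtain ⟨n, hn⟩ := IsPGroup.iff_card.mp hEq
      rw [hn] at hrd
      have : r = q := (Nat.prime_dvd_prime_iff_eq hr hq).mp (hr.dvd_of_dvd_pow hrd)
      rw [this]; exact hqα
    have hEα : E.map M.subtype ≤ alphaCore M :=
      Cfsg.Agent.Lib.Helper71.BG10.le_of_isPiHallOf_normal hHall hMn hEM hEπ
    have hEle : E.map M.subtype ≤ alphaCore M ⊓ Subgroup.centralizer (A : Set G) :=
      le_inf hEα (hEα.trans hcent)
    -- transport `E` into the subgroup `M_α ⊓ C(A)`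
    have h1 := hR q hq ((E.map M.subtype).subgroupOf (alphaCore M ⊓ Subgroup.centralizer (A : Set G)))
      ⟨⟨fun a b => Subtype.ext (Subtype.ext (by
        obtain ⟨a', ha', haa⟩ := Subgroup.mem_subgroupOf.mp a.2
        obtain ⟨b', hb', hbb⟩ := Subgroup.mem_subgroupOf.mp b.2
        have hc := hEc.is_comm.comm (⟨a', ha'⟩ : E) ⟨b', hb'⟩
        have hc' : (a' : G) * b' = b' * a' := by
          have := congrArg (fun t : E => ((t : M) : G)) hc
          simpa using this
        show ((a : ↥(alphaCore M ⊓ Subgroup.centralizer (A : Set G))) : G) * _ = _ * _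
        simp only [← haa, ← hbb] at *
        simpa using hc'))⟩⟩
      (fun a ha => by
        obtain ⟨a', ha', haa⟩ := Subgroup.mem_subgroupOf.mp ha
        apply Subtype.ext
        have := congrArg (fun t : M => (t : G)) (hEe a' ha')
        simp only [SubgroupClass.coe_pow, OneMemClass.coe_one] at this ⊢
        rw [← haa]; simpa using this)
    have h2 : Nat.card ((E.map M.subtype).subgroupOf
        (alphaCore M ⊓ Subgroup.centralizer (A : Set G))) = Nat.card E := by
      rw [Nat.card_congr (Subgroup.subgroupOfEquivOfLe hEle).toEquiv,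
        Subgroup.card_map_of_injective M.subtype_injective]
    rw [h2] at h1
    exact h1.trans (Nat.pow_le_pow_right hq.pos (by norm_num))
  -- Step 3: S1406 and the contradiction
  have hXα : ∀ r : ℕ, r.Prime → r ∣ Nat.card A → r ∉ alpha M := by
    intro r hr hrd
    rw [hA2] at hrd
    have : r = p := (Nat.prime_dvd_prime_iff_eq hr hpp).mp (hr.dvd_of_dvd_pow hrd)
    rw [this]; exact hα
  obtain ⟨M', -, huniq⟩ := Cfsg.Agent.S1406.result hG M hM A hAM hXα hr
  -- a subgroup of order `p` of `A`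
  have hpA : p ∣ Nat.card A := by rw [hA2]; exact dvd_pow_self p (by norm_num)
  obtain ⟨a, ha⟩ := exists_prime_orderOf_dvd_card' (G := A) p hpA
  have hA0le : Subgroup.zpowers (a : G) ≤ A := Subgroup.zpowers_le.mpr a.2
  have hA0card : Nat.card (Subgroup.zpowers (a : G)) = p := by
    rw [Nat.card_zpowers, Subgroup.orderOf_coe, ha]
  obtain ⟨H, hH, hHne, hNH, -⟩ := h _ hA0le hA0card
  have hle : M ⊓ Subgroup.centralizer (A : Set G) ≤ H := by
    intro x hx
    apply hNH
    apply Subgroup.centralizer_le_normalizer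
    exact Subgroup.centralizer_le (SetLike.coe_subset_coe.mpr hA0le) (Subgroup.mem_inf.mp hx).2
  have e1 := huniq H ⟨hH, hle⟩
  have e2 := huniq M ⟨hM, inf_le_left⟩
  exact hHne (e1.trans e2.symm)

end Cfsg.Agent.Lib.Helper29.BG124
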