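import Mathlib

set_option autoImplicit false

namespace Cfsg.Agent.Lib.Helper29.BG1383

open scoped commutatorElement

/-- a nonabelian group of order `p ^ 3`: the centre has order `p` and equals the derived group
(same statement as helper40's `cube_facts`, re-proved here to keep this file on Mathlib only). -/
theorem cube_facts29 {H : Type*} [Group H] [Finite H] {p : ℕ}
    [hp : Fact p.Prime] (hH : Nat.card H = p ^ 3) (hnc : ∃ a b : H, a * b ≠ b * a) :
    Nat.card (Subgroup.center H) = p ∧ commutator H = Subgroup.center H := by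
  have hpp : p.Prime := hp.out
  have hP : IsPGroup p H := IsPGroup.of_card hH
  have hnt : Nontrivial H := by
    obtain ⟨a, b, hab⟩ := hnc
    exact ⟨⟨a * b, b * a, hab⟩⟩
  have hZnt : Nontrivial (Subgroup.center H) := hP.center_nontrivial
  have hdvd : Nat.card (Subgroup.center H) ∣ p ^ 3 := hH ▸ Subgroup.card_subgroup_dvd_card _
  obtain ⟨k, hk3, hk⟩ := (Nat.dvd_prime_pow hpp).1 hdvd
  have hidx : (Subgroup.center H).index * p ^ k = p ^ 3 := by
    rw [← hk, ← hH, mul_comm]
    exact Subgroup.card_mul_index _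
  have hk0 : k ≠ 0 := by
    rintro rfl
    rw [pow_zero] at hk
    have := (Subgroup.card_eq_one.1 hk)
    exact (Subgroup.nontrivial_iff_ne_bot _).1 hZnt this
  have hk3' : k ≠ 3 := by
    rintro rfl
    have : Subgroup.center H = ⊤ := by
      apply Subgroup.eq_top_of_card_eq
      rw [hk, hH]
    obtain ⟨a, b, hab⟩ := hnc
    have hb : b ∈ Subgroup.center H := this ▸ Subgroup.mem_top b
    exact hab ((Subgroup.mem_center_iff.1 hb a).symm ▸ rfl)
  have hk2 : k ≠ 2 := by
    rintro rfl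
    have hi : (Subgroup.center H).index = p := by
      have h1 : (Subgroup.center H).index * p ^ 2 = p * p ^ 2 := by rw [hidx]; ring
      exact Nat.eq_of_mul_eq_mul_right (pow_pos hpp.pos 2) h1
    have hc : Nat.card (H ⧸ Subgroup.center H) = p := by
      rw [← Subgroup.index_eq_card]; exact hi
    have hcyc : IsCyclic (H ⧸ Subgroup.center H) := isCyclic_of_prime_card hc
    have := MonoidHom.isMulCommutative_of_isCyclic_of_ker_le_center
      (QuotientGroup.mk' (Subgroup.center H)) (by rw [QuotientGroup.ker_mk'])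
    obtain ⟨a, b, hab⟩ := hnc
    exact hab (this.is_comm.comm a b)
  have hk1 : k = 1 := by omega
  subst hk1
  rw [pow_one] at hk
  have hi : (Subgroup.center H).index = p ^ 2 := by
    have h1 : (Subgroup.center H).index * p ^ 1 = p ^ 2 * p ^ 1 := by rw [hidx]; ring
    exact Nat.eq_of_mul_eq_mul_right (pow_pos hpp.pos 1) h1
  have hc : Nat.card (H ⧸ Subgroup.center H) = p ^ 2 := by
    rw [← Subgroup.index_eq_card]; exact hi
  have hcomm := (IsPGroup.isMulCommutative_of_card_eq_prime_sq hc).is_comm.comm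
  have hle : commutator H ≤ Subgroup.center H := by
    rw [_root_.commutator_def, Subgroup.commutator_le]
    intro a _ b _
    rw [← QuotientGroup.eq_one_iff, commutatorElement_def]
    simp only [QuotientGroup.mk_mul, QuotientGroup.mk_inv]
    rw [hcomm (a : H ⧸ Subgroup.center H) b]
    simp
  have hne : commutator H ≠ ⊥ := by
    intro h
    obtain ⟨a, b, hab⟩ := hnc
    have : ⁅a, b⁆ ∈ commutator H := by
      rw [_root_.commutator_def]
      exact Subgroup.commutator_mem_commutator (Subgroup.mem_top a) (Subgroup.mem_top b)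
    rw [h, Subgroup.mem_bot, commutatorElement_eq_one_iff_mul_comm] at this
    exact hab this
  have hcd : Nat.card (commutator H) ∣ p := hk ▸ Subgroup.card_dvd_of_le hle
  refine ⟨hk, ?_⟩
  rcases (Nat.dvd_prime hpp).1 hcd with h1 | h1
  · exact absurd (Subgroup.card_eq_one.1 h1) hne
  · exact Subgroup.eq_of_le_of_card_ge hle (by rw [hk, h1])

/-- a central factor on the left argument drops out of a commutator. -/
theorem comm_mul_central_left {H : Type*} [Group H] (x y z : H) (hz : z ∈ Subgroup.center H) :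
    ⁅x * z, y⁆ = ⁅x, y⁆ := by
  have h1 : y * z = z * y := Subgroup.mem_center_iff.1 hz y
  rw [commutatorElement_def, commutatorElement_def, mul_inv_rev]
  calc x * z * y * (z⁻¹ * x⁻¹) * y⁻¹ = x * (z * y) * z⁻¹ * x⁻¹ * y⁻¹ := by group
    _ = x * (y * z) * z⁻¹ * x⁻¹ * y⁻¹ := by rw [h1]
    _ = x * y * x⁻¹ * y⁻¹ := by group

/-- a central factor on the right argument drops out of a commutator. -/
theorem comm_mul_central_right {H : Type*} [Group H] (x y z : H) (hz : z ∈ Subgroup.center H) :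
    ⁅x, y * z⁆ = ⁅x, y⁆ := by
  have h1 : x * z = z * x := Subgroup.mem_center_iff.1 hz x
  rw [commutatorElement_def, commutatorElement_def, mul_inv_rev]
  calc x * (y * z) * x⁻¹ * (z⁻¹ * y⁻¹) = x * y * (z * x⁻¹ * z⁻¹) * y⁻¹ := by group
    _ = x * y * x⁻¹ * y⁻¹ := by
        have : z * x⁻¹ * z⁻¹ = x⁻¹ := by
          have h2 : x⁻¹ * z = z * x⁻¹ := Subgroup.mem_center_iff.1 hz x⁻¹
          rw [← h2]; group
        rw [this]

/-- `⁅x, y ^ n⁆ = ⁅x, y⁆ ^ n` when the commutator is central. -/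
theorem comm_pow_right {H : Type*} [Group H] (x y : H) (hc : ⁅x, y⁆ ∈ Subgroup.center H) (n : ℕ) :
    ⁅x, y ^ n⁆ = ⁅x, y⁆ ^ n := by
  have h1 : x * y * x⁻¹ = ⁅x, y⁆ * y := by rw [commutatorElement_def]; group
  have h2 : Commute ⁅x, y⁆ y := (Subgroup.mem_center_iff.1 hc y).symm
  have h3 : x * y ^ n * x⁻¹ = ⁅x, y⁆ ^ n * y ^ n := by
    rw [← conj_pow, h1, h2.mul_pow]
  rw [commutatorElement_def x (y ^ n), h3]; group

/-- `⁅x ^ m, y⁆ = ⁅x, y⁆ ^ m` when the commutator is central. -/
theorem comm_pow_left {H : Type*} [Group H] (x y : H) (hc : ⁅x, y⁆ ∈ Subgroup.center H) (m : ℕ) :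
    ⁅x ^ m, y⁆ = ⁅x, y⁆ ^ m := by
  have hc' : ⁅y, x⁆ ∈ Subgroup.center H := by
    rw [← commutatorElement_inv]; exact inv_mem hc
  rw [← commutatorElement_inv, comm_pow_right y x hc' m, ← inv_pow, commutatorElement_inv]


/-- abstract core of K-1383-E2. -/
theorem core_E2 {H A : Type*} [Group H] [Finite H] [Group A] [Finite A] [IsCyclic A]
    (p : ℕ) [Fact p.Prime] (hp : p ≠ 2) (hH : Nat.card H = p ^ 3)
    (hna : ∃ a b : H, a * b ≠ b * a)
    (φ : A →* MulAut H) (hcop : (Nat.card A).Coprime p) (hodd : Odd (Nat.card A))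
    (hZfix : ∀ k : A, ∀ z ∈ Subgroup.center H, φ k z = z)
    (hfix : ∀ k : A, k ≠ 1 → ∀ x : H, φ k x = x → x ∈ Subgroup.center H)
    (hline : ∃ a : A, a ≠ 1 ∧ ∃ v : H, v ∉ Subgroup.center H ∧
      φ a v ∈ Subgroup.zpowers v ⊔ Subgroup.center H) :
    Nat.card A ∣ p - 1 := by
  classical
  have hpp : p.Prime := Fact.out
  obtain ⟨hcZ, hcomm⟩ := cube_facts29 hH hna
  set Zc : Subgroup H := Subgroup.center H with hZc
  -- commutators are central
  have hcc : ∀ x y : H, ⁅x, y⁆ ∈ Zc := by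
    intro x y
    rw [← hcomm, _root_.commutator_def]
    exact Subgroup.commutator_mem_commutator (Subgroup.mem_top x) (Subgroup.mem_top y)
  -- the quotient
  have hcQ : Nat.card (H ⧸ Zc) = p ^ 2 := by
    have h1 := Subgroup.card_eq_card_quotient_mul_card_subgroup Zc
    rw [hH, hcZ] at h1
    have h2 : Nat.card (H ⧸ Zc) * p = p ^ 2 * p := by rw [← h1]; ring
    exact Nat.eq_of_mul_eq_mul_right hpp.pos h2
  have hQc : ∀ x y : H ⧸ Zc, x * y = y * x :=
    (IsPGroup.isMulCommutative_of_card_eq_prime_sq hcQ).is_comm.comm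
  -- exponent p
  have hQexp : ∀ q : H ⧸ Zc, q ^ p = 1 := by
    intro q
    have hd : orderOf q ∣ p ^ 2 := hcQ ▸ orderOf_dvd_natCard q
    obtain ⟨s, hs2, hs⟩ := (Nat.dvd_prime_pow hpp).1 hd
    have hs' : s ≠ 2 := by
      rintro rfl
      have hcyc : IsCyclic (H ⧸ Zc) := isCyclic_of_orderOf_eq_card q (by rw [hs, hcQ])
      have := MonoidHom.isMulCommutative_of_isCyclic_of_ker_le_center
        (QuotientGroup.mk' Zc) (by rw [QuotientGroup.ker_mk'])
      obtain ⟨a, b, hab⟩ := hna
      exact hab (this.is_comm.comm a b)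
    have hs1 : s ≤ 1 := by omega
    have : orderOf q ∣ p := by
      rw [hs]; exact pow_dvd_pow p hs1 |>.trans (by rw [pow_one])
    exact orderOf_dvd_iff_pow_eq_one.1 this
  -- elements of Zc have p-th power one
  have hZexp : ∀ z ∈ Zc, z ^ p = 1 := by
    intro z hz
    have := Subgroup.orderOf_dvd_natCard Zc hz
    rw [hcZ] at this
    exact orderOf_dvd_iff_pow_eq_one.1 this
  -- induced maps on the quotient
  have hcomap : ∀ k : A, Zc ≤ Subgroup.comap (φ k).toMonoidHom Zc := by
    intro k z hz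
    rw [Subgroup.mem_comap]
    show φ k z ∈ Zc
    rw [hZfix k z hz]; exact hz
  let ψ : A → (H ⧸ Zc →* H ⧸ Zc) := fun k => QuotientGroup.map Zc Zc (φ k).toMonoidHom (hcomap k)
  have hψ : ∀ (k : A) (x : H), ψ k (x : H ⧸ Zc) = ((φ k x : H) : H ⧸ Zc) := by
    intro k x; rfl
  -- Step A: trivial action modulo the centre is trivial
  have stepA : ∀ (k : A) (w : H), ((φ k w : H) : H ⧸ Zc) = (w : H ⧸ Zc) → φ k w = w := by
    intro k w hkw
    have hz : w⁻¹ * φ k w ∈ Zc := by
      have := QuotientGroup.eq.1 hkw.symm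
      exact this
    set z := w⁻¹ * φ k w with hzdef
    have hkw' : φ k w = w * z := by rw [hzdef]; group
    have hit : ∀ n : ℕ, φ (k ^ n) w = w * z ^ n := by
      intro n
      induction n with
      | zero => simp
      | succ n ih =>
        rw [pow_succ', map_mul, MulAut.mul_apply, ih, map_mul, map_pow, hZfix k z hz, hkw']
        rw [pow_succ']; group
    have h1 := hit (orderOf k)
    rw [pow_orderOf_eq_one, map_one, MulAut.one_apply] at h1
    have hz1 : z ^ orderOf k = 1 := by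
      have : w * z ^ orderOf k = w * 1 := by rw [mul_one]; exact h1.symm
      exact mul_left_cancel this
    have hz2 : z ^ p = 1 := hZexp z hz
    have hd1 : orderOf z ∣ orderOf k := orderOf_dvd_of_pow_eq_one hz1
    have hd2 : orderOf z ∣ p := orderOf_dvd_of_pow_eq_one hz2
    have hd3 : orderOf z ∣ Nat.card A := hd1.trans (orderOf_dvd_natCard k)
    have hd4 : orderOf z ∣ 1 := by
      have := Nat.dvd_gcd hd3 hd2
      rwa [Nat.Coprime.gcd_eq_one hcop] at this
    have hz3 : z = 1 := orderOf_eq_one_iff.1 (Nat.dvd_one.1 hd4)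
    rw [hkw', hz3, mul_one]
  obtain ⟨a, ha1, v, hvZ, hav⟩ := hline
  -- the eigenvalue j
  have hq1 : ((v : H) : H ⧸ Zc) ≠ 1 := by
    intro h; exact hvZ ((QuotientGroup.eq_one_iff v).1 h)
  obtain ⟨j, hj⟩ : ∃ j : ℕ, ((φ a v : H) : H ⧸ Zc) = ((v : H) : H ⧸ Zc) ^ j := by
    have h1 : ((φ a v : H) : H ⧸ Zc) ∈
        Subgroup.map (QuotientGroup.mk' Zc) (Subgroup.zpowers v ⊔ Zc) :=
      Subgroup.mem_map_of_mem _ hav
    rw [Subgroup.map_sup, QuotientGroup.map_mk'_self, sup_bot_eq, MonoidHom.map_zpowers] at h1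
    rw [← mem_powers_iff_mem_zpowers] at h1
    obtain ⟨j, hj⟩ := h1
    exact ⟨j, hj.symm⟩
  -- the eigenspace
  let E : Subgroup H :=
    { carrier := {x | ((φ a x : H) : H ⧸ Zc) = ((x : H) : H ⧸ Zc) ^ j}
      one_mem' := by simp
      mul_mem' := by
        intro x y hx hy
        simp only [Set.mem_ofPred_eq] at hx hy ⊢
        rw [map_mul, QuotientGroup.mk_mul, hx, hy, QuotientGroup.mk_mul,
          (show Commute ((x : H) : H ⧸ Zc) (y : H ⧸ Zc) from hQc _ _).mul_pow]
      inv_mem' := by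
        intro x hx
        simp only [Set.mem_ofPred_eq] at hx ⊢
        rw [map_inv, QuotientGroup.mk_inv, hx, QuotientGroup.mk_inv, inv_pow] }
  have hE : ∀ x : H, x ∈ E ↔ ((φ a x : H) : H ⧸ Zc) = ((x : H) : H ⧸ Zc) ^ j := fun x => Iff.rfl
  have hvE : v ∈ E := (hE v).2 hj
  have hZE : Zc ≤ E := by
    intro z hz
    rw [hE, hZfix a z hz, (QuotientGroup.eq_one_iff z).2 hz, one_pow]
  have hAcomm : ∀ k l : A, k * l = l * k := by
    letI := IsCyclic.commGroup (α := A)
    exact fun k l => mul_comm k l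
  -- E is invariant
  have hEinv : ∀ (c : A) (x : H), x ∈ E → φ c x ∈ E := by
    intro c x hx
    rw [hE] at hx ⊢
    have h1 : φ a (φ c x) = φ c (φ a x) := by
      rw [← MulAut.mul_apply, ← MulAut.mul_apply, ← map_mul, ← map_mul, hAcomm]
    rw [h1, ← hψ c (φ a x), hx, map_pow, hψ]
  -- E is not everything
  have hEtop : E ≠ ⊤ := by
    intro hEt
    obtain ⟨x, y, hxy⟩ := hna
    have hxE : x ∈ E := hEt ▸ Subgroup.mem_top x
    have hyE : y ∈ E := hEt ▸ Subgroup.mem_top y
    rw [hE] at hxE hyE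
    set c := ⁅x, y⁆ with hc
    have hc1 : c ≠ 1 := by
      rw [hc, Ne, commutatorElement_eq_one_iff_mul_comm]; exact hxy
    have hcZ' : c ∈ Zc := hcc x y
    -- φ a x = x^j * z1
    have hx1 : (x ^ j)⁻¹ * φ a x ∈ Zc := by
      have : (((x ^ j : H)) : H ⧸ Zc) = ((φ a x : H) : H ⧸ Zc) := by
        rw [hxE, QuotientGroup.mk_pow]
      exact QuotientGroup.eq.1 this
    have hy1 : (y ^ j)⁻¹ * φ a y ∈ Zc := by
      have : (((y ^ j : H)) : H ⧸ Zc) = ((φ a y : H) : H ⧸ Zc) := by
        rw [hyE, QuotientGroup.mk_pow]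
      exact QuotientGroup.eq.1 this
    have hx2 : φ a x = x ^ j * ((x ^ j)⁻¹ * φ a x) := by group
    have hy2 : φ a y = y ^ j * ((y ^ j)⁻¹ * φ a y) := by group
    have hfc : φ a c = c := hZfix a c hcZ'
    have hcj : c = c ^ (j * j) := by
      conv_lhs => rw [← hfc, hc, map_commutatorElement, hx2, hy2,
        comm_mul_central_left _ _ _ hx1, comm_mul_central_right _ _ _ hy1]
      rw [comm_pow_right _ _ (hcc _ _), comm_pow_left _ _ (hcc _ _), ← pow_mul]
    have hoc : orderOf c = p := orderOf_eq_prime (hZexp c hcZ') hc1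
    have hmod : j * j ≡ 1 [MOD p] := by
      have : c ^ (j * j) = c ^ 1 := by rw [pow_one]; exact hcj.symm
      have := pow_eq_pow_iff_modEq.1 this
      rwa [hoc] at this
    have hjz : ((j : ZMod p)) * j = 1 := by
      have := (ZMod.natCast_eq_natCast_iff _ _ p).2 hmod
      push_cast at this
      exact this
    -- iteration
    have hiter : ∀ i : ℕ, ((φ (a ^ i) v : H) : H ⧸ Zc) = ((v : H) : H ⧸ Zc) ^ (j ^ i) := by
      intro i
      induction i with
      | zero => simp
      | succ i ih =>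
        rw [pow_succ', map_mul, MulAut.mul_apply, ← hψ a, ih, map_pow, hψ, hj, ← pow_mul,
          ← pow_succ']
    have hr := hiter (orderOf a)
    rw [pow_orderOf_eq_one, map_one, MulAut.one_apply] at hr
    have hoq : orderOf ((v : H) : H ⧸ Zc) = p := orderOf_eq_prime (hQexp _) hq1
    have hmod2 : j ^ orderOf a ≡ 1 [MOD p] := by
      have : ((v : H) : H ⧸ Zc) ^ (j ^ orderOf a) = ((v : H) : H ⧸ Zc) ^ 1 := by
        rw [pow_one]; exact hr.symm
      have := pow_eq_pow_iff_modEq.1 this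
      rwa [hoq] at this
    have hjz2 : ((j : ZMod p)) ^ orderOf a = 1 := by
      have := (ZMod.natCast_eq_natCast_iff _ _ p).2 hmod2
      push_cast at this
      exact this
    have hoa : Odd (orderOf a) := by
      have hd : orderOf a ∣ Nat.card A := orderOf_dvd_natCard a
      exact Odd.of_dvd_nat hodd hd
    have hj1 : (j : ZMod p) = 1 := by
      rcases mul_self_eq_one_iff.1 hjz with h | h
      · exact h
      · exfalso
        rw [h, hoa.neg_one_pow] at hjz2
        have h2 : (2 : ZMod p) = 0 := by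
          have : (1 : ZMod p) + 1 = 0 := by
            nth_rewrite 1 [← hjz2]; ring
          rw [← this]; norm_num
        have h3 : ((2 : ℕ) : ZMod p) = 0 := by exact_mod_cast h2
        rw [ZMod.natCast_eq_zero_iff] at h3
        exact hp ((Nat.prime_dvd_prime_iff_eq hpp Nat.prime_two).1 h3)
    have hmod3 : j ≡ 1 [MOD p] := by
      have : ((j : ℕ) : ZMod p) = ((1 : ℕ) : ZMod p) := by rw [hj1]; simp
      exact (ZMod.natCast_eq_natCast_iff _ _ p).1 this
    have hqj : ((v : H) : H ⧸ Zc) ^ j = ((v : H) : H ⧸ Zc) := by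
      have := (pow_eq_pow_iff_modEq (x := ((v : H) : H ⧸ Zc)) (n := j) (m := 1)).2
        (by rw [hoq]; exact hmod3)
      rwa [pow_one] at this
    have hfv : φ a v = v := stepA a v (by rw [hj, hqj])
    exact hvZ (hfix a ha1 v hfv)
  -- cardinality of E
  have hcE : Nat.card E = p ^ 2 := by
    have hd : Nat.card E ∣ p ^ 3 := hH ▸ Subgroup.card_subgroup_dvd_card E
    obtain ⟨s, hs3, hs⟩ := (Nat.dvd_prime_pow hpp).1 hd
    have hs3' : s ≠ 3 := by
      rintro rfl
      exact hEtop ((Subgroup.card_eq_iff_eq_top E).1 (by rw [hs, hH]))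
    have hlt : p < p ^ s := by
      by_contra hle
      rw [not_lt] at hle
      have : Zc = E := Subgroup.eq_of_le_of_card_ge hZE (by rw [hs, hcZ]; exact hle)
      exact hvZ (this ▸ hvE)
    have hs2 : 2 ≤ s := by
      by_contra h
      rw [not_le] at h
      have : p ^ s ≤ p ^ 1 := Nat.pow_le_pow_right hpp.pos (by omega)
      rw [pow_one] at this
      omega
    have : s = 2 := by omega
    rw [hs, this]
  -- the free action on E \ Zc
  have hXinv : ∀ (k : A) (x : H), x ∈ ((E : Set H) \ (Zc : Set H)) →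
      φ k x ∈ ((E : Set H) \ (Zc : Set H)) := by
    intro k x hx
    refine ⟨hEinv k x hx.1, fun h => hx.2 ?_⟩
    have h1 : φ k⁻¹ (φ k x) = φ k x := hZfix k⁻¹ _ h
    have h2 : φ k⁻¹ (φ k x) = x := by
      rw [← MulAut.mul_apply, ← map_mul, inv_mul_cancel, map_one, MulAut.one_apply]
    rw [h2] at h1
    rw [h1]; exact h
  letI : MulAction A ↥((E : Set H) \ (Zc : Set H)) :=
    { smul := fun k x => ⟨φ k x.1, hXinv k x.1 x.2⟩
      one_smul := fun x => Subtype.ext (by
        show φ 1 x.1 = x.1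
        rw [map_one, MulAut.one_apply])
      mul_smul := fun k l x => Subtype.ext (by
        show φ (k * l) x.1 = φ k (φ l x.1)
        rw [map_mul, MulAut.mul_apply]) }
  have hsmul : ∀ (k : A) (x : ↥((E : Set H) \ (Zc : Set H))), ((k • x : _) : H) = φ k x.1 :=
    fun k x => rfl
  have hfree : ∀ x : ↥((E : Set H) \ (Zc : Set H)), MulAction.stabilizer A x = ⊥ := by
    intro x
    rw [eq_bot_iff]
    intro k hk
    rw [MulAction.mem_stabilizer_iff] at hk
    rw [Subgroup.mem_bot]
    by_contra hk1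
    have h1 : φ k x.1 = x.1 := by rw [← hsmul, hk]
    exact x.2.2 (hfix k hk1 x.1 h1)
  have hcard := Nat.card_congr (MulAction.selfEquivOrbitsQuotientProd hfree)
  rw [Nat.card_prod] at hcard
  have hcX : Nat.card ↥((E : Set H) \ (Zc : Set H)) = p ^ 2 - p := by
    rw [Nat.card_coe_set_eq, Set.ncard_sdiff (by exact_mod_cast hZE)]
    have h1 : (E : Set H).ncard = p ^ 2 := by
      rw [← Nat.card_coe_set_eq]; exact hcE
    have h2 : (Zc : Set H).ncard = p := by
      rw [← Nat.card_coe_set_eq]; exact hcZ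
    rw [h1, h2]
  have hdvd : Nat.card A ∣ p * (p - 1) := by
    have : p * (p - 1) = p ^ 2 - p := by
      rw [Nat.mul_sub, mul_one, sq]
    rw [this, ← hcX, hcard]
    exact dvd_mul_left _ _
  exact Nat.Coprime.dvd_of_dvd_mul_left hcop hdvd

/-- conjugation by an element of the normalizer, as an automorphism of the subgroup. -/
noncomputable def conjAut {G : Type*} [Group G] (P : Subgroup G) (k : G)
    (hk : k ∈ Subgroup.normalizer (P : Set G)) : MulAut ↥P where
  toFun x := ⟨k * x.1 * k⁻¹, (Subgroup.mem_normalizer_iff.1 hk x.1).1 x.2⟩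
  invFun x := ⟨k⁻¹ * x.1 * k, by
    have := (Subgroup.mem_normalizer_iff.1 hk (k⁻¹ * x.1 * k)).2
    apply this
    have h : k * (k⁻¹ * x.1 * k) * k⁻¹ = x.1 := by group
    rw [h]; exact x.2⟩
  left_inv x := Subtype.ext (by show k⁻¹ * (k * x.1 * k⁻¹) * k = x.1; group)
  right_inv x := Subtype.ext (by show k * (k⁻¹ * x.1 * k) * k⁻¹ = x.1; group)
  map_mul' x y := Subtype.ext (by
    show k * (x.1 * y.1) * k⁻¹ = (k * x.1 * k⁻¹) * (k * y.1 * k⁻¹); group)

theorem conjAut_coe {G : Type*} [Group G] (P : Subgroup G) (k : G)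
    (hk : k ∈ Subgroup.normalizer (P : Set G)) (x : ↥P) :
    ((conjAut P k hk x : ↥P) : G) = k * x.1 * k⁻¹ := rfl

/-- the conjugation action of a subgroup of the normalizer. -/
noncomputable def conjHom {G : Type*} [Group G] (P K : Subgroup G)
    (hKP : K ≤ Subgroup.normalizer (P : Set G)) : ↥K →* MulAut ↥P where
  toFun k := conjAut P k.1 (hKP k.2)
  map_one' := by
    ext x
    rw [conjAut_coe]
    simp
  map_mul' k l := by
    ext x
    rw [MulAut.mul_apply, conjAut_coe, conjAut_coe, conjAut_coe]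
    simp only [Subgroup.coe_mul, mul_inv_rev]
    group

theorem conjHom_coe {G : Type*} [Group G] (P K : Subgroup G)
    (hKP : K ≤ Subgroup.normalizer (P : Set G)) (k : ↥K) (x : ↥P) :
    ((conjHom P K hKP k x : ↥P) : G) = k.1 * x.1 * k.1⁻¹ := rfl

/-- K-1383-E2 -/
theorem card_dvd_pred_of_invariant_line {G : Type*} [Group G] [Finite G] (p : ℕ) [Fact p.Prime]
    (hp : p ≠ 2) (P K : Subgroup G) (hP : Nat.card P = p ^ 3) (hPna : ¬ IsMulCommutative P)
    (hKP : K ≤ Subgroup.normalizer (P : Set G)) (hKc : IsCyclic K)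
    (hcop : (Nat.card K).Coprime p) (hodd : Odd (Nat.card K))
    (hZ : Nat.card ↥(P ⊓ Subgroup.centralizer (K : Set G)) = p)
    (hZ' : P ⊓ Subgroup.centralizer (K : Set G) ≤ ⁅P, P⁆)
    (hfix : ∀ k ∈ K, k ≠ 1 →
      P ⊓ Subgroup.centralizer ({k} : Set G) = P ⊓ Subgroup.centralizer (K : Set G))
    (hline : ∃ a ∈ K, a ≠ 1 ∧ ∃ v ∈ P, v ∉ Subgroup.centralizer (K : Set G) ∧
      a * v * a⁻¹ ∈ Subgroup.zpowers v ⊔ (P ⊓ Subgroup.centralizer (K : Set G))) :
    Nat.card K ∣ p - 1 := by
  classical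
  set Z : Subgroup G := P ⊓ Subgroup.centralizer (K : Set G) with hZdef
  have hZP : Z ≤ P := inf_le_left
  have hna : ∃ a b : ↥P, a * b ≠ b * a := by
    by_contra h
    push Not at h
    exact hPna ⟨⟨h⟩⟩
  obtain ⟨hcZ, hcomm⟩ := cube_facts29 hP hna
  -- Z.subgroupOf P is the centre of P
  have hZc : Z.subgroupOf P = Subgroup.center ↥P := by
    have hle : Z.subgroupOf P ≤ Subgroup.center ↥P := by
      rw [← hcomm, _root_.commutator_def]
      intro z hz
      rw [Subgroup.mem_subgroupOf] at hz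
      have h1 : (z : G) ∈ ⁅P, P⁆ := hZ' hz
      have h2 : Subgroup.map P.subtype ⁅(⊤ : Subgroup ↥P), ⊤⁆ = ⁅P, P⁆ := by
        rw [Subgroup.map_commutator, ← MonoidHom.range_eq_map, Subgroup.range_subtype]
      rw [← h2] at h1
      obtain ⟨y, hy, hyz⟩ := h1
      have : y = z := Subtype.ext hyz
      rw [← this]; exact hy
    refine Subgroup.eq_of_le_of_card_ge hle ?_
    rw [hcZ]
    have : Nat.card ↥(Z.subgroupOf P) = Nat.card ↥Z :=
      Nat.card_congr (Subgroup.subgroupOfEquivOfLe hZP).toEquiv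
    rw [this, hZ]
  have hmemc : ∀ z : ↥P, z ∈ Subgroup.center ↥P ↔ (z : G) ∈ Z := by
    intro z
    rw [← hZc, Subgroup.mem_subgroupOf]
  haveI : IsCyclic ↥K := hKc
  refine core_E2 (H := ↥P) (A := ↥K) p hp hP hna (conjHom P K hKP) hcop hodd ?_ ?_ ?_
  · -- K centralizes the centre
    intro k z hz
    apply Subtype.ext
    rw [conjHom_coe]
    have hzZ : (z : G) ∈ Z := (hmemc z).1 hz
    have hzc : (z : G) ∈ Subgroup.centralizer (K : Set G) := hzZ.2
    have := Subgroup.mem_centralizer_iff.1 hzc k.1 k.2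
    rw [this, mul_inv_cancel_right]
  · -- fixed points
    intro k hk1 x hx
    rw [hmemc]
    have hk1' : (k : G) ≠ 1 := fun h => hk1 (Subtype.ext h)
    rw [← hfix k.1 k.2 hk1']
    refine ⟨x.2, ?_⟩
    show (x : G) ∈ Subgroup.centralizer ({(k : G)} : Set G)
    rw [Subgroup.mem_centralizer_iff]
    intro g hg
    rw [Set.mem_singleton_iff] at hg
    subst hg
    have h1 : (k : G) * x.1 * (k : G)⁻¹ = x.1 := by
      rw [← conjHom_coe P K hKP k x, hx]
    calc (k : G) * x.1 = (k : G) * x.1 * (k : G)⁻¹ * k := by group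
      _ = x.1 * k := by rw [h1]
  · obtain ⟨a, haK, ha1, v, hvP, hvc, hav⟩ := hline
    refine ⟨⟨a, haK⟩, fun h => ha1 (by simpa using congrArg Subtype.val h), ⟨v, hvP⟩, ?_, ?_⟩
    · rw [hmemc]
      exact fun h => hvc h.2
    · have h2 : Subgroup.map P.subtype
          (Subgroup.zpowers (⟨v, hvP⟩ : ↥P) ⊔ Subgroup.center ↥P) = Subgroup.zpowers v ⊔ Z := by
        rw [Subgroup.map_sup, MonoidHom.map_zpowers, ← hZc, Subgroup.map_subgroupOf_eq_of_le hZP]
        rfl
      rw [← h2] at hav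
      obtain ⟨y, hy, hyv⟩ := hav
      have : y = conjHom P K hKP ⟨a, haK⟩ ⟨v, hvP⟩ := Subtype.ext (by rw [conjHom_coe]; exact hyv)
      rw [← this]; exact hy

end Cfsg.Agent.Lib.Helper29.BG1383
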