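import Mathlib
import Cfsg.Agent.Lib.Helper16.BG1363Defs
import Cfsg.Agent.Lib.Helper55.Basic
import Cfsg.Agent.Lib.Helper55.Uniq3
import Cfsg.Agent.Lib.Helper55.SylowIn
import Cfsg.Agent.S1416
import Cfsg.Agent.S1417

/-!
# K-1435-P4 (keystone 143506, pack S1435, architect helper31): `NU.false_of_rank_two`

`r ∈ τ₂(H)` and `M` of `r`-rank at least 2 is impossible: an elementary abelian `A ≤ R` of order `r²` has
`C_G(A) ≤ M` (S1416), a Sylow `r`-subgroup `P ⊇ R` of `H` is abelian (S1417 (b)), so `P ≤ C_G(A) ≤ M`,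
`P = R`, and `N_G(P) = N_G(R) ≤ H` against S1417 (b).
-/

set_option autoImplicit false
set_option linter.unusedVariables false

namespace Cfsg.Agent.Lib.Helper29.BG1435

open Cfsg Subgroup Cfsg.Agent.Lib.Helper55 Cfsg.Agent.Lib.Helper11.BG14D Cfsg.Agent.Lib.Helper16.BG1363

variable {G : Type*} [Group G] [Finite G]

/-- KEYSTONE 143506  K-1435-P4 -/
theorem NU.false_of_rank_two (hG : IsMinSimpleOddOrder G) {M K U R H : Subgroup G} {r : ℕ}
    (c : NU M K U R H r) (hUKH : U ⊔ K ≤ H) (hτ : r ∈ tau2 H) (hrk : ¬ PRankLE r 1 M) : False := by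
  have hr := c.hr
  have : Fact r.Prime := ⟨hr⟩
  have hUM : U ≤ M := c.hKU.compl.1
  have hRM : R ≤ M := c.hRU.trans hUM
  have hRH : R ≤ H := c.hRU.trans (le_sup_left.trans hUKH)
  -- an elementary abelian subgroup of `M` of order `> r`
  obtain ⟨E, hEM, hEc, hEe, hEcard⟩ := not_pRankLE_sub_iff.mp hrk
  rw [pow_one] at hEcard
  have hEp : IsPGroup r E := by
    intro a
    refine ⟨1, ?_⟩
    apply Subtype.ext
    have := hEe a.1 a.2
    simpa using this
  obtain ⟨n, hn⟩ := IsPGroup.iff_card.mp hEp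
  have hn2 : 2 ≤ n := by
    rw [hn] at hEcard
    by_contra hlt
    have hn1 : n ≤ 1 := by omega
    have : r ^ n ≤ r ^ 1 := Nat.pow_le_pow_right hr.pos hn1
    rw [pow_one] at this
    omega
  have hle : r ^ 2 ≤ Nat.card E := by
    rw [hn]
    exact Nat.pow_le_pow_right hr.pos hn2
  obtain ⟨A₁', hA₁'⟩ := Sylow.exists_subgroup_card_pow_prime_of_le_card hr hEp hle
  -- `A₁ ≤ E` of order `r²`
  have hA₁E : A₁'.map E.subtype ≤ E := Subgroup.map_subtype_le _
  have hA₁card : Nat.card (A₁'.map E.subtype) = r ^ 2 := by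
    rw [Subgroup.card_map_of_injective E.subtype_injective, hA₁']
  have hA₁p : IsPGroup r (A₁'.map E.subtype) := hEp.to_le hA₁E
  -- conjugate it into `R`
  have hS : IsSylowIn r M R := ⟨hRM, c.hRp, c.hRsyl⟩
  obtain ⟨m, hm, hmA⟩ := hS.exists_conj_le (hA₁E.trans hEM) hA₁p
  have hAR : cj m (A₁'.map E.subtype) ≤ R := hmA
  have hAcard : Nat.card (cj m (A₁'.map E.subtype)) = r ^ 2 := by
    rw [card_cj, hA₁card]
  have hAel : IsElementaryAbelian r (cj m (A₁'.map E.subtype)) := by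
    refine ⟨⟨⟨?_⟩⟩, ?_⟩
    · rintro ⟨a, ha⟩ ⟨b, hb⟩
      apply Subtype.ext
      rw [mem_cj] at ha hb
      have h1 := hEc _ (hA₁E ha) _ (hA₁E hb)
      show a * b = b * a
      have ea : a = m * (m⁻¹ * a * m) * m⁻¹ := by group
      have eb : b = m * (m⁻¹ * b * m) * m⁻¹ := by group
      rw [ea, eb]
      calc m * (m⁻¹ * a * m) * m⁻¹ * (m * (m⁻¹ * b * m) * m⁻¹)
          = m * ((m⁻¹ * a * m) * (m⁻¹ * b * m)) * m⁻¹ := by group
        _ = m * ((m⁻¹ * b * m) * (m⁻¹ * a * m)) * m⁻¹ := by rw [h1]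
        _ = m * (m⁻¹ * b * m) * m⁻¹ * (m * (m⁻¹ * a * m) * m⁻¹) := by group
    · intro a ha
      rw [mem_cj] at ha
      have h1 := hEe _ (hA₁E ha)
      have ea : a = m * (m⁻¹ * a * m) * m⁻¹ := by group
      rw [ea, conj_pow, h1]
      group
  -- `C_G(A) ≤ M`
  have h16 := (Cfsg.Agent.S1416.result hG M c.hM r (cj m (A₁'.map E.subtype))
    ⟨hAR.trans hRM, hAel, hAcard⟩).1
  -- a Sylow `r`-subgroup of `H` over `R`
  have hR' : IsPGroup r (R.subgroupOf H) := c.hRp.comap_of_injective H.subtype H.subtype_injective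
  obtain ⟨P, hP⟩ := hR'.exists_le_sylow
  have hRPg : R ≤ (P : Subgroup ↥H).map H.subtype := by
    intro x hx
    exact ⟨⟨x, hRH hx⟩, hP (Subgroup.mem_subgroupOf.mpr hx), rfl⟩
  have hAPg : cj m (A₁'.map E.subtype) ≤ (P : Subgroup ↥H).map H.subtype := hAR.trans hRPg
  obtain ⟨hPc, hP2⟩ := (Cfsg.Agent.S1417.result hG H c.hH r hτ (cj m (A₁'.map E.subtype))
    ⟨hAR.trans hRH, hAel, hAcard⟩).2.1 P
  obtain ⟨-, hNP⟩ := hP2 hAPg
  -- `Pg` is abelian and contains `A`: `Pg ≤ C_G(A) ≤ M`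
  have hPgM : (P : Subgroup ↥H).map H.subtype ≤ M := by
    intro x hx
    apply h16
    rw [Subgroup.mem_centralizer_iff]
    intro a ha
    obtain ⟨x', hx', rfl⟩ := hx
    obtain ⟨a', ha', rfl⟩ := hAPg ha
    have h1 := hPc.is_comm.comm ⟨a', ha'⟩ ⟨x', hx'⟩
    have h2 := congrArg (fun z : ↥(P : Subgroup ↥H) => ((z : ↥H) : G)) h1
    simpa using h2
  have hPgR : (P : Subgroup ↥H).map H.subtype = R :=
    c.hRsyl _ hPgM (P.2.map _) hRPg
  apply hNP
  rw [hPgR]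
  exact c.hNH

end Cfsg.Agent.Lib.Helper29.BG1435
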