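import Mathlib
import Cfsg.Prelude.Def_Solvable
import Cfsg.Agent.Lib.Helper72.G42Defs
import Cfsg.Agent.Lib.Helper62.Small120
import Cfsg.Agent.Lib.Helper67.FC91S5
import Cfsg.Agent.S0494
import Cfsg.Agent.Lib.Helper84.G42L4

/-!
# K-G42 leaf L6 (keystone 255307): the case `|Δ| = 6`
-/

set_option autoImplicit false
set_option linter.style.haveILetI false
set_option linter.unusedVariables false

namespace Cfsg.Agent.Lib.Helper29.G42

open Cfsg.Agent.Lib.Helper72.G42 Equiv

theorem pres_iff {K : Subgroup (Perm (Fin 8))} {Δ : Finset (Fin 8)}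
    (hpres : ∀ k ∈ K, ∀ x ∈ Δ, k x ∈ Δ) : ∀ k ∈ K, ∀ x, k x ∈ Δ ↔ x ∈ Δ := by
  intro k hk x
  constructor
  · intro h
    have := hpres k⁻¹ (K.inv_mem hk) (k x) h
    simpa using this
  · exact hpres k hk x

/-- restriction of `K` to an invariant finset -/
noncomputable def resHom (K : Subgroup (Perm (Fin 8))) (Δ : Finset (Fin 8))
    (hpres : ∀ k ∈ K, ∀ x, k x ∈ Δ ↔ x ∈ Δ) : ↥K →* Perm {x // x ∈ Δ} where
  toFun k := Perm.subtypePerm k.1 (hpres k.1 k.2)
  map_one' := by
    ext x; simp
  map_mul' a b := by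
    ext x; rfl

theorem commutator_top_of_perfect {G : Type*} [Group G] (N : Subgroup G) (hperf : ⁅N, N⁆ = N) :
    _root_.commutator ↥N = ⊤ := by
  have h1 : (_root_.commutator ↥N).map N.subtype = ⁅N, N⁆ := Subgroup.map_subtype_commutator N
  apply Subgroup.map_injective N.subtype_injective
  rw [h1, hperf, ← MonoidHom.range_eq_map, Subgroup.range_subtype]

theorem not_solvable_of_perfect {G : Type*} [Group G] (N : Subgroup G) (hperf : ⁅N, N⁆ = N)
    (hN1 : N ≠ ⊥) : ¬ Group.IsSolvable ↥N := by
  intro hs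
  haveI := hs
  have hnt : Nontrivial ↥N := by
    rw [Subgroup.nontrivial_iff_ne_bot]; exact hN1
  have := Group.IsSolvable.commutator_lt_top_of_nontrivial ↥N
  rw [commutator_top_of_perfect N hperf] at this
  exact lt_irrefl _ this

theorem hom_eq_one_of_perfect {G A : Type*} [Group G] [CommGroup A] (N : Subgroup G)
    (hperf : ⁅N, N⁆ = N) (s : ↥N →* A) (n : ↥N) : s n = 1 := by
  have h := Abelianization.commutator_subset_ker s
  rw [commutator_top_of_perfect N hperf] at h
  exact h (Subgroup.mem_top n)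

theorem case6_core {K N : Subgroup (Perm (Fin 8))} {Δ : Finset (Fin 8)} (h : Cfg K N Δ)
    (h6 : Δ.card = 6)
    (hpres : ∀ k ∈ K, ∀ x ∈ Δ, k x ∈ Δ) (hfaith : ∀ k ∈ K, (∀ x ∈ Δ, k x = x) → k = 1) :
    Nonempty (↥K ≃* ↥(alternatingGroup (Fin 6))) ∨ Nonempty (↥K ≃* Perm (Fin 6)) ∨
      Nonempty (↥K ≃* ↥(alternatingGroup (Fin 5))) ∨ Nonempty (↥K ≃* Perm (Fin 5)) := by
  classical
  obtain ⟨hKA, hNK, hnorm, hperf, hN1, hmin, hsolv, hcard, hfix, htrans⟩ := h
  have hiff := pres_iff hpres
  -- the embedding into `Perm (Fin 6)`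
  have hc6 : Fintype.card {x // x ∈ Δ} = 6 := by simp [h6]
  let e : {x // x ∈ Δ} ≃ Fin 6 := Fintype.equivFinOfCardEq hc6
  let ψ : ↥K →* Perm (Fin 6) := (Equiv.permCongrHom e).toMonoidHom.comp (resHom K Δ hiff)
  have hψ : Function.Injective ψ := by
    have h1 : Function.Injective (resHom K Δ hiff) := by
      rw [injective_iff_map_eq_one]
      intro k hk
      apply Subtype.ext
      apply hfaith k.1 k.2
      intro x hx
      have := congrArg (fun f : Perm {x // x ∈ Δ} => ((f ⟨x, hx⟩ : {x // x ∈ Δ}) : Fin 8)) hk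
      simpa [resHom] using this
    exact (Equiv.permCongrHom e).injective.comp h1
  -- `N` is not solvable, of order at least 60
  have hns : ¬ Group.IsSolvable ↥N := not_solvable_of_perfect N hperf hN1
  have hN60 : 60 ≤ Nat.card ↥N := by
    by_contra hlt
    rw [not_le] at hlt
    exact hns (Cfsg.Agent.Lib.Helper62.Small120.solvable_of_card_lt_sixty _ hlt ↥N rfl)
  let ι : ↥N →* ↥K := Subgroup.inclusion hNK
  let ψN : ↥N →* Perm (Fin 6) := ψ.comp ι
  have hψN : Function.Injective ψN := hψ.comp (Subgroup.inclusion_injective hNK)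
  have hsign : ∀ n : ↥N, Perm.sign (ψN n) = 1 := fun n =>
    hom_eq_one_of_perfect N hperf (Perm.sign.comp ψN) n
  let ψA : ↥N →* ↥(alternatingGroup (Fin 6)) :=
    ψN.codRestrict _ (fun n => Perm.mem_alternatingGroup.mpr (hsign n))
  have hψA : Function.Injective ψA := fun a b hab => hψN (congrArg Subtype.val hab)
  set I := ψA.range with hI
  have hIcard : Nat.card I = Nat.card ↥N :=
    (Nat.card_congr (MonoidHom.ofInjective hψA).toEquiv).symm
  have hA6 : IsSimpleGroup (alternatingGroup (Fin 6)) := alternatingGroup.isSimpleGroup (by simp)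
  have hcA6 := Cfsg.Agent.Lib.Helper62.Small120.card_A6
  have hmul := I.card_mul_index
  rw [hIcard, hcA6] at hmul
  have hcases : Nat.card ↥N = 360 ∨ Nat.card ↥N = 60 := by
    by_cases hIt : I = ⊤
    · left
      rw [hIt, Subgroup.index_top] at hmul; omega
    · right
      have hdvd := Cfsg.Agent.Lib.Helper07.card_dvd_factorial_index I hIt
      rw [hcA6] at hdvd
      have hidx : I.index ≤ 6 := by nlinarith
      have hk : ∀ k : ℕ, k ≤ 6 → 360 ∣ k.factorial → k = 6 := by decide
      have h6' := hk _ hidx hdvd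
      rw [h6'] at hmul; omega
  rcases hcases with h360 | h60
  · -- `ψ(N) = A6`
    have hItop : I = ⊤ := by
      apply Subgroup.eq_top_of_card_eq
      rw [hIcard, h360, hcA6]
    have hAle : alternatingGroup (Fin 6) ≤ ψ.range := by
      intro σ hσ
      have : (⟨σ, hσ⟩ : alternatingGroup (Fin 6)) ∈ I := by rw [hItop]; trivial
      obtain ⟨n, hn⟩ := this
      exact ⟨ι n, congrArg Subtype.val hn⟩
    by_cases hle : ψ.range ≤ alternatingGroup (Fin 6)
    · left
      have heq : ψ.range = alternatingGroup (Fin 6) := le_antisymm hle hAle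
      exact ⟨(MonoidHom.ofInjective hψ).trans (MulEquiv.subgroupCongr heq)⟩
    · right; left
      have htop : ψ.range = ⊤ := by
        obtain ⟨τ, hτ, hτA⟩ := SetLike.not_le_iff_exists.mp hle
        rw [eq_top_iff]
        intro σ _
        by_cases hσ : σ ∈ alternatingGroup (Fin 6)
        · exact hAle hσ
        · have : σ * τ⁻¹ ∈ alternatingGroup (Fin 6) := by
            rw [Perm.mem_alternatingGroup] at hσ hτA ⊢
            rw [map_mul, map_inv]
            rcases Int.units_eq_one_or (Perm.sign σ) with h1 | h1 <;>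
            rcases Int.units_eq_one_or (Perm.sign τ) with h2 | h2 <;> simp_all
          have h2 := ψ.range.mul_mem (hAle this) hτ
          simpa using h2
      exact ⟨(MonoidHom.ofInjective hψ).trans
        ((MulEquiv.subgroupCongr htop).trans Subgroup.topEquiv)⟩
  · right; right
    have hsimp : IsSimpleGroup ↥N :=
      Cfsg.Agent.Lib.Helper62.Small120.isSimpleGroup_of_card_sixty h60 hns
    obtain ⟨e5⟩ := Cfsg.Agent.S0494.result (G := ↥N) h60
    let NK : Subgroup ↥K := N.subgroupOf K
    haveI hNKn : NK.Normal := by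
      constructor
      intro n hn k
      rw [Subgroup.mem_subgroupOf] at hn ⊢
      have := hnorm k.1 k.2 n.1 hn
      simpa using this
    let eNK : ↥NK ≃* alternatingGroup (Fin 5) := (Subgroup.subgroupOfEquivOfLe hNK).trans e5
    -- the centralizer of `N` in `K` is trivial
    have hC : Subgroup.centralizer (NK : Set ↥K) = ⊥ := by
      set C := Subgroup.centralizer (NK : Set ↥K) with hCdef
      haveI hCn : C.Normal := Subgroup.normal_centralizer
      obtain ⟨x0, hx0⟩ : Δ.Nonempty := by
        rw [← Finset.card_pos, h6]; norm_num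
      have hcomm : ∀ c ∈ C, ∀ n ∈ N, ∀ y, c.1 (n y) = n (c.1 y) := by
        intro c hc n hn y
        have hnK : (⟨n, hNK hn⟩ : ↥K) ∈ NK := by
          rw [Subgroup.mem_subgroupOf]; exact hn
        have := (Subgroup.mem_centralizer_iff.mp hc) ⟨n, hNK hn⟩ hnK
        have h2 := congrArg (fun k : ↥K => (k : Perm (Fin 8)) y) this
        simp only [Subgroup.coe_mul, Perm.mul_apply] at h2
        exact h2.symm
      have hfixone : ∀ c ∈ C, c.1 x0 = x0 → c = 1 := by
        intro c hc hcx
        apply Subtype.ext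
        apply hfaith c.1 c.2
        intro y hy
        obtain ⟨n, hn, hny⟩ := htrans x0 hx0 y hy
        rw [← hny, hcomm c hc n hn x0, hcx]
      have hinj : Function.Injective (fun c : ↥C => (c.1.1 x0)) := by
        intro c c' hcc
        have hcc' : c.1.1 x0 = c'.1.1 x0 := hcc
        have h1 : (c⁻¹ * c').1 = 1 := by
          apply hfixone (c⁻¹ * c').1 (c⁻¹ * c').2
          simp only [Subgroup.coe_mul, Subgroup.coe_inv, Perm.mul_apply]
          rw [← hcc']
          exact Equiv.symm_apply_apply _ _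
        have h2 : c⁻¹ * c' = 1 := Subtype.ext h1
        exact inv_mul_eq_one.mp h2
      have hCcard : Nat.card ↥C ≤ 8 := by
        have := Nat.card_le_card_of_injective _ hinj
        simpa using this
      let C0 : Subgroup (Perm (Fin 8)) := C.map K.subtype
      have hC0K : C0 ≤ K := by
        rintro _ ⟨c, _, rfl⟩; exact c.2
      have hC0n : NormalizedBy K C0 := by
        rintro k hk _ ⟨c, hc, rfl⟩
        exact ⟨⟨k, hk⟩ * c * ⟨k, hk⟩⁻¹, hCn.conj_mem c hc ⟨k, hk⟩, rfl⟩
      have hC0s : Group.IsSolvable ↥C0 := by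
        apply Cfsg.Agent.Lib.Helper62.Small120.solvable_of_card_lt_sixty (Nat.card ↥C0) _ ↥C0 rfl
        have : Nat.card ↥C0 = Nat.card ↥C :=
          Subgroup.card_map_of_injective K.subtype_injective
        omega
      have hC0bot := hsolv C0 hC0K hC0n hC0s
      rw [eq_bot_iff]
      intro c hc
      have : (c : Perm (Fin 8)) ∈ C0 := ⟨c, hc, rfl⟩
      rw [hC0bot, Subgroup.mem_bot] at this
      rw [Subgroup.mem_bot]; exact Subtype.ext this
    -- `K` embeds in `Aut N ≅ S5`
    let ψc : ↥K →* MulAut ↥NK := MulAut.conjNormal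
    have hψc : Function.Injective ψc := by
      rw [injective_iff_map_eq_one]
      intro g hg
      have hmem : g ∈ Subgroup.centralizer (NK : Set ↥K) := by
        rw [Subgroup.mem_centralizer_iff]
        intro a ha
        have h1 := congrArg (fun θ : MulAut ↥NK => ((θ ⟨a, ha⟩ : ↥NK) : ↥K)) hg
        simp only [ψc, MulAut.conjNormal_apply, MulAut.one_apply] at h1
        calc a * g = (g * a * g⁻¹) * g := by rw [h1]
          _ = g * a := by group
      rw [hC] at hmem
      exact Subgroup.mem_bot.1 hmem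
    let Φ : Perm (Fin 5) ≃* MulAut (alternatingGroup (Fin 5)) :=
      MulEquiv.ofBijective (Cfsg.Agent.Lib.Helper45.AutAlt.Phi 5)
        ⟨Cfsg.Agent.Lib.Helper45.AutAlt.Phi_injective 5 (by norm_num),
          fun θ => Cfsg.Agent.Lib.Helper45.AutAlt.mem_range_Phi 5 (by norm_num) (by norm_num) θ⟩
    let f : ↥K →* Perm (Fin 5) :=
      (Φ.symm.toMonoidHom.comp (MulAut.congr eNK).toMonoidHom).comp ψc
    have hf : Function.Injective f :=
      Φ.symm.injective.comp ((MulAut.congr eNK).injective.comp hψc)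
    have hdvd120 : Nat.card ↥K ∣ 120 := by
      have := Subgroup.card_dvd_of_injective f hf
      have h5 : Nat.card (Perm (Fin 5)) = 120 := by
        rw [Nat.card_eq_fintype_card, Fintype.card_perm, Fintype.card_fin]; rfl
      rw [h5] at this
      exact this
    have h60dvd : 60 ∣ Nat.card ↥K := by
      have := Subgroup.card_subgroup_dvd_card NK
      rw [Nat.card_congr (Subgroup.subgroupOfEquivOfLe hNK).toEquiv, h60] at this
      exact this
    have hKcases : Nat.card ↥K = 60 ∨ Nat.card ↥K = 120 := by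
      obtain ⟨a, ha⟩ := h60dvd
      obtain ⟨b, hb⟩ := hdvd120
      have hab : a * b = 2 := by nlinarith
      have ha2 : a ≤ 2 := Nat.le_of_dvd (by norm_num) ⟨b, hab.symm⟩
      interval_cases a <;> omega
    rcases hKcases with hK60 | hK120
    · left
      have hKN : N = K := Subgroup.eq_of_le_of_card_ge hNK (by rw [h60, hK60])
      exact ⟨(MulEquiv.subgroupCongr hKN.symm).trans e5⟩
    · right
      exact Cfsg.Agent.Lib.Helper67.FC91.equiv_perm_five NK eNK hK120 hC

/-- keystone 255307 (K-G42-L6), exact spec signature. -/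
theorem case6 {K N : Subgroup (Equiv.Perm (Fin 8))} {Δ : Finset (Fin 8)} (h : Cfg K N Δ) (h6 : Δ.card = 6) :
    Nonempty (↥K ≃* ↥(alternatingGroup (Fin 6))) ∨ Nonempty (↥K ≃* Equiv.Perm (Fin 6)) ∨
      Nonempty (↥K ≃* ↥(alternatingGroup (Fin 5))) ∨ Nonempty (↥K ≃* Equiv.Perm (Fin 5)) :=
  case6_core h h6 (Cfsg.Agent.Lib.Helper84.G42.faithful_on h).1
    (Cfsg.Agent.Lib.Helper84.G42.faithful_on h).2

end Cfsg.Agent.Lib.Helper29.G42
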