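import Mathlib
import Cfsg.Prelude.Def_Solvable

/-! K-GAG-G06 (keystone 483907, helper32's S4839 pack): a split extension `G = N L` with the Camina
property over the normal `p`-subgroup `N ≠ 1` has `p ∤ [G:N]`. -/

set_option autoImplicit false

namespace Cfsg.Agent.Lib.Helper29.Gag

variable {G : Type*} [Group G] [Finite G]

/-- a `p`-element normalising the nontrivial normal `p`-subgroup `N` centralises some `z ≠ 1` in `N`. -/
theorem exists_fixed_in_normal {p : ℕ} [Fact p.Prime] (N : Subgroup G) [N.Normal]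
    (hNp : IsPGroup p N) (hN1 : N ≠ ⊥) (u : G) (hup : u ^ p = 1) :
    ∃ z ∈ N, z ≠ 1 ∧ u * z = z * u := by
  have hNn : ∀ a ∈ N, ∀ c : G, c * a * c⁻¹ ∈ N :=
    fun a ha c => (inferInstance : N.Normal).conj_mem a ha c
  let _ : MulAction (↥(Subgroup.zpowers u)) (↥N) :=
    { smul := fun g x => ⟨(g : G) * x.1 * (g : G)⁻¹, hNn x.1 x.2 g⟩
      one_smul := fun x => by
        apply Subtype.ext
        show ((1 : Subgroup.zpowers u) : G) * x.1 * ((1 : Subgroup.zpowers u) : G)⁻¹ = x.1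
        simp
      mul_smul := fun g h x => by
        apply Subtype.ext
        show ((g * h : Subgroup.zpowers u) : G) * x.1 * ((g * h : Subgroup.zpowers u) : G)⁻¹
          = (g : G) * ((h : G) * x.1 * (h : G)⁻¹) * (g : G)⁻¹
        simp [mul_assoc] }
  have hpg : IsPGroup p (Subgroup.zpowers u) := by
    intro g
    obtain ⟨g, k, rfl⟩ := g
    refine ⟨1, Subtype.ext ?_⟩
    show ((fun x => u ^ x) k) ^ (p ^ 1) = 1
    simp only [pow_one]
    rw [← zpow_natCast, ← zpow_mul, mul_comm, zpow_mul, zpow_natCast, hup, one_zpow]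
  have hcard : p ∣ Nat.card (↥N) := by
    obtain ⟨k, hk⟩ := hNp.exists_card_eq
    rw [hk]
    have hk0 : k ≠ 0 := by
      rintro rfl
      rw [pow_zero] at hk
      exact hN1 (Subgroup.eq_bot_of_card_le N hk.le)
    exact dvd_pow_self p hk0
  have hfix1 : (1 : ↥N) ∈ MulAction.fixedPoints (↥(Subgroup.zpowers u)) (↥N) := by
    intro g
    apply Subtype.ext
    show (g : G) * ((1 : ↥N) : G) * (g : G)⁻¹ = ((1 : ↥N) : G)
    simp
  obtain ⟨z, hz, hz1⟩ := hpg.exists_fixed_point_of_prime_dvd_card_of_fixed_point (↥N) hcard hfix1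
  refine ⟨z.1, z.2, fun h => hz1 (Subtype.ext h.symm), ?_⟩
  have h2 : u * z.1 * u⁻¹ = z.1 := congrArg Subtype.val (hz ⟨u, Subgroup.mem_zpowers u⟩)
  calc u * z.1 = u * z.1 * u⁻¹ * u := by group
    _ = z.1 * u := by rw [h2]

theorem split_kill {p : ℕ} [Fact p.Prime] (N : Subgroup G) [N.Normal]
    (hNp : IsPGroup p N) (hN1 : N ≠ ⊥)
    (hcam : ∀ x : G, x ∉ N → ∀ n ∈ N, IsConj x (x * n))
    (L : Subgroup G) (hLN : L ⊓ N = ⊥) (hNL : ∀ g : G, ∃ n ∈ N, ∃ l ∈ L, g = n * l) :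
    ¬ p ∣ N.index := by
  intro hdvd
  have hp : p.Prime := Fact.out
  rw [Subgroup.index_eq_card] at hdvd
  obtain ⟨xb, hxb⟩ := exists_prime_orderOf_dvd_card' p hdvd
  obtain ⟨g, rfl⟩ := QuotientGroup.mk_surjective xb
  obtain ⟨n0, hn0, u, huL, rfl⟩ := hNL g
  have hmk : ((n0 * u : G) : G ⧸ N) = (u : G ⧸ N) := by
    rw [QuotientGroup.mk_mul, (QuotientGroup.eq_one_iff n0).2 hn0, one_mul]
  rw [hmk] at hxb
  have huN : u ∉ N := by
    intro h
    rw [(QuotientGroup.eq_one_iff u).2 h, orderOf_one] at hxb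
    exact hp.one_lt.ne hxb
  have hup : u ^ p = 1 := by
    have h1 : ((u ^ p : G) : G ⧸ N) = 1 := by
      rw [QuotientGroup.mk_pow, ← hxb, pow_orderOf_eq_one]
    have h2 : u ^ p ∈ N := (QuotientGroup.eq_one_iff _).1 h1
    have h3 : u ^ p ∈ L ⊓ N := ⟨L.pow_mem huL p, h2⟩
    rw [hLN] at h3
    exact Subgroup.mem_bot.1 h3
  have hNn : ∀ a ∈ N, ∀ c : G, c * a * c⁻¹ ∈ N :=
    fun a ha c => (inferInstance : N.Normal).conj_mem a ha c
  let φ : ↥N → ↥N := fun n => ⟨u⁻¹ * n.1 * u * n.1⁻¹, by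
    have h1 : u⁻¹ * n.1 * u ∈ N := by
      have := hNn n.1 n.2 u⁻¹
      simpa using this
    exact N.mul_mem h1 (N.inv_mem n.2)⟩
  have hsurj : Function.Surjective φ := by
    rintro ⟨m, hm⟩
    obtain ⟨c, hc⟩ := isConj_iff.1 (hcam u huN m hm)
    obtain ⟨n, hn, l, hl, rfl⟩ := hNL c
    have hu' : l * u * l⁻¹ = u := by
      have h1 : (l * u * l⁻¹)⁻¹ * u ∈ L :=
        L.mul_mem (L.inv_mem (L.mul_mem (L.mul_mem hl huL) (L.inv_mem hl))) huL
      have h2 : (l * u * l⁻¹)⁻¹ * u ∈ N := by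
        have e : l * u * l⁻¹ = n⁻¹ * (u * m) * n := by
          rw [← hc]; group
        rw [e]
        have e2 : (n⁻¹ * (u * m) * n)⁻¹ * u = n⁻¹ * m⁻¹ * (u⁻¹ * n * u⁻¹⁻¹) := by group
        rw [e2]
        exact N.mul_mem (N.mul_mem (N.inv_mem hn) (N.inv_mem hm)) (hNn n hn u⁻¹)
      have h3 : (l * u * l⁻¹)⁻¹ * u ∈ L ⊓ N := ⟨h1, h2⟩
      rw [hLN, Subgroup.mem_bot] at h3
      exact (inv_mul_eq_one.1 h3)
    refine ⟨⟨n, hn⟩, Subtype.ext ?_⟩
    show u⁻¹ * n * u * n⁻¹ = m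
    have e : n * u * n⁻¹ = u * m := by
      calc n * u * n⁻¹ = n * (l * u * l⁻¹) * n⁻¹ := by rw [hu']
        _ = (n * l) * u * (n * l)⁻¹ := by group
        _ = u * m := hc
    calc u⁻¹ * n * u * n⁻¹ = u⁻¹ * (n * u * n⁻¹) := by group
      _ = m := by rw [e]; group
  have hinj : Function.Injective φ := Finite.injective_iff_surjective.2 hsurj
  obtain ⟨z, hzN, hz1, hzu⟩ := exists_fixed_in_normal N hNp hN1 u hup
  have hφz : φ ⟨z, hzN⟩ = φ 1 := by
    apply Subtype.ext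
    show u⁻¹ * z * u * z⁻¹ = u⁻¹ * ((1 : ↥N) : G) * u * ((1 : ↥N) : G)⁻¹
    have : u⁻¹ * z * u * z⁻¹ = u⁻¹ * (z * u) * z⁻¹ := by group
    rw [this, ← hzu]
    simp
  have := hinj hφz
  exact hz1 (congrArg Subtype.val this)

end Cfsg.Agent.Lib.Helper29.Gag
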