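import Mathlib

set_option autoImplicit false

namespace Cfsg.Agent.Lib.Helper29.K82

/-- K82-C: final arithmetic for S4541. -/
theorem s4541_arith {ι : Type*} [Fintype ι] (a : ι → ℕ) (Q l : ℕ) (hodd : ∀ i, Odd (a i))
    (h1 : ∀ i, Fintype.card ι ≤ Q * a i) (h2 : ∑ i, a i ≤ Q * l) :
    (Odd (Nat.sqrt l) → Fintype.card ι ≤ Nat.sqrt l * Q) ∧
    (¬ Odd (Nat.sqrt l) → (Nat.sqrt l + 1) * Fintype.card ι ≤ l * Q) := by
  classical
  rcases isEmpty_or_nonempty ι with he | hne
  · simp [Fintype.card_eq_zero]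
  obtain ⟨i0, hi0⟩ := Finite.exists_min a
  set k := Fintype.card ι with hk
  set s := Nat.sqrt l with hs
  set m := a i0 with hm
  have hmodd : Odd m := hodd i0
  have hk1 : k ≤ Q * m := h1 i0
  have hk2 : k * m ≤ Q * l := by
    calc k * m = ∑ _i : ι, m := by simp [hk, Finset.card_univ]
      _ ≤ ∑ i, a i := Finset.sum_le_sum (fun i _ => hi0 i)
      _ ≤ Q * l := h2
  have hsl : s * s ≤ l := Nat.sqrt_le l
  have hls : l < (s + 1) * (s + 1) := Nat.lt_succ_sqrt l
  constructor
  · intro hsodd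
    by_cases hms : m ≤ s
    · calc k ≤ Q * m := hk1
        _ ≤ Q * s := Nat.mul_le_mul_left _ hms
        _ = s * Q := Nat.mul_comm _ _
    · -- m ≥ s + 2 since both odd
      have hms2 : s + 2 ≤ m := by
        rcases hsodd with ⟨u, hu⟩
        rcases hmodd with ⟨v, hv⟩
        omega
      -- k (s+2) ≤ k m ≤ Q l ≤ Q (s (s+2))
      have hl' : l ≤ s * (s + 2) := by nlinarith
      have h3 : k * (s + 2) ≤ (s * Q) * (s + 2) := by
        calc k * (s + 2) ≤ k * m := Nat.mul_le_mul_left _ hms2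
          _ ≤ Q * l := hk2
          _ ≤ Q * (s * (s + 2)) := Nat.mul_le_mul_left _ hl'
          _ = (s * Q) * (s + 2) := by ring
      exact Nat.le_of_mul_le_mul_right h3 (by omega)
  · intro hsnodd
    have hseven : Even s := Nat.not_odd_iff_even.mp hsnodd
    by_cases hms : s + 1 ≤ m
    · calc (s + 1) * k ≤ m * k := Nat.mul_le_mul_right _ hms
        _ = k * m := Nat.mul_comm _ _
        _ ≤ Q * l := hk2
        _ = l * Q := Nat.mul_comm _ _
    · -- m ≤ s - 1 since m odd, s even, m ≤ s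
      have hms2 : m + 1 ≤ s := by
        rcases hseven with ⟨u, hu⟩
        rcases hmodd with ⟨v, hv⟩
        omega
      have h4 : (s + 1) * m ≤ l := by nlinarith
      calc (s + 1) * k ≤ (s + 1) * (Q * m) := Nat.mul_le_mul_left _ hk1
        _ = Q * ((s + 1) * m) := by ring
        _ ≤ Q * l := Nat.mul_le_mul_left _ h4
        _ = l * Q := Nat.mul_comm _ _

end Cfsg.Agent.Lib.Helper29.K82
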