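import Mathlib
import Cfsg.Prelude.Def_Local
import Cfsg.Agent.S1324
import Cfsg.Agent.Lib.Helper29.Coprime
import Cfsg.Agent.Lib.Helper29.Transitivity
import Cfsg.Agent.Lib.Helper29.LocalBalance

set_option autoImplicit false

namespace Cfsg.Agent.Lib.Helper29.LC

open Cfsg
open scoped commutatorElement

variable {Γ : Type*} [Group Γ] [Finite Γ] {p : ℕ} [hp : Fact p.Prime]

/-- Generation by centralizers of subgroups of index at most `p` (S1324). -/
theorem gen_hyper (E Y : Subgroup Γ) (hE : IsElementaryAbelian p E) (hE2 : p ^ 2 ≤ Nat.card E)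
    (hY : ¬ p ∣ Nat.card Y) (hEY : E ≤ Subgroup.normalizer (Y : Set Γ)) :
    Y ≤ ⨆ H : {H : Subgroup Γ // H ≤ E ∧ H.relIndex E ≤ p},
      Y ⊓ Subgroup.centralizer ((H : Subgroup Γ) : Set Γ) :=
  (Cfsg.Agent.S1324.result p E Y hE hE2 hY hEY).le

theorem card_le_of_relIndex_le (E H : Subgroup Γ) (hHE : H ≤ E) (n : ℕ) (h : H.relIndex E ≤ n) :
    Nat.card E ≤ n * Nat.card H := by
  have h1 : H.relIndex E * Nat.card H = Nat.card E := by
    have := Subgroup.relIndex_mul_relIndex (⊥ : Subgroup Γ) H E bot_le hHE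
    rw [Subgroup.relIndex_bot_left, Subgroup.relIndex_bot_left] at this
    rw [mul_comm]; exact this
  rw [← h1]
  exact Nat.mul_le_mul_right _ h

/-- Two subgroups of index at most `p` of `E` meet outside any subgroup `B` with `p^3 |B| ≤ |E|`. -/
theorem exists_mem_inf_not_mem (E B H H' : Subgroup Γ) (hBE : B ≤ E)
    (hidx : p ^ 3 * Nat.card B ≤ Nat.card E)
    (hH : H ≤ E) (hHi : H.relIndex E ≤ p) (hH' : H' ≤ E) (hHi' : H'.relIndex E ≤ p) :
    ∃ g, g ∈ H ∧ g ∈ H' ∧ g ∉ B := by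
  by_contra hcon
  push Not at hcon
  have hle : H ⊓ H' ≤ B := fun g hg => hcon g hg.1 hg.2
  have h1 : (H ⊓ H').relIndex E ≤ p * p :=
    (Subgroup.relIndex_inf_le).trans (Nat.mul_le_mul hHi hHi')
  have h2 := card_le_of_relIndex_le E (H ⊓ H') (inf_le_left.trans hH) (p * p) h1
  have h3 : Nat.card ↥(H ⊓ H') ≤ Nat.card B := Subgroup.card_le_of_le hle
  have hBpos : 0 < Nat.card B := Nat.card_pos
  have hp2 : 2 ≤ p := hp.out.two_le
  have : p ^ 3 * Nat.card B ≤ p * p * Nat.card B := hidx.trans (h2.trans (Nat.mul_le_mul_left _ h3))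
  have h4 : p ^ 3 = p * p * p := by ring
  rw [h4] at this
  have h5 : p * p * p ≤ p * p := Nat.le_of_mul_le_mul_right this hBpos
  have hpp : 0 < p * p := by positivity
  have : p ≤ 1 := by
    have h6 : p * p * p ≤ p * p * 1 := by simpa using h5
    exact Nat.le_of_mul_le_mul_left h6 hpp
  omega

/-- Lifting a fixed coset to a fixed point (coprime action of an element of order `p`). -/
theorem lift_fixed (t y : Γ) (ht : t ^ p = 1) (K : Subgroup Γ) (hK : ¬ p ∣ Nat.card K)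
    (htK : t ∈ Subgroup.normalizer (K : Set Γ)) (hy : y⁻¹ * (t * y * t⁻¹) ∈ K) :
    ∃ m ∈ K, t * (y * m) * t⁻¹ = y * m := by
  set S : Set Γ := (fun m => y * m) '' (K : Set Γ) with hS
  have hcard : Nat.card S = Nat.card K := by
    rw [hS]
    exact Nat.card_image_of_injective (mul_right_injective y) _
  have hinv : ∀ s ∈ S, t * s * t⁻¹ ∈ S := by
    rintro _ ⟨m, hm, rfl⟩
    refine ⟨y⁻¹ * (t * y * t⁻¹) * (t * m * t⁻¹), ?_, ?_⟩
    · exact K.mul_mem hy ((Subgroup.mem_normalizer_iff.mp htK m).mp hm)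
    · show y * (y⁻¹ * (t * y * t⁻¹) * (t * m * t⁻¹)) = t * (y * m) * t⁻¹
      group
  obtain ⟨s, ⟨m, hm, rfl⟩, hs⟩ := exists_conj_fixed_of_pow_eq_one t ht S hinv (by rw [hcard]; exact hK)
  exact ⟨m, hm, hs⟩


open scoped Pointwise in
theorem exists_mul_of_mem_sup {H N : Subgroup Γ} (hLE : H ≤ Subgroup.normalizer (N : Set Γ)) {x : Γ}
    (hx : x ∈ H ⊔ N) : ∃ h ∈ H, ∃ n ∈ N, h * n = x := by
  have h1 := Subgroup.coe_mul_of_left_le_normalizer_right H N hLE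
  have hx' : x ∈ ((H ⊔ N : Subgroup Γ) : Set Γ) := hx
  rw [h1] at hx'
  exact Set.mem_mul.mp hx'

/-- A local functor inside `X`, defined off the subgroup `B` of `E`. -/
def IsLocFunctor (E B X : Subgroup Γ) (φ : Γ → Subgroup Γ) : Prop :=
  (∀ e ∈ E, e ∉ B → φ e ≤ X ⊓ Subgroup.centralizer {e}) ∧
  (∀ e ∈ E, e ∉ B → E ≤ Subgroup.normalizer (φ e : Set Γ)) ∧
  (∀ e ∈ E, e ∉ B → ∀ f ∈ E, f ∉ B → φ e ⊓ Subgroup.centralizer {f} ≤ φ f) ∧
  X ≤ ⨆ e : {e : Γ // e ∈ E ∧ e ∉ B}, φ (e : Γ)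

theorem not_dvd_card_of_le {X Y : Subgroup Γ} (h : Y ≤ X) (hX : ¬ p ∣ Nat.card X) :
    ¬ p ∣ Nat.card Y := fun hd => hX (hd.trans (Subgroup.card_dvd_of_le h))

theorem sq_le_card (E B : Subgroup Γ) (hidx : p ^ 3 * Nat.card B ≤ Nat.card E) :
    p ^ 2 ≤ Nat.card E := by
  have hBpos : 0 < Nat.card B := Nat.card_pos
  have hp1 : 1 ≤ p := hp.out.one_le
  calc p ^ 2 = p ^ 2 * 1 := by ring
    _ ≤ p ^ 3 * Nat.card B := by
        apply Nat.mul_le_mul _ hBpos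
        exact Nat.pow_le_pow_right hp1 (by norm_num)
    _ ≤ Nat.card E := hidx

/-- The subgroup generated by the `φ e ∩ N` is normalized by `X`. -/
theorem normalizes_sub (E B X : Subgroup Γ) (hE : IsElementaryAbelian p E) (hBE : B ≤ E)
    (hidx : p ^ 3 * Nat.card B ≤ Nat.card E)
    (hpX : ¬ p ∣ Nat.card X) (φ : Γ → Subgroup Γ) (hφ : IsLocFunctor E B X φ)
    (N : Subgroup Γ) (hXN : X ≤ Subgroup.normalizer (N : Set Γ))
    (hEN : E ≤ Subgroup.normalizer (N : Set Γ)) :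
    X ≤ Subgroup.normalizer ((⨆ e : {e : Γ // e ∈ E ∧ e ∉ B}, φ (e : Γ) ⊓ N : Subgroup Γ) : Set Γ) := by
  obtain ⟨hφX, hφE, hbal, hgen⟩ := hφ
  have hE2 := sq_le_card E B hidx
  refine hgen.trans (iSup_le ?_)
  rintro ⟨f, hfE, hfB⟩
  have hpf : ¬ p ∣ Nat.card (φ f) := not_dvd_card_of_le ((hφX f hfE hfB).trans inf_le_left) hpX
  refine (gen_hyper E (φ f) hE hE2 hpf (hφE f hfE hfB)).trans (iSup_le ?_)
  rintro ⟨H', hH'E, hH'i⟩
  intro x hx
  apply mem_normalizer_of_map_conj_le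
  rw [Subgroup.map_iSup]
  apply iSup_le
  rintro ⟨e, heE, heB⟩
  have hpe : ¬ p ∣ Nat.card ↥(φ e ⊓ N) :=
    not_dvd_card_of_le (inf_le_left.trans ((hφX e heE heB).trans inf_le_left)) hpX
  have hEeN : E ≤ Subgroup.normalizer ((φ e ⊓ N : Subgroup Γ) : Set Γ) :=
    (le_inf (hφE e heE heB) hEN).trans Subgroup.inf_normalizer_le_normalizer_inf
  refine (Subgroup.map_mono (gen_hyper E (φ e ⊓ N) hE hE2 hpe hEeN)).trans ?_
  rw [Subgroup.map_iSup]
  apply iSup_le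
  rintro ⟨H, hHE, hHi⟩
  obtain ⟨g, hgH, hgH', hgB⟩ := exists_mem_inf_not_mem E B H H' hBE hidx hHE hHi hH'E hH'i
  have hgE : g ∈ E := hHE hgH
  rintro _ ⟨n, hn, rfl⟩
  have hxg : x ∈ φ g := hbal f hfE hfB g hgE hgB
    ⟨hx.1, Subgroup.centralizer_le (Set.singleton_subset_iff.mpr hgH') hx.2⟩
  have hng : n ∈ φ g := hbal e heE heB g hgE hgB
    ⟨hn.1.1, Subgroup.centralizer_le (Set.singleton_subset_iff.mpr hgH) hn.2⟩
  have hxX : x ∈ X := (hφX f hfE hfB hx.1).1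
  have hmem : x * n * x⁻¹ ∈ φ g ⊓ N :=
    Subgroup.mem_inf.mpr ⟨mul_mem (mul_mem hxg hng) (inv_mem hxg),
      (Subgroup.mem_normalizer_iff.mp (hXN hxX) n).mp hn.1.2⟩
  exact le_iSup (fun e : {e : Γ // e ∈ E ∧ e ∉ B} => φ (e : Γ) ⊓ N) ⟨g, hgE, hgB⟩ hmem

theorem normalizes_of_commutator_le {X S : Subgroup Γ} (h1 : ⁅X, X⁆ ≤ S) (h2 : S ≤ X) :
    X ≤ Subgroup.normalizer (S : Set Γ) := by
  intro x hx
  apply mem_normalizer_of_map_conj_le
  rintro _ ⟨s, hs, rfl⟩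
  have hc : ⁅x, s⁆ ∈ S := h1 (Subgroup.commutator_mem_commutator hx (h2 hs))
  have e : x * s * x⁻¹ = ⁅x, s⁆ * s := by rw [commutatorElement_def]; group
  show x * s * x⁻¹ ∈ S
  rw [e]
  exact mul_mem hc hs

/-- If `X = C_X(t) M` then `t` acts trivially on `X / M`. -/
theorem triv_of_sup {X M : Subgroup Γ} {t : Γ} (hXM : X ≤ Subgroup.normalizer (M : Set Γ))
    (htM : t ∈ Subgroup.normalizer (M : Set Γ))
    (hsup : X ≤ (X ⊓ Subgroup.centralizer {t}) ⊔ M) :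
    ∀ x ∈ X, x⁻¹ * (t * x * t⁻¹) ∈ M := by
  intro x hx
  obtain ⟨c, hc, m, hm, rfl⟩ := exists_mul_of_mem_sup (inf_le_left.trans hXM) (hsup hx)
  have hct : t * c * t⁻¹ = c := (mem_centralizer_singleton_iff' t c).mp hc.2
  have e : (c * m)⁻¹ * (t * (c * m) * t⁻¹) = m⁻¹ * (c⁻¹ * (t * c * t⁻¹)) * (t * m * t⁻¹) := by group
  rw [e, hct, inv_mul_cancel, mul_one]
  exact mul_mem (inv_mem hm) ((Subgroup.mem_normalizer_iff.mp htM m).mp hm)


theorem commutator_lt_of_solvable (X : Subgroup Γ) (hsolv : Group.IsSolvable X) (hX : X ≠ ⊥) :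
    ⁅X, X⁆ < X := by
  refine lt_of_le_of_ne X.commutator_le_self ?_
  intro heq
  haveI := hsolv
  haveI : Nontrivial X := (Subgroup.nontrivial_iff_ne_bot X).mpr hX
  have h := Group.IsSolvable.commutator_lt_top_of_nontrivial X
  have h2 : (_root_.commutator X).map X.subtype = (⊤ : Subgroup X).map X.subtype := by
    rw [X.map_subtype_commutator, heq, ← MonoidHom.range_eq_map, X.range_subtype]
  exact h.ne (Subgroup.map_injective X.subtype_injective h2)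

theorem le_centralizer_of_le (E H : Subgroup Γ) (hE : IsElementaryAbelian p E) (hHE : H ≤ E) :
    E ≤ Subgroup.centralizer (H : Set Γ) := by
  intro b hb
  rw [Subgroup.mem_centralizer_iff]
  intro h hh
  exact elemAb_comm p E hE h (hHE hh) b hb

/-- Local completeness: a balanced functor inside a solvable `p'`-group `X`, defined off a subgroup `B`
of `E` with `p^3 |B| ≤ |E|`, which generates `X`, is the full centralizer functor of `X`. -/
theorem local_complete_aux (E B : Subgroup Γ) (hE : IsElementaryAbelian p E) (hBE : B ≤ E)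
    (hidx : p ^ 3 * Nat.card B ≤ Nat.card E) :
    ∀ n : ℕ, ∀ (X : Subgroup Γ) (φ : Γ → Subgroup Γ), Nat.card X = n →
      E ≤ Subgroup.normalizer (X : Set Γ) → ¬ p ∣ Nat.card X → Group.IsSolvable X →
      IsLocFunctor E B X φ → ∀ e ∈ E, e ∉ B → X ⊓ Subgroup.centralizer {e} ≤ φ e := by
  intro n
  induction n using Nat.strong_induction_on with
  | _ n ih =>
  intro X φ hn hEX hpX hsolv hφ
  have hφ' := hφ
  obtain ⟨hφX, hφE, hbal, hgen⟩ := hφ
  by_cases hXbot : X = ⊥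
  · intro e _ _
    rw [hXbot]
    exact inf_le_left.trans bot_le
  have hE2 := sq_le_card E B hidx
  have hX'lt : ⁅X, X⁆ < X := commutator_lt_of_solvable X hsolv hXbot
  -- a maximal invariant normal subgroup with abelian quotient
  obtain ⟨M, hX'M', hMmax⟩ := (Set.toFinite {S : Subgroup Γ | ⁅X, X⁆ ≤ S ∧ S ≤ X ∧ S ≠ X ∧
      E ≤ Subgroup.normalizer (S : Set Γ)}).exists_le_maximal (a := ⁅X, X⁆)
    ⟨le_rfl, hX'lt.le, hX'lt.ne, Cfsg.Agent.Lib.Helper30.gen_le_normalizer_commutator hEX⟩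
  obtain ⟨hX'M, hMX, hMne, hEM⟩ := hMmax.prop
  have hMmax' : ∀ S : Subgroup Γ, M ≤ S → S ≤ X → E ≤ Subgroup.normalizer (S : Set Γ) →
      S = M ∨ S = X := by
    intro S hMS hSX hES
    by_cases h : S = X
    · right; exact h
    · left; exact le_antisymm (hMmax.le_of_ge ⟨hX'M.trans hMS, hSX, h, hES⟩ hMS) hMS
  have hXnM : X ≤ Subgroup.normalizer (M : Set Γ) := normalizes_of_commutator_le hX'M hMX
  -- invariance of `(X ∩ C(H)) M`
  have hinvS : ∀ H : Subgroup Γ, H ≤ E →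
      E ≤ Subgroup.normalizer (((X ⊓ Subgroup.centralizer (H : Set Γ)) ⊔ M : Subgroup Γ) : Set Γ) := by
    intro H hHE
    apply Cfsg.Agent.Lib.Helper30.gen_le_normalizer_sup _ hEM
    exact (le_inf hEX ((le_centralizer_of_le E H hE hHE).trans Subgroup.le_normalizer)).trans
      Subgroup.inf_normalizer_le_normalizer_inf
  -- Step 1
  have hstep1 : ∃ H : Subgroup Γ, H ≤ E ∧ H.relIndex E ≤ p ∧
      X ≤ (X ⊓ Subgroup.centralizer (H : Set Γ)) ⊔ M := by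
    by_contra hcon
    push Not at hcon
    have hXM : X ≤ M := by
      refine (gen_hyper E X hE hE2 hpX hEX).trans (iSup_le ?_)
      rintro ⟨H, hHE, hHi⟩
      rcases hMmax' _ le_sup_right (sup_le inf_le_left hMX) (hinvS H hHE) with h | h
      · exact le_sup_left.trans h.le
      · exact absurd h.ge (hcon H hHE hHi)
    exact hMne (le_antisymm hMX hXM)
  obtain ⟨H, hHE, hHi, hHsup⟩ := hstep1
  -- triviality predicate
  have hTrivH : ∀ t ∈ H, ∀ x ∈ X, x⁻¹ * (t * x * t⁻¹) ∈ M := by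
    intro t ht
    apply triv_of_sup hXnM (hEM (hHE ht))
    refine hHsup.trans (sup_le_sup_right (inf_le_inf_left _ ?_) _)
    exact Subgroup.centralizer_le (Set.singleton_subset_iff.mpr ht)
  -- Step 2
  have hstep2 : ∀ e ∈ E, (¬ ∀ x ∈ X, x⁻¹ * (e * x * e⁻¹) ∈ M) →
      X ⊓ Subgroup.centralizer {e} ≤ M := by
    intro e heE hnt
    have hzp : Subgroup.zpowers e ≤ E := Subgroup.zpowers_le.mpr heE
    have hcz : Subgroup.centralizer ((Subgroup.zpowers e : Subgroup Γ) : Set Γ) =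
        Subgroup.centralizer {e} := centralizer_zpowers_eq e
    have hinv := hinvS (Subgroup.zpowers e) hzp
    rw [hcz] at hinv
    rcases hMmax' _ le_sup_right (sup_le inf_le_left hMX) hinv with h | h
    · exact le_sup_left.trans h.le
    · exact absurd (triv_of_sup hXnM (hEM heE) h.ge) hnt
  -- Step 3
  set M₀ : Subgroup Γ := ⨆ e : {e : Γ // e ∈ E ∧ e ∉ B}, φ (e : Γ) ⊓ M with hM₀
  have hXnM₀ : X ≤ Subgroup.normalizer (M₀ : Set Γ) :=
    normalizes_sub E B X hE hBE hidx hpX φ hφ' M hXnM hEM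
  have hM₀M : M₀ ≤ M := iSup_le (fun _ => inf_le_right)
  -- Step 4
  have hstep4 : ∀ t ∈ E, t ∉ B → ∀ t' ∈ E, t' ∉ B → (∀ x ∈ X, x⁻¹ * (t' * x * t'⁻¹) ∈ M) →
      φ t ≤ φ t' ⊔ M₀ := by
    intro t htE htB t' ht'E ht'B hTriv y hy
    have hyX : y ∈ X := (hφX t htE htB hy).1
    have hc : y⁻¹ * (t' * y * t'⁻¹) ∈ φ t ⊓ M :=
      Subgroup.mem_inf.mpr ⟨mul_mem (inv_mem hy)
        ((Subgroup.mem_normalizer_iff.mp (hφE t htE htB ht'E) y).mp hy), hTriv y hyX⟩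
    have hK : ¬ p ∣ Nat.card ↥(φ t ⊓ M) := not_dvd_card_of_le (inf_le_right.trans hMX) hpX
    have ht'K : t' ∈ Subgroup.normalizer ((φ t ⊓ M : Subgroup Γ) : Set Γ) :=
      Subgroup.inf_normalizer_le_normalizer_inf ⟨hφE t htE htB ht'E, hEM ht'E⟩
    obtain ⟨m, hm, hfix⟩ := lift_fixed t' y (hE.2 t' ht'E) (φ t ⊓ M) hK ht'K hc
    have h1 : y * m ∈ φ t' := hbal t htE htB t' ht'E ht'B
      (Subgroup.mem_inf.mpr ⟨mul_mem hy hm.1, (mem_centralizer_singleton_iff' t' (y * m)).mpr hfix⟩)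
    have h2 : m ∈ M₀ :=
      le_iSup (fun e : {e : Γ // e ∈ E ∧ e ∉ B} => φ (e : Γ) ⊓ M) ⟨t, htE, htB⟩ hm
    have e : y = (y * m) * m⁻¹ := by group
    rw [e]
    exact Subgroup.mul_mem_sup h1 (inv_mem h2)
  -- Step 5
  have hstep5 : ∀ t₀ ∈ E, t₀ ∉ B → (∀ x ∈ X, x⁻¹ * (t₀ * x * t₀⁻¹) ∈ M) → X ≤ φ t₀ ⊔ M₀ := by
    intro t₀ ht₀E ht₀B hTriv
    refine hgen.trans (iSup_le ?_)
    rintro ⟨t, htE, htB⟩
    exact hstep4 t htE htB t₀ ht₀E ht₀B hTriv
  obtain ⟨t₀, ht₀H, _, ht₀B⟩ := exists_mem_inf_not_mem E B H H hBE hidx hHE hHi hHE hHi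
  have ht₀E : t₀ ∈ E := hHE ht₀H
  -- Step 6
  have hMM₀ : M ≤ M₀ := by
    intro m hm
    have hφn : φ t₀ ≤ Subgroup.normalizer (M₀ : Set Γ) :=
      ((hφX t₀ ht₀E ht₀B).trans inf_le_left).trans hXnM₀
    obtain ⟨y, hy, m₀, hm₀, rfl⟩ := exists_mul_of_mem_sup hφn
      (hstep5 t₀ ht₀E ht₀B (hTrivH t₀ ht₀H) (hMX hm))
    have hyM : y ∈ M := by
      have e : y = (y * m₀) * m₀⁻¹ := by group
      rw [e]
      exact mul_mem hm (inv_mem (hM₀M hm₀))
    have hyM₀ : y ∈ M₀ :=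
      le_iSup (fun e : {e : Γ // e ∈ E ∧ e ∉ B} => φ (e : Γ) ⊓ M) ⟨t₀, ht₀E, ht₀B⟩
        (Subgroup.mem_inf.mpr ⟨hy, hyM⟩)
    exact mul_mem hyM₀ hm₀
  -- Step 7: induction on `M`
  have hcardM : Nat.card M < n := by
    rw [← hn]
    exact card_lt_card_of_lt hMX hMne
  have hsolvM : Group.IsSolvable M :=
    haveI := hsolv
    solvable_of_solvable_injective (Subgroup.inclusion_injective hMX)
  have hIH := ih (Nat.card M) hcardM M (fun e => φ e ⊓ M) rfl hEM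
    (not_dvd_card_of_le hMX hpX) hsolvM
    ⟨fun e heE heB => le_inf inf_le_right (inf_le_left.trans ((hφX e heE heB).trans inf_le_right)),
     fun e heE heB => (le_inf (hφE e heE heB) hEM).trans Subgroup.inf_normalizer_le_normalizer_inf,
     fun e heE heB f hfE hfB => by
       intro x hx
       exact Subgroup.mem_inf.mpr ⟨hbal e heE heB f hfE hfB (Subgroup.mem_inf.mpr ⟨hx.1.1, hx.2⟩), hx.1.2⟩,
     hMM₀⟩
  -- Step 8
  intro e heE heB x hx
  by_cases hTriv : ∀ x ∈ X, x⁻¹ * (e * x * e⁻¹) ∈ M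
  · have hφn : φ e ≤ Subgroup.normalizer (M₀ : Set Γ) :=
      ((hφX e heE heB).trans inf_le_left).trans hXnM₀
    obtain ⟨y, hy, m, hm, rfl⟩ := exists_mul_of_mem_sup hφn (hstep5 e heE heB hTriv hx.1)
    have hyC : y ∈ Subgroup.centralizer {e} := (hφX e heE heB hy).2
    have hmC : m ∈ Subgroup.centralizer {e} := by
      have e' : m = y⁻¹ * (y * m) := by group
      rw [e']
      exact mul_mem (inv_mem hyC) hx.2
    have hmφ : m ∈ φ e := (hIH e heE heB (Subgroup.mem_inf.mpr ⟨hM₀M hm, hmC⟩)).1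
    exact mul_mem hy hmφ
  · have hxM : x ∈ M := hstep2 e heE hTriv hx
    exact (hIH e heE heB (Subgroup.mem_inf.mpr ⟨hxM, hx.2⟩)).1

theorem local_complete (E B X : Subgroup Γ) (hE : IsElementaryAbelian p E) (hBE : B ≤ E)
    (hidx : p ^ 3 * Nat.card B ≤ Nat.card E) (φ : Γ → Subgroup Γ)
    (hEX : E ≤ Subgroup.normalizer (X : Set Γ)) (hpX : ¬ p ∣ Nat.card X)
    (hsolv : Group.IsSolvable X) (hφ : IsLocFunctor E B X φ) :
    ∀ e ∈ E, e ∉ B → X ⊓ Subgroup.centralizer {e} ≤ φ e :=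
  local_complete_aux E B hE hBE hidx (Nat.card X) X φ rfl hEX hpX hsolv hφ

end Cfsg.Agent.Lib.Helper29.LC
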