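import Mathlib
import Cfsg.Prelude.Def_Local
import Cfsg.Agent.Lib.Helper29.LocalComplete
import Cfsg.Agent.Lib.Helper29.KBalance
import Cfsg.Agent.Lib.Helper29.CompCore

set_option autoImplicit false

namespace Cfsg.Agent.Lib.Helper29.KBT

open Cfsg

variable {G : Type*} [Group G] [Finite G] {p : ℕ} [hp : Fact p.Prime]

/-- `Z_B = Δ(B) ∩ C(B)`. -/
def Zc (p : ℕ) (B : Subgroup G) : Subgroup G :=
  signalizerDelta p B ⊓ Subgroup.centralizer (B : Set G)

/-- `Θ(B) = ⟨Z_{B'} : B ≤ B' ≤ A, |B'| ≥ p^k⟩`. -/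
def Th (p k : ℕ) (A B : Subgroup G) : Subgroup G :=
  ⨆ B' : {B' : Subgroup G // B ≤ B' ∧ B' ≤ A ∧ p ^ k ≤ Nat.card B'}, Zc p (B' : Subgroup G)

omit [Finite G] hp in
theorem delta_anti {B B' : Subgroup G} (h : B ≤ B') :
    signalizerDelta p B' ≤ signalizerDelta p B := by
  unfold signalizerDelta
  exact le_iInf (fun a => iInf_le
    (fun a : {a : G // a ∈ B' ∧ a ≠ 1} => centralizerPPrimeCore p (a : G)) ⟨a.1, h a.2.1, a.2.2⟩)

omit [Finite G] hp in
theorem delta_le_core {B : Subgroup G} {b : G} (hb : b ∈ B) (hb1 : b ≠ 1) :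
    signalizerDelta p B ≤ centralizerPPrimeCore p b :=
  iInf_le (fun a : {a : G // a ∈ B ∧ a ≠ 1} => centralizerPPrimeCore p (a : G)) ⟨b, hb, hb1⟩

omit [Finite G] hp in
theorem elemAb_of_le {A D : Subgroup G} (hA : IsElementaryAbelian p A) (h : D ≤ A) :
    IsElementaryAbelian p D :=
  ⟨⟨⟨fun a b => Subtype.ext (comm_of_mem_elementaryAbelian hA (h a.2) (h b.2))⟩⟩,
    fun a ha => hA.2 a (h ha)⟩

omit [Finite G] hp in
theorem le_normalizer_core {A : Subgroup G} (hA : IsElementaryAbelian p A) {a : G} (ha : a ∈ A) :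
    A ≤ Subgroup.normalizer ((centralizerPPrimeCore p a : Subgroup G) : Set G) := by
  refine le_trans ?_ (centralizer_le_normalizer_centralizerCore p a)
  intro b hb
  rw [Subgroup.mem_centralizer_iff]
  intro h hh
  rw [Set.mem_singleton_iff] at hh
  subst hh
  exact comm_of_mem_elementaryAbelian hA ha hb

omit [Finite G] hp in
theorem le_normalizer_iInf {ι : Sort*} (A : Subgroup G) (K : ι → Subgroup G)
    (h : ∀ i, A ≤ Subgroup.normalizer (K i : Set G)) :
    A ≤ Subgroup.normalizer ((⨅ i, K i : Subgroup G) : Set G) := by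
  intro b hb
  rw [Subgroup.mem_normalizer_iff]
  intro x
  simp only [Subgroup.mem_iInf]
  exact forall_congr' (fun i => Subgroup.mem_normalizer_iff.mp (h i hb) x)

omit [Finite G] hp in
theorem le_normalizer_delta {A B : Subgroup G} (hA : IsElementaryAbelian p A) (hBA : B ≤ A) :
    A ≤ Subgroup.normalizer ((signalizerDelta p B : Subgroup G) : Set G) := by
  unfold signalizerDelta
  exact le_normalizer_iInf A _ (fun a => le_normalizer_core hA (hBA a.2.1))

theorem le_normalizer_centralizer {A B : Subgroup G} (hA : IsElementaryAbelian p A) (hBA : B ≤ A) :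
    A ≤ Subgroup.normalizer ((Subgroup.centralizer (B : Set G) : Subgroup G) : Set G) :=
  (LC.le_centralizer_of_le A B hA hBA).trans Subgroup.le_normalizer

theorem le_normalizer_Zc {A B : Subgroup G} (hA : IsElementaryAbelian p A) (hBA : B ≤ A) :
    A ≤ Subgroup.normalizer ((Zc p B : Subgroup G) : Set G) :=
  (le_inf (le_normalizer_delta hA hBA) (le_normalizer_centralizer hA hBA)).trans
    Subgroup.inf_normalizer_le_normalizer_inf

theorem le_normalizer_Th (k : ℕ) {A : Subgroup G} (B : Subgroup G) (hA : IsElementaryAbelian p A) :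
    A ≤ Subgroup.normalizer ((Th p k A B : Subgroup G) : Set G) :=
  Cfsg.Agent.Lib.Helper30.gen_le_normalizer_iSup (fun B' => le_normalizer_Zc hA B'.2.2.1)

/-- `k`-balance for subgroups of order at least `p^k`. -/
theorem kbal {k : ℕ} (hbal : IsKBalanced p k G) {A : Subgroup G} (hA : IsElementaryAbelian p A)
    {B' : Subgroup G} (hB'A : B' ≤ A) (hcard : p ^ k ≤ Nat.card B') {b : G} (hb : b ∈ A)
    (hb1 : b ≠ 1) :
    signalizerDelta p B' ⊓ Subgroup.centralizer {b} ≤ centralizerPPrimeCore p b := by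
  have hB'p : IsPGroup p B' := elemAb_isPGroup p B' (elemAb_of_le hA hB'A)
  obtain ⟨m, hm⟩ := IsPGroup.iff_card.mp hB'p
  have hkm : k ≤ m := by
    rw [hm] at hcard
    exact (Nat.pow_le_pow_iff_right hp.out.one_lt).mp hcard
  have hdvd : p ^ k ∣ Nat.card B' := by rw [hm]; exact pow_dvd_pow p hkm
  obtain ⟨D₀, hD₀⟩ := Sylow.exists_subgroup_card_pow_prime p hdvd
  have hDB' : D₀.map B'.subtype ≤ B' := Subgroup.map_subtype_le _
  have hDcard : Nat.card ↥(D₀.map B'.subtype) = p ^ k := by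
    rw [Subgroup.card_map_of_injective B'.subtype_injective, hD₀]
  have hDA : D₀.map B'.subtype ≤ A := hDB'.trans hB'A
  have := hbal (D₀.map B'.subtype) (elemAb_of_le hA hDA) hDcard b
    (orderOf_eq_of_mem_elementaryAbelian hA hb hb1)
    (fun a ha => comm_of_mem_elementaryAbelian hA (hDA ha) hb)
  exact (inf_le_inf_right _ (delta_anti hDB')).trans this

theorem delta_inf_centralizer_le {k : ℕ} (hbal : IsKBalanced p k G) {A : Subgroup G}
    (hA : IsElementaryAbelian p A) {B' : Subgroup G} (hB'A : B' ≤ A) (hcard : p ^ k ≤ Nat.card B')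
    {B'' : Subgroup G} (hB''A : B'' ≤ A) :
    signalizerDelta p B' ⊓ Subgroup.centralizer (B'' : Set G) ≤ signalizerDelta p B'' := by
  unfold signalizerDelta
  refine le_iInf (fun b => ?_)
  exact (inf_le_inf_left _ (Subgroup.centralizer_le (Set.singleton_subset_iff.mpr b.2.1))).trans
    (kbal hbal hA hB'A hcard (hB''A b.2.1) b.2.2)

theorem Zc_inf_le {k : ℕ} (hbal : IsKBalanced p k G) {A : Subgroup G}
    (hA : IsElementaryAbelian p A) {B' : Subgroup G} (hB'A : B' ≤ A) (hcard : p ^ k ≤ Nat.card B')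
    {B'' : Subgroup G} (hB''A : B'' ≤ A) :
    Zc p B' ⊓ Subgroup.centralizer (B'' : Set G) ≤ Zc p B'' := by
  intro x hx
  exact Subgroup.mem_inf.mpr
    ⟨delta_inf_centralizer_le hbal hA hB'A hcard hB''A (Subgroup.mem_inf.mpr ⟨hx.1.1, hx.2⟩), hx.2⟩

omit [Finite G] hp in
theorem Zc_anti {B' B'' : Subgroup G} (h : B' ≤ B'') : Zc p B'' ≤ Zc p B' :=
  inf_le_inf (delta_anti h) (Subgroup.centralizer_le (fun _ hx => h hx))

omit [Finite G] hp in
theorem Th_le_Zc (k : ℕ) (A B : Subgroup G) : Th p k A B ≤ Zc p B :=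
  iSup_le (fun B' => Zc_anti B'.2.1)

omit [Finite G] hp in
theorem Zc_le_Th {k : ℕ} {A B : Subgroup G} (hBA : B ≤ A) (hcard : p ^ k ≤ Nat.card B) :
    Zc p B ≤ Th p k A B :=
  le_iSup (fun B' : {B' : Subgroup G // B ≤ B' ∧ B' ≤ A ∧ p ^ k ≤ Nat.card B'} =>
    Zc p (B' : Subgroup G)) ⟨B, le_rfl, hBA, hcard⟩

omit [Finite G] hp in
theorem Th_le_centralizer (k : ℕ) (A B : Subgroup G) :
    Th p k A B ≤ Subgroup.centralizer (B : Set G) :=
  (Th_le_Zc k A B).trans inf_le_right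

omit [Finite G] hp in
theorem Th_le_core (k : ℕ) (A : Subgroup G) {B : Subgroup G} {b : G} (hb : b ∈ B) (hb1 : b ≠ 1) :
    Th p k A B ≤ centralizerPPrimeCore p b :=
  (Th_le_Zc k A B).trans (inf_le_left.trans (delta_le_core hb hb1))

omit [Finite G] hp in
theorem Th_anti (k : ℕ) (A : Subgroup G) {B B₁ : Subgroup G} (h : B ≤ B₁) :
    Th p k A B₁ ≤ Th p k A B :=
  iSup_le (fun B' => le_iSup (fun B' : {B' : Subgroup G // B ≤ B' ∧ B' ≤ A ∧ p ^ k ≤ Nat.card B'} =>
    Zc p (B' : Subgroup G)) ⟨B'.1, h.trans B'.2.1, B'.2.2.1, B'.2.2.2⟩)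

omit [Finite G] hp in
theorem centralizer_inf_le_centralizer_sup (B₁ : Subgroup G) (f : G) :
    Subgroup.centralizer (B₁ : Set G) ⊓ Subgroup.centralizer {f} ≤
      Subgroup.centralizer ((B₁ ⊔ Subgroup.zpowers f : Subgroup G) : Set G) := by
  intro x hx
  have h1 : B₁ ≤ Subgroup.centralizer ({x} : Set G) := by
    intro s hs
    rw [Subgroup.mem_centralizer_iff]
    intro y hy
    rw [Set.mem_singleton_iff] at hy
    subst hy
    exact ((Subgroup.mem_centralizer_iff.mp hx.1) s hs).symm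
  have h2 : Subgroup.zpowers f ≤ Subgroup.centralizer ({x} : Set G) := by
    rw [Subgroup.zpowers_le, Subgroup.mem_centralizer_iff]
    intro y hy
    rw [Set.mem_singleton_iff] at hy
    subst hy
    exact ((Subgroup.mem_centralizer_iff.mp hx.2) f rfl).symm
  rw [Subgroup.mem_centralizer_iff]
  intro s hs
  exact ((Subgroup.mem_centralizer_iff.mp (sup_le h1 h2 hs)) x rfl).symm


/-- The key completeness statement: `C_{Θ(B)}(B'') = Θ(B'')`. -/
theorem Th_fix {k : ℕ} (hbal : IsKBalanced p k G) {A : Subgroup G}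
    (hA : IsElementaryAbelian p A) (hAk : p ^ (k + 2) ≤ Nat.card ↥A)
    (hsolv : ∀ a ∈ A, a ≠ 1 → Group.IsSolvable ↥(centralizerPPrimeCore p a)) :
    ∀ d : ℕ, ∀ B : Subgroup G, B ≤ A → B ≠ ⊥ → Nat.card A - Nat.card B = d →
      ∀ B'' : Subgroup G, B ≤ B'' → B'' ≤ A →
        Th p k A B ⊓ Subgroup.centralizer (B'' : Set G) ≤ Th p k A B'' := by
  intro d
  induction d using Nat.strong_induction_on with
  | _ d ih =>
  intro B hBA hBbot hd B'' hBB'' hB''A
  by_cases hc : p ^ k ≤ Nat.card B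
  · calc Th p k A B ⊓ Subgroup.centralizer (B'' : Set G)
        ≤ Zc p B ⊓ Subgroup.centralizer (B'' : Set G) := inf_le_inf_right _ (Th_le_Zc k A B)
      _ ≤ Zc p B'' := Zc_inf_le hbal hA hBA hc hB''A
      _ ≤ Th p k A B'' := Zc_le_Th hB''A (hc.trans (Subgroup.card_le_of_le hBB''))
  · push Not at hc
    have hIH : ∀ B₁ : Subgroup G, B ≤ B₁ → B₁ ≤ A → ¬ (B₁ ≤ B) → ∀ B₂ : Subgroup G, B₁ ≤ B₂ → B₂ ≤ A →
        Th p k A B₁ ⊓ Subgroup.centralizer (B₂ : Set G) ≤ Th p k A B₂ := by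
      intro B₁ hBB₁ hB₁A hne B₂ h1 h2
      have hlt : Nat.card B < Nat.card B₁ := card_lt_card_of_lt hBB₁ (fun h => hne h.ge)
      have hle : Nat.card B₁ ≤ Nat.card A := Subgroup.card_le_of_le hB₁A
      exact ih (Nat.card A - Nat.card B₁) (by omega) B₁ hB₁A
        (fun h => hBbot (le_bot_iff.mp (h ▸ hBB₁))) rfl B₂ h1 h2
    have hidx : p ^ 3 * Nat.card B ≤ Nat.card A := by
      obtain ⟨r, hr⟩ := IsPGroup.iff_card.mp (elemAb_isPGroup p B (elemAb_of_le hA hBA))
      rw [hr] at hc ⊢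
      have hrk : r < k := (Nat.pow_lt_pow_iff_right hp.out.one_lt).mp hc
      calc p ^ 3 * p ^ r = p ^ (3 + r) := (pow_add p 3 r).symm
        _ ≤ p ^ (k + 2) := Nat.pow_le_pow_right hp.out.one_le (by omega)
        _ ≤ Nat.card A := hAk
    obtain ⟨b, hb1⟩ := (Subgroup.ne_bot_iff_exists_ne_one).mp hBbot
    have hbB' : (b : G) ∈ B := b.2
    have hb1' : (b : G) ≠ 1 := fun h => hb1 (Subtype.ext h)
    have hThK : Th p k A B ≤ centralizerPPrimeCore p (b : G) := Th_le_core k A hbB' hb1'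
    have hpK : ¬ p ∣ Nat.card ↥(centralizerPPrimeCore p (b : G)) :=
      (Nat.Prime.coprime_iff_not_dvd hp.out).mp (card_centralizerCore_coprime p (b : G)).symm
    have hpTh : ¬ p ∣ Nat.card ↥(Th p k A B) := LC.not_dvd_card_of_le hThK hpK
    have hsolvTh : Group.IsSolvable ↥(Th p k A B) :=
      haveI := hsolv (b : G) (hBA hbB') hb1'
      Group.isSolvable_of_isSolvable_injective (Subgroup.inclusion_injective hThK)
    have hzA : ∀ e ∈ A, B ⊔ Subgroup.zpowers e ≤ A :=
      fun e he => sup_le hBA (Subgroup.zpowers_le.mpr he)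
    have hzB : ∀ e : G, e ∉ B → ¬ (B ⊔ Subgroup.zpowers e ≤ B) :=
      fun e he h => he (h (le_sup_right (a := B) (Subgroup.mem_zpowers e)))
    have hLC := LC.local_complete A B (Th p k A B) hA hBA hidx
      (fun e => Th p k A (B ⊔ Subgroup.zpowers e)) (le_normalizer_Th k B hA) hpTh hsolvTh
      ⟨fun e heA heB => le_inf (Th_anti k A le_sup_left)
          ((Th_le_centralizer k A _).trans (Subgroup.centralizer_le
            (Set.singleton_subset_iff.mpr (le_sup_right (a := B) (Subgroup.mem_zpowers e))))),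
       fun e _ _ => le_normalizer_Th k _ hA,
       fun e heA heB f hfA hfB => by
         intro x hx
         have hx2 : x ∈ Th p k A (B ⊔ Subgroup.zpowers e) ⊓
             Subgroup.centralizer ((B ⊔ Subgroup.zpowers e ⊔ Subgroup.zpowers f : Subgroup G) : Set G) :=
           Subgroup.mem_inf.mpr ⟨hx.1, centralizer_inf_le_centralizer_sup _ f
             (Subgroup.mem_inf.mpr ⟨Th_le_centralizer k A _ hx.1, hx.2⟩)⟩
         have h3 := hIH (B ⊔ Subgroup.zpowers e) le_sup_left (hzA e heA) (hzB e heB)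
           (B ⊔ Subgroup.zpowers e ⊔ Subgroup.zpowers f) le_sup_left
           (sup_le (hzA e heA) (Subgroup.zpowers_le.mpr hfA)) hx2
         exact Th_anti k A (sup_le (le_sup_left.trans le_sup_left) le_sup_right) h3,
       by
         refine iSup_le ?_
         rintro ⟨B', hBB', hB'A, hB'card⟩
         have hnle : ¬ B' ≤ B := fun h => absurd (hB'card.trans (Subgroup.card_le_of_le h)) (not_le.mpr hc)
         obtain ⟨e, heB', heB⟩ := SetLike.not_le_iff_exists.mp hnle
         have h5 : Zc p B' ≤ Th p k A (B ⊔ Subgroup.zpowers e) :=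
           le_iSup (fun B₁ : {B₁ : Subgroup G // B ⊔ Subgroup.zpowers e ≤ B₁ ∧ B₁ ≤ A ∧
             p ^ k ≤ Nat.card B₁} => Zc p (B₁ : Subgroup G))
             ⟨B', sup_le hBB' (Subgroup.zpowers_le.mpr heB'), hB'A, hB'card⟩
         exact h5.trans (le_iSup (fun e : {e : G // e ∈ A ∧ e ∉ B} =>
           Th p k A (B ⊔ Subgroup.zpowers (e : G))) ⟨e, hB'A heB', heB⟩)⟩
    by_cases hB''B : B'' ≤ B
    · have : B'' = B := le_antisymm hB''B hBB''
      rw [this]
      exact inf_le_left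
    · obtain ⟨e, heB'', heB⟩ := SetLike.not_le_iff_exists.mp hB''B
      have heA := hB''A heB''
      have hB₁B'' : B ⊔ Subgroup.zpowers e ≤ B'' := sup_le hBB'' (Subgroup.zpowers_le.mpr heB'')
      calc Th p k A B ⊓ Subgroup.centralizer (B'' : Set G)
          ≤ (Th p k A B ⊓ Subgroup.centralizer {e}) ⊓ Subgroup.centralizer (B'' : Set G) :=
            le_inf (le_inf inf_le_left (inf_le_right.trans
              (Subgroup.centralizer_le (Set.singleton_subset_iff.mpr heB'')))) inf_le_right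
        _ ≤ Th p k A (B ⊔ Subgroup.zpowers e) ⊓ Subgroup.centralizer (B'' : Set G) :=
            inf_le_inf_right _ (hLC e heA heB)
        _ ≤ Th p k A B'' := hIH (B ⊔ Subgroup.zpowers e) le_sup_left (hzA e heA) (hzB e heB)
            B'' hB₁B'' hB''A


theorem exists_le_card_eq {k : ℕ} {A : Subgroup G} (hA : IsElementaryAbelian p A)
    {B' : Subgroup G} (hB'A : B' ≤ A) (hcard : p ^ k ≤ Nat.card B') :
    ∃ D : Subgroup G, D ≤ B' ∧ Nat.card D = p ^ k := by
  have hB'p : IsPGroup p B' := elemAb_isPGroup p B' (elemAb_of_le hA hB'A)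
  obtain ⟨m, hm⟩ := IsPGroup.iff_card.mp hB'p
  have hkm : k ≤ m := by
    rw [hm] at hcard
    exact (Nat.pow_le_pow_iff_right hp.out.one_lt).mp hcard
  have hdvd : p ^ k ∣ Nat.card B' := by rw [hm]; exact pow_dvd_pow p hkm
  obtain ⟨D₀, hD₀⟩ := Sylow.exists_subgroup_card_pow_prime p hdvd
  refine ⟨D₀.map B'.subtype, Subgroup.map_subtype_le _, ?_⟩
  rw [Subgroup.card_map_of_injective B'.subtype_injective, hD₀]

/-- **`k`-balance gives a signalizer functor** (solvable cores). -/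
theorem kbalanced_signalizer {k : ℕ} (hbal : IsKBalanced p k G) (A : Subgroup G)
    (hA : IsElementaryAbelian p A) (hAk : p ^ (k + 2) ≤ Nat.card ↥A)
    (hsolv : ∀ a ∈ A, a ≠ 1 → Group.IsSolvable ↥(centralizerPPrimeCore p a)) :
    IsSignalizerFunctor p A (fun a => ⨆ D : {D : Subgroup G // D ≤ A ∧ Nat.card ↥D = p ^ k},
      signalizerDelta p (D : Subgroup G) ⊓ Subgroup.centralizer {a}) := by
  set θ : G → Subgroup G := fun a => ⨆ D : {D : Subgroup G // D ≤ A ∧ Nat.card ↥D = p ^ k},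
      signalizerDelta p (D : Subgroup G) ⊓ Subgroup.centralizer {a} with hθ
  have hθcore : ∀ a ∈ A, a ≠ 1 → θ a ≤ centralizerPPrimeCore p a :=
    fun a ha ha1 => iSup_le (fun D => kbal hbal hA D.2.1 D.2.2.ge ha ha1)
  have hpiecen : ∀ a ∈ A, ∀ D : {D : Subgroup G // D ≤ A ∧ Nat.card ↥D = p ^ k},
      A ≤ Subgroup.normalizer ((signalizerDelta p (D : Subgroup G) ⊓ Subgroup.centralizer {a} :
        Subgroup G) : Set G) :=
    fun a ha D => (le_inf (le_normalizer_delta hA D.2.1)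
      (elemAb_le_normalizer_centralizer p A hA a ha)).trans Subgroup.inf_normalizer_le_normalizer_inf
  have hθnorm : ∀ a ∈ A, A ≤ Subgroup.normalizer ((θ a : Subgroup G) : Set G) :=
    fun a ha => Cfsg.Agent.Lib.Helper30.gen_le_normalizer_iSup (hpiecen a ha)
  have hpK : ∀ a : G, ¬ p ∣ Nat.card ↥(centralizerPPrimeCore p a) := fun a =>
    (Nat.Prime.coprime_iff_not_dvd hp.out).mp (card_centralizerCore_coprime p a).symm
  have hp1 : 1 ≤ p := hp.out.one_le
  have hE2 : p ^ 2 ≤ Nat.card A :=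
    (Nat.pow_le_pow_right hp1 (by omega)).trans hAk
  have hθTh : ∀ a ∈ A, a ≠ 1 → θ a ≤ Th p k A (Subgroup.zpowers a) := by
    intro a ha ha1
    refine iSup_le ?_
    rintro ⟨D, hDA, hDcard⟩
    have hYp : ¬ p ∣ Nat.card ↥(signalizerDelta p D ⊓ Subgroup.centralizer {a}) :=
      LC.not_dvd_card_of_le (kbal hbal hA hDA hDcard.ge ha ha1) (hpK a)
    refine (LC.gen_hyper A _ hA hE2 hYp (hpiecen a ha ⟨D, hDA, hDcard⟩)).trans (iSup_le ?_)
    rintro ⟨H, hHA, hHi⟩
    have hB''A : H ⊔ Subgroup.zpowers a ≤ A := sup_le hHA (Subgroup.zpowers_le.mpr ha)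
    have h1 : (signalizerDelta p D ⊓ Subgroup.centralizer {a}) ⊓ Subgroup.centralizer (H : Set G) ≤
        Zc p (H ⊔ Subgroup.zpowers a) := by
      intro x hx
      have hxC : x ∈ Subgroup.centralizer ((H ⊔ Subgroup.zpowers a : Subgroup G) : Set G) :=
        centralizer_inf_le_centralizer_sup H a (Subgroup.mem_inf.mpr ⟨hx.2, hx.1.2⟩)
      exact Subgroup.mem_inf.mpr ⟨delta_inf_centralizer_le hbal hA hDA hDcard.ge hB''A
        (Subgroup.mem_inf.mpr ⟨hx.1.1, hxC⟩), hxC⟩
    have hcard : p ^ k ≤ Nat.card ↥(H ⊔ Subgroup.zpowers a) := by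
      have h2 := LC.card_le_of_relIndex_le A H hHA p hHi
      have h3 : p * p ^ (k + 1) ≤ p * Nat.card H := by
        have e : p * p ^ (k + 1) = p ^ (k + 2) := by ring
        rw [e]
        exact hAk.trans h2
      have h4 : p ^ (k + 1) ≤ Nat.card H := Nat.le_of_mul_le_mul_left h3 hp.out.pos
      calc p ^ k ≤ p ^ (k + 1) := Nat.pow_le_pow_right hp1 (by omega)
        _ ≤ Nat.card H := h4
        _ ≤ Nat.card ↥(H ⊔ Subgroup.zpowers a) := Subgroup.card_le_of_le le_sup_left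
    exact h1.trans (le_iSup (fun B' : {B' : Subgroup G // Subgroup.zpowers a ≤ B' ∧ B' ≤ A ∧
      p ^ k ≤ Nat.card B'} => Zc p (B' : Subgroup G)) ⟨H ⊔ Subgroup.zpowers a, le_sup_right, hB''A, hcard⟩)
  have hThθ : ∀ a : G, Th p k A (Subgroup.zpowers a) ≤ θ a := by
    intro a
    refine iSup_le ?_
    rintro ⟨B', haB', hB'A, hB'card⟩
    obtain ⟨D, hDB', hDcard⟩ := exists_le_card_eq hA hB'A hB'card
    have h1 : Zc p B' ≤ signalizerDelta p D ⊓ Subgroup.centralizer {a} :=
      inf_le_inf (delta_anti hDB') (Subgroup.centralizer_le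
        (Set.singleton_subset_iff.mpr (haB' (Subgroup.mem_zpowers a))))
    exact h1.trans (le_iSup (fun D : {D : Subgroup G // D ≤ A ∧ Nat.card ↥D = p ^ k} =>
      signalizerDelta p (D : Subgroup G) ⊓ Subgroup.centralizer {a}) ⟨D, hDB'.trans hB'A, hDcard⟩)
  refine ⟨?_, ?_, ?_, ?_⟩
  · exact fun a _ _ => iSup_le (fun D => inf_le_right)
  · exact fun a ha ha1 => LC.not_dvd_card_of_le (hθcore a ha ha1) (hpK a)
  · exact fun a ha _ b hb x hx => conj_mem_of_le_normalizer A (θ a) (hθnorm a ha) b hb x hx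
  · intro a ha ha1 b hb hb1 x hx
    have hx1 : x ∈ Th p k A (Subgroup.zpowers a) := hθTh a ha ha1 hx.1
    have hxC : x ∈ Subgroup.centralizer
        ((Subgroup.zpowers a ⊔ Subgroup.zpowers b : Subgroup G) : Set G) :=
      centralizer_inf_le_centralizer_sup (Subgroup.zpowers a) b
        (Subgroup.mem_inf.mpr ⟨Th_le_centralizer k A _ hx1, hx.2⟩)
    have h2 := Th_fix hbal hA hAk hsolv _ (Subgroup.zpowers a) (Subgroup.zpowers_le.mpr ha)
      (Subgroup.zpowers_ne_bot.mpr ha1) rfl (Subgroup.zpowers a ⊔ Subgroup.zpowers b) le_sup_left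
      (sup_le (Subgroup.zpowers_le.mpr ha) (Subgroup.zpowers_le.mpr hb))
      (Subgroup.mem_inf.mpr ⟨hx1, hxC⟩)
    exact hThθ b (Th_anti k A le_sup_right h2)

end Cfsg.Agent.Lib.Helper29.KBT
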