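import Mathlib
import Cfsg.Agent.S3995
import Cfsg.Agent.Lib.Helper05.N3Defs

/-! K-N3-C1 (keystone 400409, helper5's S4004 pack): `s_q ≡ 1 (mod p)` gives `s_p (q-1) ≤ s_{pq}`. -/

set_option autoImplicit false

namespace Cfsg.Agent.Lib.Helper29.N3

open Cfsg.Agent.S3995 (s)

/-- A `p`-subgroup centralises some element of order `q` when the number of such elements is `≡ 1 (mod p)`. -/
theorem exists_fixed_of_card_mod {G : Type*} [Group G] [Finite G] (p q : ℕ) [Fact p.Prime]
    (h1 : Nat.card {g : G // orderOf g = q} % p = 1) (P : Subgroup G) (hP : IsPGroup p P) :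
    ∃ z : G, orderOf z = q ∧ ∀ g ∈ P, g * z = z * g := by
  let _ : MulAction (↥P) {g : G // orderOf g = q} :=
    { smul := fun g x => ⟨(g : G) * x.1 * (g : G)⁻¹, by
        have h : SemiconjBy (g : G) x.1 ((g : G) * x.1 * (g : G)⁻¹) := by
          unfold SemiconjBy; group
        rw [← h.orderOf_eq]; exact x.2⟩
      one_smul := fun x => by
        apply Subtype.ext
        show ((1 : P) : G) * x.1 * ((1 : P) : G)⁻¹ = x.1
        simp
      mul_smul := fun g h x => by
        apply Subtype.ext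
        show ((g * h : P) : G) * x.1 * ((g * h : P) : G)⁻¹ = (g : G) * ((h : G) * x.1 * (h : G)⁻¹) * (g : G)⁻¹
        simp [mul_assoc] }
  have hmod := hP.card_modEq_card_fixedPoints {g : G // orderOf g = q}
  have hne : Nat.card (MulAction.fixedPoints (↥P) {g : G // orderOf g = q}) ≠ 0 := by
    intro h0
    have : Nat.card {g : G // orderOf g = q} % p = 0 := by
      have := hmod
      unfold Nat.ModEq at this
      rw [this, h0]; simp
    omega
  obtain ⟨⟨z, hz⟩⟩ : Nonempty (MulAction.fixedPoints (↥P) {g : G // orderOf g = q}) := by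
    by_contra hcon
    rw [not_nonempty_iff] at hcon
    exact hne Nat.card_of_isEmpty
  refine ⟨z.1, z.2, fun g hg => ?_⟩
  have := hz ⟨g, hg⟩
  have h2 : g * z.1 * g⁻¹ = z.1 := congrArg Subtype.val this
  calc g * z.1 = g * z.1 * g⁻¹ * g := by group
    _ = z.1 * g := by rw [h2]

theorem exists_commute_of_card_mod {G : Type*} [Group G] [Finite G] (p q : ℕ) [Fact p.Prime]
    (h1 : Nat.card {g : G // orderOf g = q} % p = 1) (y : G) (hy : orderOf y = p) :
    ∃ z : G, orderOf z = q ∧ Commute y z := by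
  have hpg : IsPGroup p (Subgroup.zpowers y) := by
    apply IsPGroup.of_card (n := 1)
    rw [Nat.card_zpowers, hy, pow_one]
  obtain ⟨z, hz, hcomm⟩ := exists_fixed_of_card_mod p q h1 (Subgroup.zpowers y) hpg
  exact ⟨z, hz, hcomm y (Subgroup.mem_zpowers y)⟩

theorem pq_count_ge {G : Type*} [Group G] [Finite G] (p q : ℕ) (hp : p.Prime) (hq : q.Prime) (hpq : p ≠ q)
    (h1 : s G q % p = 1) : s G p * (q - 1) ≤ s G (p * q) := by
  have : Fact p.Prime := ⟨hp⟩
  have hcop : Nat.Coprime p q := (Nat.coprime_primes hp hq).2 hpq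
  have key : ∀ y : {g : G // orderOf g = p}, ∃ z : G, orderOf z = q ∧ Commute y.1 z :=
    fun y => exists_commute_of_card_mod p q h1 y.1 y.2
  choose Z hZ1 hZ2 using key
  have hw : ∀ (y : {g : G // orderOf g = p}) (i : Fin (q - 1)), orderOf ((Z y) ^ (i.1 + 1)) = q := by
    intro y i
    rw [Nat.Coprime.orderOf_pow, hZ1]
    rw [hZ1]
    exact (Nat.Prime.coprime_iff_not_dvd hq).2
      (Nat.not_dvd_of_pos_of_lt (Nat.succ_pos _) (by have := i.2; omega))
  let f : {g : G // orderOf g = p} × Fin (q - 1) → {g : G // orderOf g = p * q} := fun yi =>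
    ⟨yi.1.1 * (Z yi.1) ^ (yi.2.1 + 1), by
      have hc : Commute yi.1.1 ((Z yi.1) ^ (yi.2.1 + 1)) := (hZ2 yi.1).pow_right _
      rw [hc.orderOf_mul_eq_mul_orderOf_of_coprime (by rw [yi.1.2, hw]; exact hcop), yi.1.2, hw]⟩
  obtain ⟨a, -, ha⟩ := Nat.exists_mul_mod_eq_one_of_coprime (k := p) (n := q) hcop.symm hp.one_lt
  have hrec : ∀ (y : {g : G // orderOf g = p}) (i : Fin (q - 1)),
      (y.1 * (Z y) ^ (i.1 + 1)) ^ (q * a) = y.1 := by
    intro y i
    have hc : Commute y.1 ((Z y) ^ (i.1 + 1)) := (hZ2 y).pow_right _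
    rw [hc.mul_pow]
    have e1 : ((Z y) ^ (i.1 + 1)) ^ (q * a) = 1 := by
      have h3 : ((Z y) ^ (i.1 + 1)) ^ q = 1 := by
        have := pow_orderOf_eq_one ((Z y) ^ (i.1 + 1))
        rwa [hw y i] at this
      rw [pow_mul, h3, one_pow]
    have e2 : y.1 ^ (q * a) = y.1 := by
      rw [← pow_mod_orderOf, y.2, ha, pow_one]
    rw [e1, e2, mul_one]
  have hf : Function.Injective f := by
    rintro ⟨y, i⟩ ⟨y', i'⟩ h
    have hx : y.1 * (Z y) ^ (i.1 + 1) = y'.1 * (Z y') ^ (i'.1 + 1) := congrArg Subtype.val h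
    have hy : y = y' := by
      apply Subtype.ext
      rw [← hrec y i, ← hrec y' i', hx]
    subst hy
    have hpow : (Z y) ^ (i.1 + 1) = (Z y) ^ (i'.1 + 1) := mul_left_cancel hx
    have hi : i.1 + 1 = i'.1 + 1 := by
      apply pow_injOn_Iio_orderOf (x := Z y) _ _ hpow
      · rw [Set.mem_Iio, hZ1]; have := i.2; omega
      · rw [Set.mem_Iio, hZ1]; have := i'.2; omega
    have : i = i' := Fin.ext (by omega)
    rw [this]
  have hcard := Nat.card_le_card_of_injective f hf
  rw [Nat.card_prod, Nat.card_fin] at hcard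
  exact hcard

end Cfsg.Agent.Lib.Helper29.N3
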