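import Mathlib

/-!
# K-NSE3 leaf L05b (keystone 399606): the abstract double pairing sum
-/

set_option autoImplicit false

namespace Cfsg.Agent.Lib.Helper29.NSE3

/-- L05b abstract double pairing sum. -/
theorem sum_pair (N p q : ℕ) (hp : p.Prime) (hq : q.Prime) (hpq : p ≠ q) (hpN : p ∣ N)
    (hqN : q ∣ N) (hN : N ≠ 0) (f : ℕ → ℕ) (c : ℕ)
    (hsqp : ∀ k, p * p ∣ k → f k = 0) (hsqq : ∀ k, q * q ∣ k → f k = 0)
    (hpair : ∀ k, k ∣ N → ¬ p ∣ k → ¬ q ∣ k →
      f (p * k) + f (p * q * k) = if f k = 0 then 0 else c) :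
    ∑ k ∈ N.divisors.filter (fun k => p ∣ k), f k =
      c * ((N.divisors.filter (fun k => ¬ p ∣ k ∧ ¬ q ∣ k ∧ f k ≠ 0)).card) := by
  classical
  set D := N.divisors.filter (fun k => ¬ p ∣ k ∧ ¬ q ∣ k) with hD
  set A := N.divisors.filter (fun k => p ∣ k) with hA
  have hcop : Nat.Coprime p q := (Nat.coprime_primes hp hq).mpr hpq
  have hpqN : p * q ∣ N := Nat.Coprime.mul_dvd_of_dvd_of_dvd hcop hpN hqN
  have hDmem : ∀ k, k ∈ D ↔ k ∣ N ∧ ¬ p ∣ k ∧ ¬ q ∣ k := by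
    intro k
    simp only [hD, Finset.mem_filter, Nat.mem_divisors]
    constructor
    · rintro ⟨⟨h1, _⟩, h2⟩; exact ⟨h1, h2⟩
    · rintro ⟨h1, h2⟩; exact ⟨⟨h1, hN⟩, h2⟩
  have hAmem : ∀ k, k ∈ A ↔ k ∣ N ∧ p ∣ k := by
    intro k
    simp only [hA, Finset.mem_filter, Nat.mem_divisors]
    constructor
    · rintro ⟨⟨h1, _⟩, h2⟩; exact ⟨h1, h2⟩
    · rintro ⟨h1, h2⟩; exact ⟨⟨h1, hN⟩, h2⟩
  set A1 := D.image (fun k => p * k) with hA1
  set A2 := D.image (fun k => p * q * k) with hA2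
  have hppos : 0 < p := hp.pos
  have hqpos : 0 < q := hq.pos
  -- membership facts
  have hpk : ∀ k ∈ D, p * k ∣ N := by
    intro k hk
    obtain ⟨h1, h2, h3⟩ := (hDmem k).mp hk
    exact Nat.Coprime.mul_dvd_of_dvd_of_dvd ((Nat.Prime.coprime_iff_not_dvd hp).mpr h2) hpN h1
  have hpqk : ∀ k ∈ D, p * q * k ∣ N := by
    intro k hk
    obtain ⟨h1, h2, h3⟩ := (hDmem k).mp hk
    have c1 : Nat.Coprime p k := (Nat.Prime.coprime_iff_not_dvd hp).mpr h2
    have c2 : Nat.Coprime q k := (Nat.Prime.coprime_iff_not_dvd hq).mpr h3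
    exact Nat.Coprime.mul_dvd_of_dvd_of_dvd (Nat.Coprime.mul_left c1 c2) hpqN h1
  have hsub : A1 ∪ A2 ⊆ A := by
    intro x hx
    rw [Finset.mem_union] at hx
    rw [hAmem]
    rcases hx with hx | hx
    · obtain ⟨k, hk, rfl⟩ := Finset.mem_image.mp hx
      exact ⟨hpk k hk, dvd_mul_right p k⟩
    · obtain ⟨k, hk, rfl⟩ := Finset.mem_image.mp hx
      exact ⟨hpqk k hk, by rw [mul_assoc]; exact dvd_mul_right p _⟩
  have hdisj : Disjoint A1 A2 := by
    rw [Finset.disjoint_left]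
    intro x hx1 hx2
    obtain ⟨k, hk, rfl⟩ := Finset.mem_image.mp hx1
    obtain ⟨k', hk', hkk⟩ := Finset.mem_image.mp hx2
    have : k = q * k' := by
      have h1 : p * (q * k') = p * k := by rw [← mul_assoc]; exact hkk
      exact (Nat.eq_of_mul_eq_mul_left hppos h1).symm
    exact ((hDmem k).mp hk).2.2 (this ▸ dvd_mul_right q k')
  have hzero : ∀ x ∈ A, x ∉ A1 ∪ A2 → f x = 0 := by
    intro x hx hnot
    obtain ⟨hxN, hpx⟩ := (hAmem x).mp hx
    obtain ⟨k1, rfl⟩ := hpx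
    by_cases hpk1 : p ∣ k1
    · exact hsqp _ (Nat.mul_dvd_mul_left p hpk1)
    have hk1N : k1 ∣ N := (dvd_mul_left k1 p).trans hxN
    by_cases hqk1 : q ∣ k1
    · obtain ⟨k2, rfl⟩ := hqk1
      by_cases hqk2 : q ∣ k2
      · apply hsqq
        obtain ⟨k3, rfl⟩ := hqk2
        exact ⟨p * k3, by ring⟩
      · exfalso
        apply hnot
        rw [Finset.mem_union]
        right
        rw [hA2, Finset.mem_image]
        refine ⟨k2, (hDmem k2).mpr ⟨(dvd_mul_left k2 q).trans hk1N, ?_, hqk2⟩, by ring⟩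
        intro h
        exact hpk1 (h.trans (dvd_mul_left k2 q))
    · exfalso
      apply hnot
      rw [Finset.mem_union]
      left
      rw [hA1, Finset.mem_image]
      exact ⟨k1, (hDmem k1).mpr ⟨hk1N, hpk1, hqk1⟩, rfl⟩
  have hinj1 : ∀ x ∈ D, ∀ y ∈ D, p * x = p * y → x = y := fun x _ y _ h =>
    Nat.eq_of_mul_eq_mul_left hppos h
  have hinj2 : ∀ x ∈ D, ∀ y ∈ D, p * q * x = p * q * y → x = y := fun x _ y _ h =>
    Nat.eq_of_mul_eq_mul_left (Nat.mul_pos hppos hqpos) h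
  calc ∑ k ∈ A, f k = ∑ k ∈ A1 ∪ A2, f k := (Finset.sum_subset hsub hzero).symm
    _ = ∑ k ∈ A1, f k + ∑ k ∈ A2, f k := Finset.sum_union hdisj
    _ = ∑ k ∈ D, f (p * k) + ∑ k ∈ D, f (p * q * k) := by
        rw [hA1, hA2, Finset.sum_image hinj1, Finset.sum_image hinj2]
    _ = ∑ k ∈ D, (f (p * k) + f (p * q * k)) := Finset.sum_add_distrib.symm
    _ = ∑ k ∈ D, (if f k = 0 then 0 else c) := by
        apply Finset.sum_congr rfl
        intro k hk
        obtain ⟨h1, h2, h3⟩ := (hDmem k).mp hk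
        exact hpair k h1 h2 h3
    _ = c * ((N.divisors.filter (fun k => ¬ p ∣ k ∧ ¬ q ∣ k ∧ f k ≠ 0)).card) := by
        rw [Finset.sum_ite, Finset.sum_const_zero, zero_add, Finset.sum_const, smul_eq_mul,
          mul_comm]
        congr 2
        rw [hD, Finset.filter_filter]
        apply Finset.filter_congr
        intro k _
        tauto

end Cfsg.Agent.Lib.Helper29.NSE3
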