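import Cfsg.Agent.Lib.Helper29.OhPS1
import Cfsg.Agent.Lib.Helper28.OhPA
import Cfsg.Agent.Lib.Helper04.OhPC1
import Cfsg.Agent.Lib.Helper21.OhPC2

/-!
# Keystone 597405 K-OhP-S1 (`type_of_le_V1_q`), exact spec signature: the core `type_of_le_V1_q_of` wired to the
leaves A (helper28), C1 (helper4), C2 (helper21).
-/

set_option autoImplicit false

namespace Cfsg.Agent.Lib.Helper29.OhP

open Module Cfsg.Agent.Lib.Helper98.Elus Cfsg.Agent.Lib.Helper98.Sy Cfsg.Agent.Lib.Helper38.OhP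

universe u
variable {F : Type u} [Field F] {V : Type u} [AddCommGroup V] [Module F V]

/-- LEAF S1 (597405). -/
theorem type_of_le_V1_q [Fintype F] [FiniteDimensional F V] (Q : QuadraticForm F V)
    (hV : NonDeg (pB Q) ⊤) (p f : ℕ) [Fact p.Prime] (hF : Fintype.card F = p ^ f)
    (r : ℕ) [Fact r.Prime] (hpr : p ≠ r) (hr2 : r ≠ 2) (hrF : (r : F) ≠ 0) (y : V →ₗ[F] V)
    (hy : y ^ r = 1) (hiso : QIso Q y)
    (U : Submodule F V) (hUV1 : U ≤ V1 r y) (hU : Inv y U) (hUnd : NonDeg (pB Q) U) :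
    cOf (orderOf ((Fintype.card F : ℕ) : ZMod r)) ∣ finrank F U ∧
      (PlusQ Q U ↔ tPlus (orderOf ((Fintype.card F : ℕ) : ZMod r))
        (finrank F U / cOf (orderOf ((Fintype.card F : ℕ) : ZMod r)))) :=
  type_of_le_V1_q_of Q p f hF r hpr y hy hiso
    (fun W1 W2 h1 h2 ho e1 e2 => Cfsg.Agent.Lib.Helper28.OhP.plusQ_sup_iff Q W1 W2 h1 h2 ho e1 e2)
    (fun U h1 h2 h3 h4 =>
      Cfsg.Agent.Lib.Helper04.OhP.exists_min_nonDeg_q Q hV p f hF r hpr hr2 hrF y hy hiso U h1 h2 h3 h4)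
    (fun W h1 h2 h3 h4 =>
      Cfsg.Agent.Lib.Helper21.OhP.plusQ_iff_of_min Q hV p f hF r hpr hr2 hrF y hy hiso W h1 h2 h3 h4)
    U hUV1 hU hUnd

end Cfsg.Agent.Lib.Helper29.OhP
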