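import Cfsg.Agent.Lib.Helper76.TwistPerfD4
import Cfsg.Agent.Lib.Helper24.FactsAll
import Cfsg.Agent.Lib.Helper24.UFTab
import Cfsg.Agent.Lib.Helper24.TwOrd
import Cfsg.Agent.Lib.Helper44.OmegaRank

/-!
# K-R3-3D4 (keystone 178813, architect helper38): `³D₄(q)` in characteristic 2 has an elementary abelian subgroup
of order `q³ ≥ 8`: the twisted root subgroup `{x_{p₁}(t) x_{p₃}(t^q) x_{p₄}(t^{q²})}`.
-/

set_option autoImplicit false

namespace Cfsg.Agent.Lib.Helper29.R3

open Cfsg Cfsg.Lie Cfsg.Agent.Lib.Helper24 Cfsg.Agent.Lib.Helper76.Twist Cfsg.Agent.Lib.Helper76.TwistCount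

theorem gradeD4 : gradeE chevD4 [1, 1, 1, 1] (chevD4.rank + 18) = 1 ∧
    gradeE chevD4 [1, 1, 1, 1] (chevD4.rank + 13) = 1 ∧
    gradeE chevD4 [1, 1, 1, 1] (chevD4.rank + 12) = 1 := by decide +kernel

theorem negD4 : (18 < chevD4.nroots ∧ 13 < chevD4.nroots ∧ 12 < chevD4.nroots) ∧
    chevD4.neg 18 ≠ chevD4.neg 13 ∧ chevD4.neg 18 ≠ chevD4.neg 12 := by decide +kernel

/-- the twisted root element determines its parameter -/
theorem tri_eq_one {K : Type*} [Field K] (hF : Facts chevD4) (f : K →+* K) (s : K)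
    (h : tri hF f 18 13 12 s = 1) : s = 0 := by
  have hNe : negNeOK chevD4 = true := ufacts_D4.negNe
  have hU : corootUnitOK chevD4 = true := ufacts_D4.unit
  obtain ⟨g18, g13, g12⟩ := gradeD4
  obtain ⟨⟨l18, l13, l12⟩, n13, n12⟩ := negD4
  apply hF.eq_zero_of_xGL_mem_closure_tie hNe hU [1, 1, 1, 1] (· ∈ [13, 12]) 18 l18
    (by rw [g18]; norm_num)
  · intro r hr
    simp only [List.mem_cons, List.not_mem_nil, or_false] at hr
    rcases hr with rfl | rfl
    · exact ⟨l13, n13, by rw [g18, g13]⟩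
    · exact ⟨l12, n12, by rw [g18, g12]⟩
  · unfold tri at h
    have h1 : hF.xGL 18 s = (hF.xGL 13 (f s) * hF.xGL 12 (f (f s)))⁻¹ := by
      rw [eq_inv_iff_mul_eq_one, ← mul_assoc]
      exact h
    rw [h1]
    exact Subgroup.inv_mem _ (Subgroup.mul_mem _ (hF.xGL_mem_rootClosure _ 13 (by simp) _)
      (hF.xGL_mem_rootClosure _ 12 (by simp) _))

/-- 178813 K-R3-3D4. -/
theorem prank_twistedD4 (K : Type) [Field K] [Fintype K] [CharP K 2] (q : ℕ) (hq : IsPrimePow q)
    (hK : Fintype.card K = q ^ 3) :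
    Cfsg.PRankAtLeast 2 3 (Cfsg.Lie.twistedD4 K q) := by
  have hF : Facts chevD4 := facts_all chevD4 (by simp)
  obtain ⟨f, hf⟩ := exists_frob hq hK
  let ψ : Multiplicative K →* ↥(twistedD4 K q) :=
    { toFun := fun t => ⟨tri hF f 18 13 12 (Multiplicative.toAdd t), tri_pos_mem_D4 hF f q hf _⟩
      map_one' := Subtype.ext (tri_zero hF f 18 13 12)
      map_mul' := fun a b => Subtype.ext (tri_pos_mul_D4 hF f _ _).symm }
  refine Cfsg.Agent.Lib.Helper44.prankAtLeast_of_injective 2 3 ψ ?_ ?_ ?_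
  · rw [injective_iff_map_eq_one]
    intro a ha
    have h1 : tri hF f 18 13 12 (Multiplicative.toAdd a) = 1 := congrArg Subtype.val ha
    have h2 := tri_eq_one hF f _ h1
    exact Multiplicative.toAdd.injective h2
  · intro a
    apply Multiplicative.toAdd.injective
    rw [toAdd_pow, toAdd_one, two_nsmul]
    exact CharTwo.add_self_eq_zero _
  · have h2 : 2 ≤ q := two_le_of_card hK
    have h3 : Nat.card (Multiplicative K) = q ^ 3 := by
      rw [Nat.card_eq_fintype_card, Fintype.card_multiplicative, hK]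
    rw [h3]
    exact Nat.pow_le_pow_left h2 3

end Cfsg.Agent.Lib.Helper29.R3
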