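import Mathlib
import Cfsg.Agent.Lib.Helper48.RSpDefs2

set_option autoImplicit false
set_option linter.unusedVariables false
set_option linter.unusedSectionVars false
set_option linter.unusedSimpArgs false

namespace Cfsg.Agent.Lib.Helper29.RSp

open Matrix Cfsg.Agent.Lib.Helper48.RSp Cfsg.Agent.Lib.Helper18

variable {m : ℕ} {F : Type*} [Field F]

/-- conjugation of a rank one matrix -/
theorem conj_vecMulVec (A : SM m F) (v w : Fin (m + 2) → F) :
    A * vecMulVec v w * Aᵀ = vecMulVec (A *ᵥ v) (A *ᵥ w) := by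
  rw [mul_vecMulVec, vecMulVec_mul, vecMul_transpose]

theorem mulVec_single_apply' (A : SM m F) (a i : Fin (m + 2)) (μ : F) :
    (A *ᵥ Pi.single a μ) i = A i a * μ := by
  simp [Matrix.mulVec, dotProduct, Pi.single_apply]

theorem Uup_apply' (i j : Fin (m + 2)) :
    Uup m F i j = (if i = j then 1 else 0) + (if i.val + 1 = j.val then 1 else 0) := by
  unfold Uup
  rw [Matrix.add_apply, Matrix.one_apply]
  rfl

theorem Lbi_apply' (δ : Fin (m + 2) → F) (i j : Fin (m + 2)) :
    Lbi m δ i j = if i = j then 1 else if j.val + 1 = i.val then δ j else 0 := rfl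

theorem L_single (δ : Fin (m + 2) → F) (a a' : Fin (m + 2)) (ha : a'.val = a.val + 1) (μ : F) :
    Lbi m δ *ᵥ Pi.single a μ = Pi.single a μ + Pi.single a' (δ a * μ) := by
  funext i
  rw [mulVec_single_apply', Pi.add_apply, Pi.single_apply, Pi.single_apply, Lbi_apply']
  by_cases h1 : i = a
  · have h2 : ¬ i = a' := by
      intro h; rw [h1] at h; rw [← h] at ha; omega
    rw [if_pos h1, if_pos h1, if_neg h2, one_mul, add_zero]
  · by_cases h2 : i = a'
    · have h3 : a.val + 1 = i.val := by rw [h2, ha]
      rw [if_neg h1, if_pos h3, if_neg h1, if_pos h2, zero_add]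
    · have h3 : ¬ a.val + 1 = i.val := by
        intro h; apply h2; apply Fin.ext; rw [ha, h]
      rw [if_neg h1, if_neg h3, if_neg h1, if_neg h2, zero_mul, add_zero]

theorem U_single_succ (b a : Fin (m + 2)) (ha : a.val = b.val + 1) (μ : F) :
    Uup m F *ᵥ Pi.single a μ = Pi.single a μ + Pi.single b μ := by
  funext i
  rw [mulVec_single_apply', Pi.add_apply, Pi.single_apply, Pi.single_apply, Uup_apply']
  by_cases h1 : i = a
  · have h2 : ¬ i = b := by
      intro h; rw [h1] at h; rw [h] at ha; omega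
    have h3 : ¬ i.val + 1 = a.val := by rw [h1]; omega
    rw [if_pos h1, if_neg h3, if_pos h1, if_neg h2, add_zero, one_mul, add_zero]
  · by_cases h2 : i = b
    · have h3 : i.val + 1 = a.val := by rw [h2, ha]
      rw [if_neg h1, if_pos h3, if_neg h1, if_pos h2, zero_add, one_mul, zero_add]
    · have h3 : ¬ i.val + 1 = a.val := by
        intro h; apply h2; apply Fin.ext; omega
      rw [if_neg h1, if_neg h3, if_neg h1, if_neg h2, add_zero, zero_mul]

theorem U_single_zero (a : Fin (m + 2)) (ha : a.val = 0) (μ : F) :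
    Uup m F *ᵥ Pi.single a μ = Pi.single a μ := by
  funext i
  rw [mulVec_single_apply', Pi.single_apply, Uup_apply']
  have h3 : ¬ i.val + 1 = a.val := by omega
  rw [if_neg h3, add_zero]
  by_cases h1 : i = a
  · rw [if_pos h1, if_pos h1, one_mul]
  · rw [if_neg h1, if_neg h1, zero_mul]

/-- symmetric rank two matrices supported on the indices `≤ k` -/
theorem sym_pair_mem (k : ℕ) (v w : Fin (m + 2) → F)
    (hv : ∀ i : Fin (m + 2), k < i.val → v i = 0) (hw : ∀ i : Fin (m + 2), k < i.val → w i = 0) :
    vecMulVec v w + vecMulVec w v ∈ SymLE m (F := F) k := by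
  refine ⟨?_, ?_⟩
  · rw [transpose_add, transpose_vecMulVec, transpose_vecMulVec]
    exact add_comm _ _
  · intro i j hij
    rw [Matrix.add_apply, vecMulVec_apply, vecMulVec_apply]
    rcases hij with h | h
    · rw [hv i h, hw i h]; ring
    · rw [hv j h, hw j h]; ring

theorem single_supp (k : ℕ) (a : Fin (m + 2)) (ha : a.val ≤ k) (μ : F) :
    ∀ i : Fin (m + 2), k < i.val → (Pi.single a μ : Fin (m + 2) → F) i = 0 := by
  intro i hi
  rw [Pi.single_apply, if_neg]
  intro h; rw [h] at hi; omega


theorem split_L (w' ek eκ : Fin (m + 2) → F) (c : F) :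
    vecMulVec w' (ek + c • eκ) + vecMulVec (ek + c • eκ) w' =
      (vecMulVec w' ek + vecMulVec ek w') + (vecMulVec (c • w') eκ + vecMulVec eκ (c • w')) := by
  ext a b
  simp only [Matrix.add_apply, vecMulVec_apply, Pi.add_apply, Pi.smul_apply, smul_eq_mul]
  ring

theorem split_U (v1 ek eκ : Fin (m + 2) → F) :
    vecMulVec v1 (eκ + ek) + vecMulVec (eκ + ek) v1 =
      (vecMulVec v1 ek + vecMulVec ek v1) + (vecMulVec v1 eκ + vecMulVec eκ v1) := by
  ext a b
  simp only [Matrix.add_apply, vecMulVec_apply, Pi.add_apply]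
  ring

/-- K-RSp-P1 -/
theorem sym_step {m : ℕ} {F : Type*} [Field F] (X : AddSubgroup (SM m F)) (δ : Fin (m + 2) → F)
    (hδ : ∀ j, δ j ≠ 0)
    (hU : ∀ S ∈ X, Uup m F * S * (Uup m F)ᵀ ∈ X)
    (hL : ∀ S ∈ X, Sᵀ = S → (∀ j, S (Fin.last (m + 1)) j = 0) → Lbi m δ * S * (Lbi m δ)ᵀ ∈ X)
    (k : ℕ) (hk1 : 1 ≤ k) (hk : k + 1 < m + 2) (h : SymLE m k ⊆ (X : Set (SM m F))) :
    SymLE m (k + 1) ⊆ (X : Set (SM m F)) := by
  classical
  -- the two indices k and k+1
  set κ : Fin (m + 2) := ⟨k + 1, hk⟩ with hκ
  set kk : Fin (m + 2) := ⟨k, by omega⟩ with hkk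
  have hκv : κ.val = k + 1 := rfl
  have hkkv : kk.val = k := rfl
  -- the additive map v ↦ v e_κᵀ + e_κ vᵀ
  let Mh : (Fin (m + 2) → F) →+ SM m F :=
    { toFun := fun v => vecMulVec v (Pi.single κ 1) + vecMulVec (Pi.single κ 1) v
      map_zero' := by
        ext i j
        simp [vecMulVec_apply]
      map_add' := by
        intro v w
        rw [add_vecMulVec, vecMulVec_add]
        abel }
  have hMh : ∀ v, Mh v = vecMulVec v (Pi.single κ 1) + vecMulVec (Pi.single κ 1) v := fun v => rfl
  -- elements of SymLE k have last row zero and are symmetric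
  have hlast : ∀ S ∈ SymLE m (F := F) k, ∀ j, S (Fin.last (m + 1)) j = 0 := by
    intro S hS j
    apply hS.2
    left
    show k < (Fin.last (m + 1)).val
    rw [Fin.val_last]; omega
  have hsuppkk : ∀ i : Fin (m + 2), k < i.val → (Pi.single kk (1 : F) : Fin (m + 2) → F) i = 0 :=
    single_supp k kk (le_of_eq hkkv) 1
  have hLkk : ∀ μ : F, Lbi m δ *ᵥ Pi.single kk μ = Pi.single kk μ + Pi.single κ (δ kk * μ) :=
    fun μ => L_single δ kk κ (by rw [hκv, hkkv]) μ
  have hUκ : Uup m F *ᵥ (Pi.single κ (1 : F)) = Pi.single κ 1 + Pi.single kk 1 :=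
    U_single_succ kk κ (by rw [hκv, hkkv]) 1
  have hsingleκ : ∀ c : F, (Pi.single κ c : Fin (m + 2) → F) = c • Pi.single κ (1 : F) := by
    intro c
    funext i
    rw [Pi.smul_apply, Pi.single_apply, Pi.single_apply, smul_eq_mul]
    split_ifs <;> simp
  -- Claim A
  have claimA : ∀ (i i' : Fin (m + 2)), i.val < k → i'.val = i.val + 1 → ∀ μ : F,
      Mh (Pi.single i μ + Pi.single i' (δ i * μ)) ∈ X := by
    intro i i' hik hi' μ
    -- apply hL to T = w e_kᵀ + e_k wᵀ with w = single i (μ / δ k)
    set ν : F := (δ kk)⁻¹ * μ with hν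
    set w : Fin (m + 2) → F := Pi.single i ν with hw
    have hwsupp : ∀ j : Fin (m + 2), k < j.val → w j = 0 := single_supp k i (by omega) ν
    have hT : vecMulVec w (Pi.single kk 1) + vecMulVec (Pi.single kk 1) w ∈ SymLE m (F := F) k :=
      sym_pair_mem k _ _ hwsupp hsuppkk
    have hTX := h hT
    have hLT := hL _ hTX hT.1 (hlast _ hT)
    rw [Matrix.mul_add, Matrix.add_mul, conj_vecMulVec, conj_vecMulVec, hLkk 1,
      L_single δ i i' hi' ν] at hLT
    set w' : Fin (m + 2) → F := Pi.single i ν + Pi.single i' (δ i * ν) with hw'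
    have hw'supp : ∀ j : Fin (m + 2), k < j.val → w' j = 0 := by
      intro j hj
      rw [hw', Pi.add_apply, single_supp k i (by omega) ν j hj,
        single_supp k i' (by omega) (δ i * ν) j hj, add_zero]
    have hbr : vecMulVec w' (Pi.single kk 1) + vecMulVec (Pi.single kk 1) w' ∈ X :=
      h (sym_pair_mem k _ _ hw'supp hsuppkk)
    have hsplit : vecMulVec w' (Pi.single kk 1 + Pi.single κ (δ kk * 1)) +
        vecMulVec (Pi.single kk 1 + Pi.single κ (δ kk * 1)) w' =
        (vecMulVec w' (Pi.single kk 1) + vecMulVec (Pi.single kk 1) w') + Mh (δ kk • w') := by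
      rw [hMh, mul_one, hsingleκ (δ kk)]
      exact split_L w' _ _ _
    rw [hsplit] at hLT
    have hres : Mh (δ kk • w') ∈ X := by
      have := X.sub_mem hLT hbr
      rwa [add_sub_cancel_left] at this
    have hfin : δ kk • w' = Pi.single i μ + Pi.single i' (δ i * μ) := by
      rw [hw', smul_add]
      congr 1
      · funext j
        rw [Pi.smul_apply, Pi.single_apply, Pi.single_apply, smul_eq_mul, hν]
        split_ifs
        · rw [← mul_assoc, mul_inv_cancel₀ (hδ kk), one_mul]
        · rw [mul_zero]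
      · funext j
        rw [Pi.smul_apply, Pi.single_apply, Pi.single_apply, smul_eq_mul, hν]
        split_ifs
        · rw [mul_left_comm, ← mul_assoc (δ kk), mul_inv_cancel₀ (hδ kk), one_mul]
        · rw [mul_zero]
    rw [hfin] at hres
    exact hres
  -- index 0 and index 1
  set i0 : Fin (m + 2) := ⟨0, by omega⟩ with hi0
  set i1 : Fin (m + 2) := ⟨1, by omega⟩ with hi1
  -- Claim B
  have claimB : ∀ μ : F, Mh (Pi.single i0 μ) ∈ X := by
    intro μ'
    set μ : F := (δ i0)⁻¹ * μ' with hμ
    have hA := claimA i0 i1 (by show 0 < k; omega) rfl μ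
    set v0 : Fin (m + 2) → F := Pi.single i0 μ + Pi.single i1 (δ i0 * μ) with hv0
    have hUA := hU _ hA
    rw [hMh, Matrix.mul_add, Matrix.add_mul, conj_vecMulVec, conj_vecMulVec, hUκ] at hUA
    have hUv0 : Uup m F *ᵥ v0 = v0 + Pi.single i0 (δ i0 * μ) := by
      rw [hv0, Matrix.mulVec_add, U_single_zero i0 rfl, U_single_succ i0 i1 rfl]
      abel
    rw [hUv0] at hUA
    set v1 : Fin (m + 2) → F := v0 + Pi.single i0 (δ i0 * μ) with hv1
    have hv1supp : ∀ j : Fin (m + 2), k < j.val → v1 j = 0 := by
      intro j hj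
      rw [hv1, hv0, Pi.add_apply, Pi.add_apply, single_supp k i0 (Nat.zero_le k) μ j hj,
        single_supp k i1 (by show 1 ≤ k; omega) (δ i0 * μ) j hj,
        single_supp k i0 (Nat.zero_le k) (δ i0 * μ) j hj]
      ring
    have hbr : vecMulVec v1 (Pi.single kk 1) + vecMulVec (Pi.single kk 1) v1 ∈ X :=
      h (sym_pair_mem k _ _ hv1supp hsuppkk)
    have hsplit : vecMulVec v1 (Pi.single κ 1 + Pi.single kk 1) +
        vecMulVec (Pi.single κ 1 + Pi.single kk 1) v1 =
        (vecMulVec v1 (Pi.single kk 1) + vecMulVec (Pi.single kk 1) v1) + Mh v1 := by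
      rw [hMh]
      exact split_U v1 _ _
    rw [hsplit] at hUA
    have hres : Mh v1 ∈ X := by
      have := X.sub_mem hUA hbr
      rwa [add_sub_cancel_left] at this
    have hdiff : Mh (Pi.single i0 (δ i0 * μ)) ∈ X := by
      have := X.sub_mem hres hA
      rw [← map_sub, hv1, add_sub_cancel_left] at this
      exact this
    have : δ i0 * μ = μ' := by
      rw [hμ, ← mul_assoc, mul_inv_cancel₀ (hδ i0), one_mul]
    rw [this] at hdiff
    exact hdiff
  -- Claim C
  have claimC : ∀ (j : ℕ) (a : Fin (m + 2)), a.val = j → j ≤ k → ∀ μ : F, Mh (Pi.single a μ) ∈ X := by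
    intro j
    induction j with
    | zero =>
      intro a ha _ μ
      have : a = i0 := Fin.ext ha
      rw [this]; exact claimB μ
    | succ j ih =>
      intro a ha hjk μ'
      set b : Fin (m + 2) := ⟨j, by omega⟩ with hb
      set μ : F := (δ b)⁻¹ * μ' with hμ
      have hA := claimA b a (by show j < k; omega) (by rw [ha]) μ
      have hB := ih b rfl (by omega) μ
      have := X.sub_mem hA hB
      rw [← map_sub, add_sub_cancel_left] at this
      have e : δ b * μ = μ' := by
        rw [hμ, ← mul_assoc, mul_inv_cancel₀ (hδ b), one_mul]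
      rw [e] at this
      exact this
  -- Claim D
  have claimD : ∀ v : Fin (m + 2) → F, (∀ i : Fin (m + 2), k < i.val → v i = 0) → Mh v ∈ X := by
    intro v hv
    rw [← Finset.univ_sum_single v, map_sum]
    apply X.sum_mem
    intro a _
    by_cases ha : a.val ≤ k
    · exact claimC a.val a rfl ha (v a)
    · rw [hv a (by omega), Pi.single_zero, map_zero]
      exact X.zero_mem
  -- Claim E
  have claimE : ∀ μ : F, vecMulVec (Pi.single κ μ) (Pi.single κ (1 : F)) ∈ X := by
    intro μ'
    set μ : F := ((δ kk) * (δ kk))⁻¹ * μ' with hμ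
    have hT : vecMulVec (Pi.single kk μ) (Pi.single kk (1 : F)) ∈ SymLE m (F := F) k := by
      refine ⟨?_, ?_⟩
      · rw [transpose_vecMulVec]
        ext i j
        rw [vecMulVec_apply, vecMulVec_apply, Pi.single_apply, Pi.single_apply, Pi.single_apply,
          Pi.single_apply]
        split_ifs <;> simp
      · intro i j hij
        rw [vecMulVec_apply]
        rcases hij with h1 | h1
        · rw [single_supp k kk (le_of_eq hkkv) μ i h1, zero_mul]
        · rw [hsuppkk j h1, mul_zero]
    have hTX := h hT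
    have hLT := hL _ hTX hT.1 (hlast _ hT)
    rw [conj_vecMulVec, hLkk μ, hLkk 1] at hLT
    have hD := claimD (Pi.single kk (δ kk * μ)) (single_supp k kk (le_of_eq hkkv) _)
    have hsplit : vecMulVec (Pi.single kk μ + Pi.single κ (δ kk * μ))
        (Pi.single kk 1 + Pi.single κ (δ kk * 1)) =
        vecMulVec (Pi.single kk μ) (Pi.single kk (1 : F)) + Mh (Pi.single kk (δ kk * μ)) +
          vecMulVec (Pi.single κ (δ kk * δ kk * μ)) (Pi.single κ (1 : F)) := by
      ext i j
      rw [hMh]
      simp only [Matrix.add_apply, vecMulVec_apply, Pi.add_apply, Pi.single_apply]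
      split_ifs <;> ring
    rw [hsplit] at hLT
    have h1 := X.sub_mem (X.sub_mem hLT hTX) hD
    have e1 : vecMulVec (Pi.single kk μ) (Pi.single kk (1 : F)) + Mh (Pi.single kk (δ kk * μ)) +
          vecMulVec (Pi.single κ (δ kk * δ kk * μ)) (Pi.single κ (1 : F)) -
          vecMulVec (Pi.single kk μ) (Pi.single kk (1 : F)) - Mh (Pi.single kk (δ kk * μ)) =
        vecMulVec (Pi.single κ (δ kk * δ kk * μ)) (Pi.single κ (1 : F)) := by abel
    rw [e1] at h1
    have e2 : δ kk * δ kk * μ = μ' := by
      rw [hμ, ← mul_assoc, mul_inv_cancel₀ (mul_ne_zero (hδ kk) (hδ kk)), one_mul]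
    rw [e2] at h1
    exact h1
  -- the decomposition
  intro S hS
  obtain ⟨hSsym, hSsupp⟩ := hS
  set v : Fin (m + 2) → F := fun a => if a.val ≤ k then S a κ else 0 with hv
  set S0 : SM m F := fun i j => if i.val ≤ k ∧ j.val ≤ k then S i j else 0 with hS0
  have hκk : ¬ (κ.val ≤ k) := by rw [hκv]; omega
  have hS0a : ∀ i j, S0 i j = if i.val ≤ k ∧ j.val ≤ k then S i j else 0 := fun i j => rfl
  have hva : ∀ a, v a = if a.val ≤ k then S a κ else 0 := fun a => rfl
  have hsymm : ∀ a b, S a b = S b a := by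
    intro a b
    have := congrFun (congrFun hSsym a) b
    rw [Matrix.transpose_apply] at this
    exact this.symm
  have hS0mem : S0 ∈ SymLE m (F := F) k := by
    refine ⟨?_, ?_⟩
    · ext i j
      rw [Matrix.transpose_apply, hS0a, hS0a]
      by_cases hc : i.val ≤ k ∧ j.val ≤ k
      · rw [if_pos hc, if_pos ⟨hc.2, hc.1⟩, hsymm]
      · rw [if_neg hc, if_neg (fun hc' => hc ⟨hc'.2, hc'.1⟩)]
    · intro i j hij
      rw [hS0a, if_neg]
      rintro ⟨h1, h2⟩
      omega
  have hvsupp : ∀ i : Fin (m + 2), k < i.val → v i = 0 := by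
    intro i hi
    rw [hva, if_neg (by omega)]
  have hdecomp : S = S0 + Mh v + vecMulVec (Pi.single κ (S κ κ)) (Pi.single κ (1 : F)) := by
    ext i j
    rw [hMh]
    simp only [Matrix.add_apply, vecMulVec_apply, Pi.single_apply, hS0a, hva]
    by_cases hiκ : i = κ
    · rw [hiκ]
      by_cases hjκ : j = κ
      · rw [hjκ]
        simp only [hκk, if_true, if_false, false_and, and_false]
        ring
      · by_cases hjk : j.val ≤ k
        · simp only [hκk, hjk, hjκ, if_true, if_false, false_and, and_false]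
          rw [hsymm j κ]
          ring
        · have h0 : S κ j = 0 := by
            apply hSsupp; right
            have : j.val ≠ k + 1 := fun e => hjκ (Fin.ext e)
            omega
          rw [h0]
          simp only [hκk, hjk, hjκ, if_true, if_false, false_and, and_false]
          ring
    · by_cases hik : i.val ≤ k
      · by_cases hjκ : j = κ
        · rw [hjκ]
          simp only [hκk, hik, hiκ, if_true, if_false, false_and, and_false]
          ring
        · by_cases hjk : j.val ≤ k
          · simp only [hik, hjk, hiκ, hjκ, if_true, if_false, and_self]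
            ring
          · have h0 : S i j = 0 := by
              apply hSsupp; right
              have : j.val ≠ k + 1 := fun e => hjκ (Fin.ext e)
              omega
            rw [h0]
            simp only [hik, hjk, hiκ, hjκ, if_true, if_false, and_false]
            ring
      · have h0 : S i j = 0 := by
          apply hSsupp; left
          have : i.val ≠ k + 1 := fun e => hiκ (Fin.ext e)
          omega
        rw [h0]
        simp only [hik, hiκ, if_false, false_and]
        ring
  rw [hdecomp]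
  exact X.add_mem (X.add_mem (h hS0mem) (claimD v hvsupp)) (claimE (S κ κ))

end Cfsg.Agent.Lib.Helper29.RSp
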