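import Mathlib
import Cfsg.Prelude.Def_Balance
import Cfsg.Agent.Lib.Helper12.LBMain
import Cfsg.Agent.Lib.Helper29.Quasisimple
import Cfsg.Agent.Lib.Helper29.PCompUnique
import Cfsg.Agent.Lib.Helper01.PPrimeCore

/-!
# S1305, part A: a component of `C_X(a)` of even order lies in `L_{2'}(X)` (from `L_{2'}`-balance)
-/

set_option autoImplicit false
set_option linter.unusedSectionVars false

universe u

namespace Cfsg.Agent.Lib.Helper29.S1305K

open Cfsg Cfsg.Agent.Lib.Helper12.LB

/-- The image of a component modulo a normal subgroup not containing it is a component. -/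
theorem isComponent_map_mk'_of_not_le {X : Type*} [Group X] (N : Subgroup X) [N.Normal]
    {K : Subgroup X} (hK : IsComponent K) (hKN : ¬ K ≤ N) :
    IsComponent (K.map (QuotientGroup.mk' N)) := by
  refine ⟨hK.1.map (QuotientGroup.mk'_surjective N), ?_⟩
  let ψ : ↥K →* ↥(K.map (QuotientGroup.mk' N)) := (QuotientGroup.mk' N).subgroupMap K
  have hψ : Function.Surjective ψ := (QuotientGroup.mk' N).subgroupMap_surjective K
  rcases Helper29.qs_normal_le_center_or_eq_top hK.2 ψ.ker with h | h
  · have h1 := Helper29.qs_quotient_central hK.2 ψ.ker h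
    exact Helper29.qs_of_mulEquiv (QuotientGroup.quotientKerEquivOfSurjective ψ hψ) h1
  · exfalso
    apply hKN
    intro k hk
    have h1 : (⟨k, hk⟩ : ↥K) ∈ ψ.ker := by rw [h]; trivial
    rw [MonoidHom.mem_ker] at h1
    have h2 := congrArg Subtype.val h1
    have h3 : (QuotientGroup.mk' N) k = 1 := h2
    rwa [QuotientGroup.mk'_apply, QuotientGroup.eq_one_iff] at h3

theorem centralizer_zpowers_eq {X : Type*} [Group X] (a : X) :
    Subgroup.centralizer ((Subgroup.zpowers a : Subgroup X) : Set X) = Subgroup.centralizer ({a} : Set X) := by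
  ext x
  rw [Subgroup.mem_centralizer_iff, Subgroup.mem_centralizer_iff]
  constructor
  · intro h y hy
    rw [Set.mem_singleton_iff] at hy
    subst hy
    exact h y (Subgroup.mem_zpowers y)
  · intro h y hy
    obtain ⟨n, rfl⟩ := Subgroup.mem_zpowers_iff.mp hy
    have h1 : Commute a x := h a rfl
    exact (h1.zpow_left n).eq

/-- **Part A.** A component of even order of the centralizer of an involution lies in the `2`-layer. -/
theorem le_pLayer_of_component_centralizer {X : Type u} [Group X] [Finite X]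
    (k1 : ∀ (K : Type u) [Group K] [Finite K], IsQuasisimple K → 2 ∣ Nat.card K →
      Cfsg.Agent.Lib.Helper29.NoCoprimeIndexNormal 2 K)
    (a : X) (ha : a * a = 1) (K : Subgroup X) (hKa : K ≤ Subgroup.centralizer ({a} : Set X))
    (hK : IsComponent (K.subgroupOf (Subgroup.centralizer ({a} : Set X)))) (heven : 2 ∣ Nat.card K) :
    K ≤ pLayer 2 X := by
  set P : Subgroup X := Subgroup.zpowers a with hP
  have hPg : IsPGroup 2 P := by
    rintro ⟨x, hx⟩
    refine ⟨1, ?_⟩
    obtain ⟨n, rfl⟩ := Subgroup.mem_zpowers_iff.mp hx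
    apply Subtype.ext
    simp only [pow_one, SubgroupClass.coe_pow, OneMemClass.coe_one]
    have h2 : a ^ (2 : ℤ) = 1 := by
      rw [zpow_ofNat, pow_two]; exact ha
    calc (a ^ n) ^ 2 = a ^ (2 * n) := by
          rw [← zpow_natCast, ← zpow_mul]; congr 1; push_cast; ring
      _ = (a ^ (2 : ℤ)) ^ n := by rw [zpow_mul]
      _ = 1 := by rw [h2, one_zpow]
  have hC : Subgroup.centralizer ((P : Subgroup X) : Set X) = Subgroup.centralizer ({a} : Set X) :=
    centralizer_zpowers_eq a
  -- `K` is a component of `C_X(P)`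
  have hK' : IsComponent (K.subgroupOf (Subgroup.centralizer ((P : Subgroup X) : Set X))) := by
    rw [hC]; exact hK
  have hKC : K ≤ Subgroup.centralizer ((P : Subgroup X) : Set X) := by rw [hC]; exact hKa
  set C : Subgroup X := Subgroup.centralizer ((P : Subgroup X) : Set X) with hCdef
  -- cardinalities
  have hcardK : Nat.card ↥(K.subgroupOf C) = Nat.card ↥K :=
    Nat.card_congr (Subgroup.subgroupOfEquivOfLe hKC).toEquiv
  -- the image modulo the core
  have hnotle : ¬ K.subgroupOf C ≤ pPrimeCore 2 ↥C := by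
    intro hle
    have h1 : Nat.card ↥(K.subgroupOf C) ∣ Nat.card ↥(pPrimeCore 2 ↥C) := Subgroup.card_dvd_of_le hle
    have h2 : (Nat.card ↥(pPrimeCore 2 ↥C)).Coprime 2 :=
      Cfsg.Agent.Lib.Helper01.pPrimeCore_card_coprime 2
    rw [hcardK] at h1
    have h3 : 2 ∣ Nat.card ↥(pPrimeCore 2 ↥C) := heven.trans h1
    have := Nat.Coprime.eq_one_of_dvd h2.symm h3
    omega
  have hcomp : CompLike C K := ⟨hKC, isComponent_map_mk'_of_not_le (pPrimeCore 2 ↥C) hK' hnotle⟩
  have h2 : CompLike (Subgroup.normalizer (P : Set X)) K :=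
    Cfsg.Agent.Lib.Helper70.LB.compLike_of_normal (Subgroup.normalizer (P : Set X)) C K
      (Subgroup.centralizer_le_normalizer _)
      (Subgroup.normal_subgroupOf_centralizer_normalizer _) hcomp
  -- `K` is quasisimple
  have hqsK : IsQuasisimple ↥K :=
    Cfsg.Agent.Lib.Helper29.qs_of_mulEquiv (Subgroup.subgroupOfEquivOfLe hKC) hK'.2
  have hperf : ⁅K, K⁆ = K := by
    haveI : Group.IsPerfect ↥K := hqsK.1
    have h := Cfsg.Agent.Lib.Helper29.qs_perfect hqsK
    -- transport `commutator ↥K = ⊤` to `⁅K, K⁆ = K`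
    have h3 : (commutator ↥K).map K.subtype = ⁅K, K⁆ := by
      rw [commutator_def, Subgroup.map_commutator, ← MonoidHom.range_eq_map, Subgroup.range_subtype]
    rw [← h3, h, ← MonoidHom.range_eq_map, Subgroup.range_subtype]
  exact lbalance X P K hPg ⟨h2, hperf, k1 ↥K hqsK heven⟩

end Cfsg.Agent.Lib.Helper29.S1305K
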