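import Mathlib

/-!
# K-S1305-K4a: commutators of `a`-fixed elements of a central product of `a`-invariant factors
-/

set_option autoImplicit false

namespace Cfsg.Agent.Lib.Helper29.S1305K

/-- An element of `U ⊔ V` with `U`, `V` commuting elementwise is a product `u * v`. -/
theorem exists_mul_of_mem_sup_commuting {X : Type*} [Group X] (U V : Subgroup X)
    (hUV : ∀ u ∈ U, ∀ v ∈ V, u * v = v * u) (k : X) (hk : k ∈ U ⊔ V) :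
    ∃ u ∈ U, ∃ v ∈ V, k = u * v := by
  have hcomm : ∀ (m : U) (n : V), Commute (U.subtype m) (V.subtype n) :=
    fun m n => hUV m.1 m.2 n.1 n.2
  have hr := MonoidHom.noncommCoprod_range U.subtype V.subtype hcomm
  rw [Subgroup.range_subtype, Subgroup.range_subtype] at hr
  rw [← hr] at hk
  obtain ⟨⟨h, k⟩, rfl⟩ := hk
  exact ⟨h.1, h.2, k.1, k.2, by rw [MonoidHom.noncommCoprod_apply]; rfl⟩

/-- **K4a**. -/
theorem commutator_mem_of_commuting_factors {X : Type*} [Group X] (U V : Subgroup X)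
    (hUV : ∀ u ∈ U, ∀ v ∈ V, u * v = v * u) (a : X)
    (haU : ∀ u ∈ U, a * u * a⁻¹ ∈ U) (haV : ∀ v ∈ V, a * v * a⁻¹ ∈ V)
    (k k' : X) (hk : k ∈ U ⊔ V) (hk' : k' ∈ U ⊔ V) (hka : a * k = k * a) (hka' : a * k' = k' * a) :
    k * k' * k⁻¹ * k'⁻¹ ∈ (U ⊓ Subgroup.centralizer ({a} : Set X)) ⊔ (V ⊓ Subgroup.centralizer ({a} : Set X)) := by
  obtain ⟨u, hu, v, hv, rfl⟩ := exists_mul_of_mem_sup_commuting U V hUV k hk
  obtain ⟨u', hu', v', hv', rfl⟩ := exists_mul_of_mem_sup_commuting U V hUV k' hk'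
  -- the central defect of `u` under `a`
  have key : ∀ (u v : X), u ∈ U → v ∈ V → a * (u * v) = (u * v) * a →
      ∃ z : X, z ∈ U ∧ z ∈ V ∧ a * u * a⁻¹ = u * z ∧ a * v * a⁻¹ = z⁻¹ * v := by
    intro u v hu hv h
    refine ⟨u⁻¹ * (a * u * a⁻¹), U.mul_mem (U.inv_mem hu) (haU u hu), ?_, by group, ?_⟩
    · -- `u⁻¹ (a u a⁻¹) = v (a v a⁻¹)⁻¹`
      have h1 : (a * u * a⁻¹) * (a * v * a⁻¹) = u * v := by
        have : (a * u * a⁻¹) * (a * v * a⁻¹) = a * (u * v) * a⁻¹ := by group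
        rw [this, h]; group
      have h2 : u⁻¹ * (a * u * a⁻¹) = v * (a * v * a⁻¹)⁻¹ := by
        have : u⁻¹ * (a * u * a⁻¹) = u⁻¹ * ((a * u * a⁻¹) * (a * v * a⁻¹)) * (a * v * a⁻¹)⁻¹ := by group
        rw [this, h1]; group
      rw [h2]
      exact V.mul_mem hv (V.inv_mem (haV v hv))
    · have h1 : (a * u * a⁻¹) * (a * v * a⁻¹) = u * v := by
        have : (a * u * a⁻¹) * (a * v * a⁻¹) = a * (u * v) * a⁻¹ := by group
        rw [this, h]; group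
      have : a * v * a⁻¹ = (a * u * a⁻¹)⁻¹ * ((a * u * a⁻¹) * (a * v * a⁻¹)) := by group
      rw [this, h1]; group
  obtain ⟨z, hzU, hzV, hzu, hzv⟩ := key u v hu hv hka
  obtain ⟨z', hzU', hzV', hzu', hzv'⟩ := key u' v' hu' hv' hka'
  -- `z`, `z'` commute with everything in `U` and `V`
  have hzc : ∀ x ∈ U, z * x = x * z := fun x hx => (hUV x hx z hzV).symm
  have hzc' : ∀ x ∈ U, z' * x = x * z' := fun x hx => (hUV x hx z' hzV').symm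
  have hzd : ∀ y ∈ V, z * y = y * z := fun y hy => hUV z hzU y hy
  have hzd' : ∀ y ∈ V, z' * y = y * z' := fun y hy => hUV z' hzU' y hy
  -- the commutator splits
  have hsplit : u * v * (u' * v') * (u * v)⁻¹ * (u' * v')⁻¹ =
      (u * u' * u⁻¹ * u'⁻¹) * (v * v' * v⁻¹ * v'⁻¹) := by
    have e1 := hUV u' hu' v hv
    have e2 := hUV u hu v' hv'
    have e3 := hUV u' hu' v' hv'
    have e4 := hUV u hu v hv
    have e5 := hUV (u * u' * u⁻¹ * u'⁻¹) (U.mul_mem (U.mul_mem (U.mul_mem hu hu') (U.inv_mem hu)) (U.inv_mem hu'))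
      (v * v' * v⁻¹ * v'⁻¹) (V.mul_mem (V.mul_mem (V.mul_mem hv hv') (V.inv_mem hv)) (V.inv_mem hv'))
    -- move all `v`'s to the right
    have s1 : u * v * (u' * v') = u * u' * (v * v') := by
      calc u * v * (u' * v') = u * (v * u') * v' := by group
        _ = u * (u' * v) * v' := by rw [e1]
        _ = u * u' * (v * v') := by group
    have s2 : (u * v)⁻¹ * (u' * v')⁻¹ = (u⁻¹ * u'⁻¹) * (v⁻¹ * v'⁻¹) := by
      have c1 : v⁻¹ * u⁻¹ = u⁻¹ * v⁻¹ := by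
        have := congrArg (·⁻¹) e4; simpa [mul_inv_rev] using this
      have c2 : v'⁻¹ * u'⁻¹ = u'⁻¹ * v'⁻¹ := by
        have := congrArg (·⁻¹) e3; simpa [mul_inv_rev] using this
      have c3 : v⁻¹ * u'⁻¹ = u'⁻¹ * v⁻¹ := by
        have := congrArg (·⁻¹) e1; simpa [mul_inv_rev] using this
      calc (u * v)⁻¹ * (u' * v')⁻¹ = (v⁻¹ * u⁻¹) * (v'⁻¹ * u'⁻¹) := by group
        _ = (u⁻¹ * v⁻¹) * (u'⁻¹ * v'⁻¹) := by rw [c1, c2]
        _ = u⁻¹ * (v⁻¹ * u'⁻¹) * v'⁻¹ := by group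
        _ = u⁻¹ * (u'⁻¹ * v⁻¹) * v'⁻¹ := by rw [c3]
        _ = (u⁻¹ * u'⁻¹) * (v⁻¹ * v'⁻¹) := by group
    have hvv : (v * v') * (u⁻¹ * u'⁻¹) = (u⁻¹ * u'⁻¹) * (v * v') :=
      (hUV (u⁻¹ * u'⁻¹) (U.mul_mem (U.inv_mem hu) (U.inv_mem hu')) (v * v') (V.mul_mem hv hv')).symm
    calc u * v * (u' * v') * (u * v)⁻¹ * (u' * v')⁻¹
        = (u * v * (u' * v')) * ((u * v)⁻¹ * (u' * v')⁻¹) := by group
      _ = (u * u' * (v * v')) * ((u⁻¹ * u'⁻¹) * (v⁻¹ * v'⁻¹)) := by rw [s1, s2]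
      _ = u * u' * ((v * v') * (u⁻¹ * u'⁻¹)) * (v⁻¹ * v'⁻¹) := by group
      _ = u * u' * ((u⁻¹ * u'⁻¹) * (v * v')) * (v⁻¹ * v'⁻¹) := by rw [hvv]
      _ = (u * u' * u⁻¹ * u'⁻¹) * (v * v' * v⁻¹ * v'⁻¹) := by group
  rw [hsplit]
  refine Subgroup.mul_mem _ (Subgroup.mem_sup_left ?_) (Subgroup.mem_sup_right ?_)
  · refine Subgroup.mem_inf.mpr ⟨U.mul_mem (U.mul_mem (U.mul_mem hu hu') (U.inv_mem hu)) (U.inv_mem hu'), ?_⟩
    rw [Subgroup.mem_centralizer_iff]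
    intro x hx
    rw [Set.mem_singleton_iff] at hx
    subst hx
    -- `a [u,u'] a⁻¹ = [u z, u' z'] = [u,u']`
    have h1 : x * (u * u' * u⁻¹ * u'⁻¹) * x⁻¹ =
        (x * u * x⁻¹) * (x * u' * x⁻¹) * (x * u * x⁻¹)⁻¹ * (x * u' * x⁻¹)⁻¹ := by group
    have h2 : (u * z) * (u' * z') * (u * z)⁻¹ * (u' * z')⁻¹ = u * u' * u⁻¹ * u'⁻¹ := by
      have a1 := hzc u' hu'
      have a2 := hzc' u hu
      have a3 : z * z' = z' * z := hzc z' hzU'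
      calc (u * z) * (u' * z') * (u * z)⁻¹ * (u' * z')⁻¹
          = u * (z * u') * z' * z⁻¹ * u⁻¹ * z'⁻¹ * u'⁻¹ := by group
        _ = u * (u' * z) * z' * z⁻¹ * u⁻¹ * z'⁻¹ * u'⁻¹ := by rw [a1]
        _ = u * u' * (z * z') * z⁻¹ * u⁻¹ * z'⁻¹ * u'⁻¹ := by group
        _ = u * u' * (z' * z) * z⁻¹ * u⁻¹ * z'⁻¹ * u'⁻¹ := by rw [a3]
        _ = u * u' * (z' * u⁻¹) * z'⁻¹ * u'⁻¹ := by group
        _ = u * u' * (u⁻¹ * z') * z'⁻¹ * u'⁻¹ := by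
            have : z' * u⁻¹ = u⁻¹ * z' := hzc' u⁻¹ (U.inv_mem hu)
            rw [this]
        _ = u * u' * u⁻¹ * u'⁻¹ := by group
    have h3 : x * (u * u' * u⁻¹ * u'⁻¹) * x⁻¹ = u * u' * u⁻¹ * u'⁻¹ := by
      rw [h1, hzu, hzu', h2]
    calc x * (u * u' * u⁻¹ * u'⁻¹) = (x * (u * u' * u⁻¹ * u'⁻¹) * x⁻¹) * x := by group
      _ = (u * u' * u⁻¹ * u'⁻¹) * x := by rw [h3]
  · refine Subgroup.mem_inf.mpr ⟨V.mul_mem (V.mul_mem (V.mul_mem hv hv') (V.inv_mem hv)) (V.inv_mem hv'), ?_⟩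
    rw [Subgroup.mem_centralizer_iff]
    intro x hx
    rw [Set.mem_singleton_iff] at hx
    subst hx
    have h1 : x * (v * v' * v⁻¹ * v'⁻¹) * x⁻¹ =
        (x * v * x⁻¹) * (x * v' * x⁻¹) * (x * v * x⁻¹)⁻¹ * (x * v' * x⁻¹)⁻¹ := by group
    have h2 : (z⁻¹ * v) * (z'⁻¹ * v') * (z⁻¹ * v)⁻¹ * (z'⁻¹ * v')⁻¹ = v * v' * v⁻¹ * v'⁻¹ := by
      have b1 : v * z'⁻¹ = z'⁻¹ * v := by
        have := hzd' v hv
        calc v * z'⁻¹ = z'⁻¹ * (z' * v) * z'⁻¹ := by group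
          _ = z'⁻¹ * (v * z') * z'⁻¹ := by rw [this]
          _ = z'⁻¹ * v := by group
      have b2 : z * z' = z' * z := hzc z' hzU'
      have b3 : v' * z = z * v' := (hzd v' hv').symm
      calc (z⁻¹ * v) * (z'⁻¹ * v') * (z⁻¹ * v)⁻¹ * (z'⁻¹ * v')⁻¹
          = z⁻¹ * (v * z'⁻¹) * v' * v⁻¹ * z * v'⁻¹ * z' := by group
        _ = z⁻¹ * (z'⁻¹ * v) * v' * v⁻¹ * z * v'⁻¹ * z' := by rw [b1]
        _ = z⁻¹ * z'⁻¹ * (v * v' * v⁻¹ * v'⁻¹) * (v' * z) * v'⁻¹ * z' := by group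
        _ = z⁻¹ * z'⁻¹ * (v * v' * v⁻¹ * v'⁻¹) * (z * v') * v'⁻¹ * z' := by rw [b3]
        _ = z⁻¹ * z'⁻¹ * ((v * v' * v⁻¹ * v'⁻¹) * (z * z')) := by group
        _ = z⁻¹ * z'⁻¹ * ((z * z') * (v * v' * v⁻¹ * v'⁻¹)) := by
            have hw : (v * v' * v⁻¹ * v'⁻¹) * (z * z') = (z * z') * (v * v' * v⁻¹ * v'⁻¹) :=
              (hUV (z * z') (U.mul_mem hzU hzU') _
                (V.mul_mem (V.mul_mem (V.mul_mem hv hv') (V.inv_mem hv)) (V.inv_mem hv'))).symm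
            rw [hw]
        _ = (z⁻¹ * z'⁻¹ * (z * z')) * (v * v' * v⁻¹ * v'⁻¹) := by group
        _ = (z⁻¹ * z'⁻¹ * (z' * z)) * (v * v' * v⁻¹ * v'⁻¹) := by rw [b2]
        _ = v * v' * v⁻¹ * v'⁻¹ := by group
    have h3 : x * (v * v' * v⁻¹ * v'⁻¹) * x⁻¹ = v * v' * v⁻¹ * v'⁻¹ := by
      rw [h1, hzv, hzv', h2]
    calc x * (v * v' * v⁻¹ * v'⁻¹) = (x * (v * v' * v⁻¹ * v'⁻¹) * x⁻¹) * x := by group
      _ = (v * v' * v⁻¹ * v'⁻¹) * x := by rw [h3]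

end Cfsg.Agent.Lib.Helper29.S1305K
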