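import Mathlib
import Cfsg.Prelude.Def_Balance
import Cfsg.Agent.Lib.Helper29.S1305A
import Cfsg.Agent.Lib.Helper29.S1305K4a
import Cfsg.Agent.Lib.Helper30.Layer
import Cfsg.Agent.Lib.Helper01.BGNarrow

/-!
# S1305: the glue (helper29).  The leaves K1, K3, K4, K6a, K6b enter as hypotheses.
-/

set_option autoImplicit false
set_option linter.unusedSectionVars false
set_option linter.style.haveILetI false

universe u

namespace Cfsg.Agent.Lib.Helper29.S1305K

open Cfsg

/-- `⁅K, K⁆ = K` for a quasisimple subgroup. -/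
theorem commutator_eq_self_of_qs {X : Type*} [Group X] (K : Subgroup X) (hqs : IsQuasisimple ↥K) :
    ⁅K, K⁆ = K := by
  have h := Cfsg.Agent.Lib.Helper29.qs_perfect hqs
  have h3 : (commutator ↥K).map K.subtype = ⁅K, K⁆ := by
    rw [commutator_def, Subgroup.map_commutator, ← MonoidHom.range_eq_map, Subgroup.range_subtype]
  rw [← h3, h, ← MonoidHom.range_eq_map, Subgroup.range_subtype]

/-- Transport of a relative component of `C_G(a)` centralized by `b` to the group `↥C_G(b)`. -/
theorem relComp_transport {G : Type*} [Group G] (a b : G) (K : Subgroup G)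
    (hKa : K ≤ Subgroup.centralizer ({a} : Set G)) (hKb : K ≤ Subgroup.centralizer ({b} : Set G))
    (hK : IsComponent (K.subgroupOf (Subgroup.centralizer ({a} : Set G))))
    (a' : ↥(Subgroup.centralizer ({b} : Set G))) (ha' : (a' : G) = a) :
    IsComponent ((K.subgroupOf (Subgroup.centralizer ({b} : Set G))).subgroupOf
      (Subgroup.centralizer ({a'} : Set ↥(Subgroup.centralizer ({b} : Set G))))) := by
  -- the embedding `C' → Ca`
  have hmem : ∀ n : ↥(Subgroup.centralizer ({a'} : Set ↥(Subgroup.centralizer ({b} : Set G)))),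
      ((n : ↥(Subgroup.centralizer ({b} : Set G))) : G) ∈ Subgroup.centralizer ({a} : Set G) := by
    intro n
    rw [Subgroup.mem_centralizer_iff]
    intro x hx
    rw [Set.mem_singleton_iff] at hx
    rw [hx]
    have h1 := (Subgroup.mem_centralizer_iff.mp n.2) a' rfl
    have h2 := congrArg (fun t : ↥(Subgroup.centralizer ({b} : Set G)) => (t : G)) h1
    simp only [Subgroup.coe_mul, ha'] at h2
    exact h2
  let ι : ↥(Subgroup.centralizer ({a'} : Set ↥(Subgroup.centralizer ({b} : Set G)))) →*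
      ↥(Subgroup.centralizer ({a} : Set G)) :=
    { toFun := fun n => ⟨((n : ↥(Subgroup.centralizer ({b} : Set G))) : G), hmem n⟩
      map_one' := rfl
      map_mul' := fun _ _ => rfl }
  have hcomap : (K.subgroupOf (Subgroup.centralizer ({a} : Set G))).comap ι =
      (K.subgroupOf (Subgroup.centralizer ({b} : Set G))).subgroupOf
        (Subgroup.centralizer ({a'} : Set ↥(Subgroup.centralizer ({b} : Set G)))) := by
    ext n
    simp only [Subgroup.mem_comap, Subgroup.mem_subgroupOf]
    rfl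
  refine ⟨?_, ?_⟩
  · rw [← hcomap]
    exact hK.1.comap ι
  · -- quasisimple, via `↥(…) ≃* ↥K`
    have hle : (K.subgroupOf (Subgroup.centralizer ({b} : Set G))) ≤
        Subgroup.centralizer ({a'} : Set ↥(Subgroup.centralizer ({b} : Set G))) := by
      intro k hk
      rw [Subgroup.mem_centralizer_iff]
      intro x hx
      rw [Set.mem_singleton_iff] at hx
      rw [hx]
      apply Subtype.ext
      have hkK : (k : G) ∈ K := Subgroup.mem_subgroupOf.mp hk
      have h1 := (Subgroup.mem_centralizer_iff.mp (hKa hkK)) a rfl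
      simp only [Subgroup.coe_mul, ha']
      exact h1
    have e1 := Subgroup.subgroupOfEquivOfLe hle
    have e2 := Subgroup.subgroupOfEquivOfLe hKb
    have e3 := Subgroup.subgroupOfEquivOfLe hKa
    exact Cfsg.Agent.Lib.Helper29.qs_of_mulEquiv ((e3.trans e2.symm).trans e1.symm) hK.2

/-- A maximal elementary abelian `2`-subgroup of `D` contains every involution of `D` centralizing it. -/
theorem mem_of_maximal_elemAb {G : Type*} [Group G] [Finite G] (D B : Subgroup G) (hBD : B ≤ D)
    (hBel : IsElementaryAbelian 2 B)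
    (hBmax : ∀ B' : Subgroup G, B' ≤ D → IsElementaryAbelian 2 B' → Nat.card ↥B' ≤ Nat.card ↥B)
    (a : G) (haD : a ∈ D) (ha2 : a * a = 1) (hac : ∀ x ∈ B, a * x = x * a) : a ∈ B := by
  have hBc : ∀ x ∈ B, ∀ y ∈ B, Commute x y := fun x hx y hy =>
    congrArg Subtype.val (hBel.1.is_comm.comm (⟨x, hx⟩ : B) ⟨y, hy⟩)
  have hza : ∀ s ∈ Subgroup.zpowers a, ∀ x ∈ B, Commute x s := by
    intro s hs x hx
    obtain ⟨n, rfl⟩ := Subgroup.mem_zpowers_iff.mp hs
    have h1 : Commute a x := hac x hx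
    exact (h1.zpow_left n).symm
  have hzz : ∀ s ∈ Subgroup.zpowers a, ∀ t ∈ Subgroup.zpowers a, Commute s t := by
    intro s hs t ht
    obtain ⟨n, rfl⟩ := Subgroup.mem_zpowers_iff.mp hs
    obtain ⟨m, rfl⟩ := Subgroup.mem_zpowers_iff.mp ht
    exact ((Commute.refl a).zpow_left n).zpow_right m
  have hz2 : ∀ s ∈ Subgroup.zpowers a, s ^ 2 = 1 := by
    intro s hs
    obtain ⟨n, rfl⟩ := Subgroup.mem_zpowers_iff.mp hs
    have h2 : a ^ (2 : ℤ) = 1 := by rw [zpow_ofNat, pow_two]; exact ha2
    calc (a ^ n) ^ 2 = a ^ (2 * n) := by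
          rw [← zpow_natCast, ← zpow_mul]; congr 1; push_cast; ring
      _ = (a ^ (2 : ℤ)) ^ n := by rw [zpow_mul]
      _ = 1 := by rw [h2, one_zpow]
  have hdec : ∀ u ∈ B ⊔ Subgroup.zpowers a, ∃ x ∈ B, ∃ s ∈ Subgroup.zpowers a, u = x * s :=
    fun u hu => exists_mul_of_mem_sup_commuting B (Subgroup.zpowers a)
      (fun x hx s hs => (hza s hs x hx).eq) u hu
  have hel : IsElementaryAbelian 2 (B ⊔ Subgroup.zpowers a) := by
    refine ⟨⟨⟨fun u v => ?_⟩⟩, ?_⟩
    · obtain ⟨x, hx, s, hs, hu⟩ := hdec u.1 u.2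
      obtain ⟨y, hy, t, ht, hv⟩ := hdec v.1 v.2
      apply Subtype.ext
      show (u : G) * v = v * u
      rw [hu, hv]
      exact (((hBc x hx y hy).mul_right (hza t ht x hx)).mul_left
        (((hza s hs y hy).symm).mul_right (hzz s hs t ht))).eq
    · intro u hu
      obtain ⟨x, hx, s, hs, rfl⟩ := hdec u hu
      rw [(hza s hs x hx).mul_pow, hBel.2 x hx, hz2 s hs, one_mul]
  have hle : B ⊔ Subgroup.zpowers a ≤ D :=
    sup_le hBD (Subgroup.zpowers_le.mpr haD)
  have hcard := hBmax _ hle hel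
  have heq : B = B ⊔ Subgroup.zpowers a := Subgroup.eq_of_le_of_card_ge le_sup_left hcard
  rw [heq]
  exact Subgroup.mem_sup_right (Subgroup.mem_zpowers a)

/-- The rank bound coming from a maximal elementary abelian subgroup. -/
theorem pRankLE_of_maximal_elemAb {G : Type*} [Group G] [Finite G] (D B : Subgroup G)
    (hBmax : ∀ B' : Subgroup G, B' ≤ D → IsElementaryAbelian 2 B' → Nat.card ↥B' ≤ Nat.card ↥B)
    (k : ℕ) (hk : Nat.card ↥B = 2 ^ k) : PRankLE 2 k ↥D := by
  intro A hAc hA2
  have h1 : Nat.card ↥(A.map D.subtype) = Nat.card ↥A :=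
    Subgroup.card_map_of_injective D.subtype_injective
  rw [← h1, ← hk]
  refine hBmax _ (Subgroup.map_subtype_le _) ⟨⟨⟨fun u v => ?_⟩⟩, ?_⟩
  · obtain ⟨x, hx, hxu⟩ := Subgroup.mem_map.mp u.2
    obtain ⟨y, hy, hyv⟩ := Subgroup.mem_map.mp v.2
    apply Subtype.ext
    show (u : G) * v = v * u
    rw [← hxu, ← hyv]
    have := hAc.is_comm.comm (⟨x, hx⟩ : A) ⟨y, hy⟩
    have h2 : x * y = y * x := congrArg Subtype.val this
    have h3 := congrArg D.subtype h2
    simpa using h3
  · intro u hu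
    obtain ⟨x, hx, rfl⟩ := Subgroup.mem_map.mp hu
    rw [← map_pow, hA2 x hx, map_one]

/-- **S1305 from its leaves.** -/
theorem glue {G : Type u} [Group G] [Finite G]
    (k1 : ∀ (K : Type u) [Group K] [Finite K], IsQuasisimple K → 2 ∣ Nat.card K →
      Cfsg.Agent.Lib.Helper29.NoCoprimeIndexNormal 2 K)
    (k3 : ∀ b : G, orderOf b = 2 → ∀ J : Subgroup ↥(Subgroup.centralizer ({b} : Set G)),
      IsPComponent 2 J → IsComponent J)
    (k4 : ∀ (X : Type u) [Group X] [Finite X] (a : X), a * a = 1 → ∀ K : Subgroup X,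
      K ≤ Subgroup.centralizer ({a} : Set X) →
      IsComponent (K.subgroupOf (Subgroup.centralizer ({a} : Set X))) → K ≤ layer X →
      ∃ J : Subgroup X, IsComponent J ∧ K ≤ J ⊔ J.map (MulAut.conj a).toMonoidHom)
    (k6a : ∀ (X : Type u) [Group X] (a : X), a * a = 1 → ∀ J K : Subgroup X,
      (∀ x ∈ J, ∀ y ∈ J, x * (a * y * a⁻¹) = (a * y * a⁻¹) * x) →
      K ≤ Subgroup.centralizer ({a} : Set X) → K ≤ J ⊔ J.map (MulAut.conj a).toMonoidHom →
      ⁅K, K⁆ = K → ∀ k ∈ K, ∃ x ∈ J, k = x * (a * x * a⁻¹))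
    (k6b : ∀ (X : Type u) [Group X] [Finite X] (a : X), a * a = 1 → ∀ J K B : Subgroup X,
      IsComponent J → (∀ x ∈ J, ∀ y ∈ J, x * (a * y * a⁻¹) = (a * y * a⁻¹) * x) →
      (∀ k, k ∈ K ↔ ∃ x ∈ J, k = x * (a * x * a⁻¹)) →
      (∀ x ∈ J, x * (a * x * a⁻¹) = 1 → x = 1) → ¬ PRankLE 2 1 ↥K →
      IsElementaryAbelian 2 B → a ∈ B → B ≤ Subgroup.centralizer (K : Set X) →
      ∃ A : Subgroup X, A ≤ Subgroup.centralizer (J : Set X) ∧ IsElementaryAbelian 2 A ∧
        2 * Nat.card ↥B ≤ Nat.card ↥A)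
    (a : G) (ha : orderOf a = 2) (K : Subgroup G) (hKa : K ≤ Subgroup.centralizer ({a} : Set G))
    (hK : Cfsg.IsComponent (K.subgroupOf (Subgroup.centralizer ({a} : Set G))))
    (hmax : ∀ y : G, orderOf y = 2 → ∀ K' : Subgroup G, K' ≤ Subgroup.centralizer ({y} : Set G) →
      Cfsg.IsComponent (K'.subgroupOf (Subgroup.centralizer ({y} : Set G))) →
      Nat.card ↥K' ≤ Nat.card ↥K ∧ (Nat.card ↥K' = Nat.card ↥K → ∀ k : ℕ,
        Cfsg.PRankLE 2 k ↥(Subgroup.centralizer ({a} : Set G) ⊓ Subgroup.centralizer (K : Set G)) →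
        Cfsg.PRankLE 2 k ↥(Subgroup.centralizer ({y} : Set G) ⊓ Subgroup.centralizer (K' : Set G))))
    (hrk : ¬ Cfsg.PRankLE 2 1 ↥K) (B : Subgroup G)
    (hBle : B ≤ Subgroup.centralizer ({a} : Set G) ⊓ Subgroup.centralizer (K : Set G))
    (hBel : Cfsg.IsElementaryAbelian 2 B)
    (hBmax : ∀ B' : Subgroup G,
      B' ≤ Subgroup.centralizer ({a} : Set G) ⊓ Subgroup.centralizer (K : Set G) →
      Cfsg.IsElementaryAbelian 2 B' → Nat.card ↥B' ≤ Nat.card ↥B)
    (b : G) (hb : b ∈ B) (hb1 : b ≠ 1) :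
    K ≤ Subgroup.centralizer ({b} : Set G) ∧
      Cfsg.IsComponent (K.subgroupOf (Subgroup.centralizer ({b} : Set G))) := by
  classical
  have ha2 : a * a = 1 := by rw [← pow_two, ← ha, pow_orderOf_eq_one]
  have hb2 : b ^ 2 = 1 := hBel.2 b hb
  have hbo : orderOf b = 2 := orderOf_eq_prime hb2 hb1
  have hbCa : b ∈ Subgroup.centralizer ({a} : Set G) := (Subgroup.mem_inf.mp (hBle hb)).1
  have hbK : b ∈ Subgroup.centralizer (K : Set G) := (Subgroup.mem_inf.mp (hBle hb)).2
  have hab : a * b = b * a := Subgroup.mem_centralizer_iff.mp hbCa a rfl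
  have hKb : K ≤ Subgroup.centralizer ({b} : Set G) := by
    intro k hk
    rw [Subgroup.mem_centralizer_iff]
    intro x hx
    rw [Set.mem_singleton_iff] at hx
    rw [hx]
    exact ((Subgroup.mem_centralizer_iff.mp hbK) k hk).symm
  refine ⟨hKb, ?_⟩
  have haCb : a ∈ Subgroup.centralizer ({b} : Set G) := by
    rw [Subgroup.mem_centralizer_iff]
    intro x hx
    rw [Set.mem_singleton_iff] at hx
    rw [hx]
    exact hab.symm
  -- the group `X = C_G(b)`
  obtain ⟨a', ha'⟩ : ∃ a' : ↥(Subgroup.centralizer ({b} : Set G)), (a' : G) = a := ⟨⟨a, haCb⟩, rfl⟩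
  have ha'2 : a' * a' = 1 := Subtype.ext (by simp [ha', ha2])
  have hK'comp := relComp_transport a b K hKa hKb hK a' ha'
  have hK'a : K.subgroupOf (Subgroup.centralizer ({b} : Set G)) ≤
      Subgroup.centralizer ({a'} : Set ↥(Subgroup.centralizer ({b} : Set G))) := by
    intro k hk
    rw [Subgroup.mem_centralizer_iff]
    intro x hx
    rw [Set.mem_singleton_iff] at hx
    rw [hx]
    apply Subtype.ext
    have hkK : (k : G) ∈ K := Subgroup.mem_subgroupOf.mp hk
    have h1 := (Subgroup.mem_centralizer_iff.mp (hKa hkK)) a rfl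
    simp only [Subgroup.coe_mul, ha']
    exact h1
  have hcardK' : Nat.card ↥(K.subgroupOf (Subgroup.centralizer ({b} : Set G))) = Nat.card ↥K :=
    Nat.card_congr (Subgroup.subgroupOfEquivOfLe hKb).toEquiv
  -- `K` has even order
  have hevenK : 2 ∣ Nat.card ↥K := by
    by_contra hodd
    apply hrk
    intro A hAc hA2
    -- `A` is a 2-group inside a group of odd order, so trivial
    have hApg : IsPGroup 2 ↥A := by
      intro x
      refine ⟨1, ?_⟩
      apply Subtype.ext
      simpa using hA2 x.1 x.2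
    obtain ⟨n, hn⟩ := hApg.exists_card_eq
    have hdvd : Nat.card ↥A ∣ Nat.card ↥K := Subgroup.card_subgroup_dvd_card A
    rcases n with _ | n
    · rw [hn]; norm_num
    · exfalso
      apply hodd
      rw [hn] at hdvd
      exact (dvd_pow_self 2 (Nat.succ_ne_zero n)).trans hdvd
  have hevenK' : 2 ∣ Nat.card ↥(K.subgroupOf (Subgroup.centralizer ({b} : Set G))) := by
    rw [hcardK']; exact hevenK
  have hA := le_pLayer_of_component_centralizer k1 a' ha'2 _ hK'a hK'comp hevenK'
  have hlayer : pLayer 2 ↥(Subgroup.centralizer ({b} : Set G)) ≤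
      layer ↥(Subgroup.centralizer ({b} : Set G)) :=
    sSup_le_sSup (fun J hJ => k3 b hbo J hJ)
  obtain ⟨J, hJc, hKJ⟩ := k4 _ a' ha'2 _ hK'a hK'comp (hA.trans hlayer)
  -- the relative component `J_G` of `C_G(b)`
  have hJGle : J.map (Subgroup.centralizer ({b} : Set G)).subtype ≤ Subgroup.centralizer ({b} : Set G) :=
    Subgroup.map_subtype_le _
  have hJGsub : (J.map (Subgroup.centralizer ({b} : Set G)).subtype).subgroupOf
      (Subgroup.centralizer ({b} : Set G)) = J :=
    Subgroup.comap_map_eq_self_of_injective (Subgroup.subtype_injective _) J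
  have hJGcomp : IsComponent ((J.map (Subgroup.centralizer ({b} : Set G)).subtype).subgroupOf
      (Subgroup.centralizer ({b} : Set G))) := by rw [hJGsub]; exact hJc
  have hcardJG : Nat.card ↥(J.map (Subgroup.centralizer ({b} : Set G)).subtype) = Nat.card ↥J :=
    Subgroup.card_map_of_injective (Subgroup.subtype_injective _)
  obtain ⟨hm1, hm2⟩ := hmax b hbo _ hJGle hJGcomp
  rw [hcardJG] at hm1 hm2
  by_cases hJa : J.map (MulAut.conj a').toMonoidHom = J
  · -- the fixed case: `K' = J`
    rw [hJa, sup_idem] at hKJ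
    have heq : K.subgroupOf (Subgroup.centralizer ({b} : Set G)) = J :=
      Subgroup.eq_of_le_of_card_ge hKJ (by rw [hcardK']; exact hm1)
    rw [heq]; exact hJc
  · -- the diagonal case
    exfalso
    have hJ'c : IsComponent (J.map (MulAut.conj a').toMonoidHom) :=
      Cfsg.Agent.Lib.Helper30.isComponent_conj a' hJc
    have hcomm0 := Cfsg.Agent.Lib.Helper30.component_commute hJc hJ'c (fun h => hJa h.symm)
    have hJcomm : ∀ x ∈ J, ∀ y ∈ J, x * (a' * y * a'⁻¹) = (a' * y * a'⁻¹) * x := by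
      intro x hx y hy
      have h1 : J ≤ Subgroup.centralizer ((J.map (MulAut.conj a').toMonoidHom : Subgroup _) : Set _) :=
        Subgroup.commutator_eq_bot_iff_le_centralizer.mp hcomm0
      have h2 : a' * y * a'⁻¹ ∈ J.map (MulAut.conj a').toMonoidHom :=
        Subgroup.mem_map.mpr ⟨y, hy, by simp [MulAut.conj_apply]⟩
      exact ((Subgroup.mem_centralizer_iff.mp (h1 hx)) _ h2).symm
    have hqsK' : IsQuasisimple ↥(K.subgroupOf (Subgroup.centralizer ({b} : Set G))) :=
      Cfsg.Agent.Lib.Helper29.qs_of_mulEquiv (Subgroup.subgroupOfEquivOfLe hK'a) hK'comp.2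
    have hperf := commutator_eq_self_of_qs _ hqsK'
    have hdiag := k6a _ a' ha'2 J _ hJcomm hK'a hKJ hperf
    -- cardinalities: `K' = φ '' J` and `φ` is injective on `J`
    set φ : ↥(Subgroup.centralizer ({b} : Set G)) → ↥(Subgroup.centralizer ({b} : Set G)) :=
      fun x => x * (a' * x * a'⁻¹) with hφ
    let KS : Set ↥(Subgroup.centralizer ({b} : Set G)) :=
      ↑(K.subgroupOf (Subgroup.centralizer ({b} : Set G)))
    let JS : Set ↥(Subgroup.centralizer ({b} : Set G)) := ↑J
    have hsub : KS ⊆ φ '' JS := by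
      intro k hk
      obtain ⟨x, hx, rfl⟩ := hdiag k hk
      exact ⟨x, hx, rfl⟩
    have hfinJ : JS.Finite := Set.toFinite _
    have hc1 : KS.ncard ≤ (φ '' JS).ncard := Set.ncard_le_ncard hsub (hfinJ.image φ)
    have hc2 : (φ '' JS).ncard ≤ JS.ncard := Set.ncard_image_le hfinJ
    have hcK : KS.ncard = Nat.card ↥K := by
      rw [← hcardK']; rfl
    have hcJ : JS.ncard = Nat.card ↥J := rfl
    have hceq1 : (φ '' JS).ncard = JS.ncard := by
      apply le_antisymm hc2
      rw [hcJ]; rw [hcK] at hc1; exact hm1.trans hc1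
    have hinjOn : Set.InjOn φ JS := (Set.ncard_image_iff hfinJ).mp hceq1
    have hKeqset : KS = φ '' JS := by
      apply Set.eq_of_subset_of_ncard_le hsub _ (hfinJ.image φ)
      rw [hceq1, hcJ, hcK]; exact hm1
    have hcardKJ : Nat.card ↥J = Nat.card ↥K := by
      have := congrArg Set.ncard hKeqset
      rw [hcK, hceq1, hcJ] at this
      exact this.symm
    have hKeq : ∀ k, k ∈ K.subgroupOf (Subgroup.centralizer ({b} : Set G)) ↔
        ∃ x ∈ J, k = x * (a' * x * a'⁻¹) := by
      intro k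
      have : k ∈ KS ↔ k ∈ φ '' JS := by rw [hKeqset]
      have h0 : k ∈ KS ↔ k ∈ K.subgroupOf (Subgroup.centralizer ({b} : Set G)) := Iff.rfl
      rw [← h0, this]
      constructor
      · rintro ⟨x, hx, rfl⟩; exact ⟨x, hx, rfl⟩
      · rintro ⟨x, hx, rfl⟩; exact ⟨x, hx, rfl⟩
    have hinj : ∀ x ∈ J, x * (a' * x * a'⁻¹) = 1 → x = 1 := by
      intro x hx h1
      apply hinjOn hx J.one_mem
      show x * (a' * x * a'⁻¹) = 1 * (a' * 1 * a'⁻¹)
      rw [h1]; simp
    -- the rank hypothesis for `K'`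
    have hrk' : ¬ PRankLE 2 1 ↥(K.subgroupOf (Subgroup.centralizer ({b} : Set G))) := fun h =>
      hrk (Cfsg.Agent.Lib.Helper01.BGNarrow.pRankLE_of_mulEquiv (Subgroup.subgroupOfEquivOfLe hKb) h)
    -- `B' = B` inside `X`
    have hBc : ∀ x ∈ B, ∀ y ∈ B, x * y = y * x := fun x hx y hy =>
      congrArg Subtype.val (hBel.1.is_comm.comm (⟨x, hx⟩ : B) ⟨y, hy⟩)
    have hBCb : B ≤ Subgroup.centralizer ({b} : Set G) := by
      intro x hx
      rw [Subgroup.mem_centralizer_iff]
      intro y hy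
      rw [Set.mem_singleton_iff] at hy
      rw [hy]
      exact hBc b hb x hx
    have hB'el : IsElementaryAbelian 2 (B.subgroupOf (Subgroup.centralizer ({b} : Set G))) := by
      refine ⟨⟨⟨fun u v => ?_⟩⟩, ?_⟩
      · apply Subtype.ext
        apply Subtype.ext
        exact hBc _ (Subgroup.mem_subgroupOf.mp u.2) _ (Subgroup.mem_subgroupOf.mp v.2)
      · intro u hu
        apply Subtype.ext
        simpa using hBel.2 _ (Subgroup.mem_subgroupOf.mp hu)
    have haB : a ∈ B := by
      refine mem_of_maximal_elemAb _ B hBle hBel hBmax a ?_ ha2 ?_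
      · refine Subgroup.mem_inf.mpr ⟨?_, ?_⟩
        · rw [Subgroup.mem_centralizer_iff]
          intro x hx
          rw [Set.mem_singleton_iff] at hx
          rw [hx]
        · rw [Subgroup.mem_centralizer_iff]
          intro k hk
          exact ((Subgroup.mem_centralizer_iff.mp (hKa hk)) a rfl).symm
      · intro x hx
        exact (Subgroup.mem_centralizer_iff.mp (Subgroup.mem_inf.mp (hBle hx)).1) a rfl
    have ha'B : a' ∈ B.subgroupOf (Subgroup.centralizer ({b} : Set G)) := by
      rw [Subgroup.mem_subgroupOf, ha']; exact haB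
    have hB'K : B.subgroupOf (Subgroup.centralizer ({b} : Set G)) ≤
        Subgroup.centralizer ((K.subgroupOf (Subgroup.centralizer ({b} : Set G)) : Subgroup _) : Set _) := by
      intro x hx
      rw [Subgroup.mem_centralizer_iff]
      intro k hk
      apply Subtype.ext
      have hxB : (x : G) ∈ B := Subgroup.mem_subgroupOf.mp hx
      have hkK : (k : G) ∈ K := Subgroup.mem_subgroupOf.mp hk
      exact (Subgroup.mem_centralizer_iff.mp (Subgroup.mem_inf.mp (hBle hxB)).2) _ hkK
    obtain ⟨A, hAJ, hAel, hAcard⟩ := k6b _ a' ha'2 J _ _ hJc hJcomm hKeq hinj hrk' hB'el ha'B hB'K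
    have hcardB' : Nat.card ↥(B.subgroupOf (Subgroup.centralizer ({b} : Set G))) = Nat.card ↥B :=
      Nat.card_congr (Subgroup.subgroupOfEquivOfLe hBCb).toEquiv
    rw [hcardB'] at hAcard
    -- `|B| = 2 ^ k`
    have hBpg : IsPGroup 2 ↥B := by
      intro x
      refine ⟨1, ?_⟩
      apply Subtype.ext
      simpa using hBel.2 x.1 x.2
    obtain ⟨k, hk⟩ := hBpg.exists_card_eq
    have hr1 := pRankLE_of_maximal_elemAb _ B hBmax k hk
    have hr2 := hm2 hcardKJ k hr1
    -- the big elementary abelian subgroup, in the ambient group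
    set AG : Subgroup G := A.map (Subgroup.centralizer ({b} : Set G)).subtype with hAG
    have hAGle : AG ≤ Subgroup.centralizer ({b} : Set G) ⊓
        Subgroup.centralizer ((J.map (Subgroup.centralizer ({b} : Set G)).subtype : Subgroup G) : Set G) := by
      intro x hx
      obtain ⟨y, hy, rfl⟩ := Subgroup.mem_map.mp hx
      refine Subgroup.mem_inf.mpr ⟨y.2, ?_⟩
      rw [Subgroup.mem_centralizer_iff]
      intro z hz
      obtain ⟨w, hw, rfl⟩ := Subgroup.mem_map.mp hz
      have := (Subgroup.mem_centralizer_iff.mp (hAJ hy)) w hw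
      exact congrArg Subtype.val this
    have hcardAG : Nat.card ↥AG = Nat.card ↥A :=
      Subgroup.card_map_of_injective (Subgroup.subtype_injective _)
    have hfinal := hr2 (AG.subgroupOf _)
      ⟨⟨fun u v => by
        apply Subtype.ext
        apply Subtype.ext
        obtain ⟨x, hx, hxu⟩ := Subgroup.mem_map.mp (Subgroup.mem_subgroupOf.mp u.2)
        obtain ⟨y, hy, hyv⟩ := Subgroup.mem_map.mp (Subgroup.mem_subgroupOf.mp v.2)
        have h1 := hAel.1.is_comm.comm (⟨x, hx⟩ : A) ⟨y, hy⟩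
        have h2 : x * y = y * x := congrArg Subtype.val h1
        have h3 := congrArg (Subgroup.centralizer ({b} : Set G)).subtype h2
        simp only [map_mul] at h3
        rw [hxu, hyv] at h3
        exact h3⟩⟩
      (fun u hu => by
        apply Subtype.ext
        obtain ⟨x, hx, hxu⟩ := Subgroup.mem_map.mp (Subgroup.mem_subgroupOf.mp hu)
        have h1 := hAel.2 x hx
        have h3 := congrArg (Subgroup.centralizer ({b} : Set G)).subtype h1
        simp only [map_pow, map_one] at h3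
        rw [hxu] at h3
        rw [SubgroupClass.coe_pow, OneMemClass.coe_one]
        exact h3)
    have hcardsub : Nat.card ↥(AG.subgroupOf (Subgroup.centralizer ({b} : Set G) ⊓
        Subgroup.centralizer ((J.map (Subgroup.centralizer ({b} : Set G)).subtype : Subgroup G) : Set G))) =
        Nat.card ↥AG := Nat.card_congr (Subgroup.subgroupOfEquivOfLe hAGle).toEquiv
    rw [hcardsub, hcardAG, ← hk] at hfinal
    have hpos : 0 < Nat.card ↥B := Nat.card_pos
    omega

end Cfsg.Agent.Lib.Helper29.S1305K
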