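import Mathlib
import Cfsg.Agent.Lib.Helper40.NilCovDefs
import Cfsg.Agent.Lib.Helper14.NilpHall

/-!
# Keystone K-S3894-T6b (`diag_not_mem_of_cube`) for helper40's S3894 pack.
-/

set_option autoImplicit false

namespace Cfsg.Agent.Lib.Helper29.S3894K

open Matrix Cfsg.Agent.Lib.Helper40.NilCov

variable {F : Type*} [Field F]

/-- K-S3894-T6b.  `q = 5`-branch: `π s` has order `3`, `π t` order dividing `4`, so they commute in the
nilpotent `A`; `t s t⁻¹ = λ s`, `λ = 1` (else `tr s = 0`, `s² ∈ F`), so `t ∈ F[s] = F[g]`, but `t` has an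
eigenvector. -/
theorem diag_not_mem_of_cube [Fintype F] {g : Matrix (Fin 2) (Fin 2) F} (hg : IsIrr g)
    (s t : GL (Fin 2) F) (hs : (s : Matrix (Fin 2) (Fin 2) F) ∈ Kset g)
    (hs2 : ∀ a : F, (s : Matrix (Fin 2) (Fin 2) F) * (s : Matrix (Fin 2) (Fin 2) F) ≠
      a • (1 : Matrix (Fin 2) (Fin 2) F))
    (hs3 : (s : Matrix (Fin 2) (Fin 2) F) * (s : Matrix (Fin 2) (Fin 2) F) *
      (s : Matrix (Fin 2) (Fin 2) F) = 1)
    (a : F) (ha : a ≠ 0) (ht : (t : Matrix (Fin 2) (Fin 2) F) = Matrix.diagonal ![a, a⁻¹])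
    (ha2 : a * a ≠ 1) (ha4 : a * a * (a * a) = 1)
    (A : Subgroup (PGL 2 F)) (hA : Group.IsNilpotent A) (hsA : prj 2 F s ∈ A) (htA : prj 2 F t ∈ A) :
    False := by
  -- orders
  have hs3' : s ^ 3 = 1 := by
    apply Units.ext
    rw [Units.val_pow_eq_pow_val, pow_succ, pow_two]
    exact hs3
  have hainv4 : a⁻¹ * a⁻¹ * (a⁻¹ * a⁻¹) = 1 := by
    have : a⁻¹ * a⁻¹ * (a⁻¹ * a⁻¹) = (a * a * (a * a))⁻¹ := by
      field_simp
    rw [this, ha4, inv_one]
  have ht4 : t ^ 4 = 1 := by
    apply Units.ext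
    rw [Units.val_pow_eq_pow_val, ht, Matrix.diagonal_pow]
    ext i j
    have ha4' : a * a * a * a = 1 := by rw [← ha4]; ring
    have hainv4' : a⁻¹ * a⁻¹ * a⁻¹ * a⁻¹ = 1 := by rw [← hainv4]; ring
    fin_cases i <;> fin_cases j <;> simp [Matrix.diagonal, pow_succ, ha4', hainv4']
  have hos : orderOf (prj 2 F s) ∣ 3 := by
    apply orderOf_dvd_of_pow_eq_one
    rw [← map_pow, hs3', map_one]
  have hot : orderOf (prj 2 F t) ∣ 4 := by
    apply orderOf_dvd_of_pow_eq_one
    rw [← map_pow, ht4, map_one]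
  have hcop : (orderOf (prj 2 F s)).Coprime (orderOf (prj 2 F t)) :=
    Nat.Coprime.coprime_dvd_left hos (Nat.Coprime.coprime_dvd_right hot (by norm_num))
  have hcomm : prj 2 F s * prj 2 F t = prj 2 F t * prj 2 F s :=
    Cfsg.Agent.Lib.Helper14.commute_of_mem_nilpotent hA hsA htA hcop
  -- scalar commutation
  have hz : (s * t)⁻¹ * (t * s) ∈ Subgroup.center (GL (Fin 2) F) := by
    rw [← map_mul, ← map_mul] at hcomm
    exact (QuotientGroup.eq).mp hcomm
  obtain ⟨lam, hlam⟩ := Matrix.GeneralLinearGroup.mem_center_iff_val_mem_range_scalar.mp hz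
  have hts : (t : Matrix (Fin 2) (Fin 2) F) * (s : Matrix (Fin 2) (Fin 2) F) =
      lam • ((s : Matrix (Fin 2) (Fin 2) F) * (t : Matrix (Fin 2) (Fin 2) F)) := by
    have h1 : t * s = (s * t) * ((s * t)⁻¹ * (t * s)) := by group
    have h2 := congrArg (fun x : GL (Fin 2) F => (x : Matrix (Fin 2) (Fin 2) F)) h1
    simp only [Matrix.GeneralLinearGroup.coe_mul] at h2
    rw [h2]
    have h3 : (((s * t)⁻¹ * (t * s) : GL (Fin 2) F) : Matrix (Fin 2) (Fin 2) F) =
        Matrix.scalar (Fin 2) lam := hlam.symm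
    simp only [Matrix.GeneralLinearGroup.coe_mul] at h3
    rw [h3]
    rw [Matrix.scalar_apply, ← Matrix.smul_eq_mul_diagonal]
  -- entries
  set S : Matrix (Fin 2) (Fin 2) F := (s : Matrix (Fin 2) (Fin 2) F) with hS
  have e00 := congrFun (congrFun hts 0) 0
  have e01 := congrFun (congrFun hts 0) 1
  have e10 := congrFun (congrFun hts 1) 0
  have e11 := congrFun (congrFun hts 1) 1
  simp only [ht, Matrix.mul_apply, Fin.sum_univ_two, Matrix.smul_apply, smul_eq_mul,
    Matrix.diagonal_apply] at e00 e01 e10 e11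
  simp at e00 e01 e10 e11
  by_cases hl : lam = 1
  · -- `S` is diagonal
    subst hl
    have hS01 : S 0 1 = 0 := by
      have h1 : S 0 1 * (a * a - 1) = 0 := by
        have : S 0 1 * (a * a - 1) = a * (a * S 0 1) - S 0 1 := by ring
        rw [this, e01]
        field_simp
        ring
      rcases mul_eq_zero.mp h1 with h | h
      · exact h
      · exact absurd (sub_eq_zero.mp h) ha2
    have hS10 : S 1 0 = 0 := by
      have h1 : S 1 0 * (a * a - 1) = 0 := by
        have : S 1 0 * (a * a - 1) = a * (1 * (S 1 0 * a)) - S 1 0 := by ring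
        rw [this, ← e10]
        field_simp
        ring
      rcases mul_eq_zero.mp h1 with h | h
      · exact h
      · exact absurd (sub_eq_zero.mp h) ha2
    obtain ⟨α, β, hαβ⟩ := hs
    by_cases hβ : β = 0
    · apply hs2 (α * α)
      rw [hαβ, hβ]
      ext i j
      fin_cases i <;> fin_cases j <;> simp [Matrix.mul_apply, Fin.sum_univ_two]
    · have hg10 : g 1 0 = 0 := by
        have h1 := congrFun (congrFun hαβ 1) 0
        rw [hS10] at h1
        simp at h1
        rcases h1 with h | h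
        · exact absurd h hβ
        · exact h
      apply hg ![1, 0] (by intro h; have := congrFun h 0; simp at this) (g 0 0)
      ext i
      fin_cases i <;> simp [Matrix.mulVec, dotProduct, Fin.sum_univ_two, hg10]
  · -- trace zero
    have hS00 : S 0 0 = 0 := by
      have h1 : a * S 0 0 * (1 - lam) = 0 := by
        have : a * S 0 0 * (1 - lam) = a * S 0 0 - lam * (S 0 0 * a) := by ring
        rw [this, e00]; ring
      rcases mul_eq_zero.mp h1 with h | h
      · rcases mul_eq_zero.mp h with h' | h'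
        · exact absurd h' ha
        · exact h'
      · exact absurd (sub_eq_zero.mp h).symm hl
    have hS11 : S 1 1 = 0 := by
      have h1 : a⁻¹ * S 1 1 * (1 - lam) = 0 := by
        have : a⁻¹ * S 1 1 * (1 - lam) = a⁻¹ * S 1 1 - lam * (S 1 1 * a⁻¹) := by ring
        rw [this, e11]; ring
      rcases mul_eq_zero.mp h1 with h | h
      · rcases mul_eq_zero.mp h with h' | h'
        · exact absurd h' (inv_ne_zero ha)
        · exact h'
      · exact absurd (sub_eq_zero.mp h).symm hl
    apply hs2 (S 0 1 * S 1 0)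
    ext i j
    fin_cases i <;> fin_cases j <;>
      simp [Matrix.mul_apply, Fin.sum_univ_two, hS00, hS11, mul_comm]

end Cfsg.Agent.Lib.Helper29.S3894K
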