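import Mathlib
import Cfsg.Prelude.Def_GeometricClasses
import Cfsg.Agent.Lib.Helper69.SLTDefs

/-!
# Keystone 597905 K-SLT-3e (`exists_block`) for helper69's S5979 pack.
-/

set_option autoImplicit false

namespace Cfsg.Agent.Lib.Helper29.SLT

open Matrix Cfsg.Agent.Lib.Helper69.SLT

variable {F : Type*} [Field F]

/-- an element of order dividing `r` of `GL_d(q)` without fixed vectors, `r ∣ q^d - 1`
(any characteristic; generalises `Helper69.SpO.exists_fpf_GL`) -/
theorem exists_fpf_GL_charP [Fintype F] {p : ℕ} [Fact p.Prime] [CharP F p] {d : ℕ} (hd : 1 ≤ d)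
    (r : ℕ) (hr : r.Prime) (hdiv : r ∣ Fintype.card F ^ d - 1) :
    ∃ G : GL (Fin d) F, G ^ r = 1 ∧
      ∀ a : Fin d → F, (G : Matrix (Fin d) (Fin d) F) *ᵥ a = a → a = 0 := by
  classical
  have : NeZero d := ⟨by omega⟩
  have : Fact r.Prime := ⟨hr⟩
  have : Fintype (FiniteField.Extension F p d) := Fintype.ofFinite _
  have hKcard : Fintype.card (FiniteField.Extension F p d)ˣ = Fintype.card F ^ d - 1 := by
    rw [Fintype.card_units, ← Nat.card_eq_fintype_card, FiniteField.natCard_extension,
      Nat.card_eq_fintype_card]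
  obtain ⟨ζ, hζ⟩ := exists_prime_orderOf_dvd_card r (hKcard ▸ hdiv)
  obtain ⟨b⟩ : Nonempty (Module.Basis (Fin d) F (FiniteField.Extension F p d)) :=
    ⟨Module.finBasisOfFinrankEq F _ (FiniteField.finrank_extension F p d)⟩
  obtain ⟨φ, hφ⟩ : ∃ φ : FiniteField.Extension F p d →ₐ[F] Matrix (Fin d) (Fin d) F,
      φ = Algebra.leftMulMatrix b := ⟨_, rfl⟩
  obtain ⟨G, hG⟩ : ∃ G : GL (Fin d) F, G = Units.map (φ : _ →* Matrix (Fin d) (Fin d) F) ζ :=
    ⟨_, rfl⟩
  have hGval : (G : Matrix (Fin d) (Fin d) F) = φ (ζ : FiniteField.Extension F p d) := by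
    rw [hG]; rfl
  refine ⟨G, ?_, ?_⟩
  · rw [hG, ← map_pow, ← hζ, pow_orderOf_eq_one, map_one]
  · intro a ha
    obtain ⟨α, hα⟩ : ∃ α : FiniteField.Extension F p d, (b.repr α : Fin d → F) = a :=
      ⟨b.equivFun.symm a, by rw [← Module.Basis.equivFun_apply, LinearEquiv.apply_symm_apply]⟩
    have h1 : (b.repr ((ζ : FiniteField.Extension F p d) * α) : Fin d → F) =
        (b.repr α : Fin d → F) := by
      rw [← Algebra.leftMulMatrix_mulVec_repr, ← hφ, ← hGval, hα, ha]
    have h2 : (ζ : FiniteField.Extension F p d) * α = α := by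
      apply b.repr.injective
      exact DFunLike.coe_injective h1
    have h3 : ((ζ : FiniteField.Extension F p d) - 1) * α = 0 := by
      rw [sub_mul, one_mul, h2, sub_self]
    rcases mul_eq_zero.mp h3 with h | h
    · exfalso
      have hζ1 : ζ = 1 := Units.ext (sub_eq_zero.mp h)
      rw [hζ1, orderOf_one] at hζ
      exact hr.one_lt.ne' hζ.symm
    · rw [← hα, h]
      simp

section block

variable {m k : ℕ}

/-- `M ↦ diag(M, 1)` as a monoid homomorphism -/
def blockHom (m k : ℕ) (F : Type*) [Field F] :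
    Matrix (Fin m) (Fin m) F →* Matrix (Fin m ⊕ Fin k) (Fin m ⊕ Fin k) F where
  toFun M := Matrix.fromBlocks M 0 0 1
  map_one' := Matrix.fromBlocks_one
  map_mul' M N := by
    rw [Matrix.fromBlocks_multiply]
    simp

theorem blockHom_apply (M : Matrix (Fin m) (Fin m) F) :
    blockHom m k F M = Matrix.fromBlocks M 0 0 1 := rfl

theorem blockHom_mulVec (M : Matrix (Fin m) (Fin m) F) (v : Fin m ⊕ Fin k → F) :
    blockHom m k F M *ᵥ v = Sum.elim (M *ᵥ (v ∘ Sum.inl)) (v ∘ Sum.inr) := by
  rw [blockHom_apply, Matrix.fromBlocks_mulVec]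
  simp

end block

/-- **K-SLT-3e (id 597905)**. -/
theorem exists_block {ι : Type} [Fintype ι] [DecidableEq ι] [Fintype F] {p : ℕ} [Fact p.Prime] [CharP F p]
    (r : ℕ) (hr : r.Prime) (hrp : r ≠ p) (e : ℕ) (he : e = orderOf ((Fintype.card F : ℕ) : ZMod r))
    (he2 : 2 ≤ e) (hen : e ≤ Fintype.card ι) :
    ∃ x : GL ι F, Matrix.GeneralLinearGroup.det x = 1 ∧ x ^ r = 1 ∧
      (∀ z : F, (x : Matrix ι ι F) ≠ z • (1 : Matrix ι ι F)) ∧
      eigDim (x : Matrix ι ι F) 1 + e = Fintype.card ι := by
  classical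
  have : Fact r.Prime := ⟨hr⟩
  set q := Fintype.card F with hq
  have hq1 : 1 ≤ q := Fintype.card_pos
  -- arithmetic
  have hqe : ((q : ℕ) : ZMod r) ^ e = 1 := by rw [he]; exact pow_orderOf_eq_one _
  have hdiv : r ∣ q ^ e - 1 := by
    rw [← ZMod.natCast_eq_zero_iff, Nat.cast_sub (Nat.one_le_pow _ _ hq1), Nat.cast_pow, hqe]
    simp
  have hndiv : ¬ r ∣ q - 1 := by
    intro h
    have h1 : ((q : ℕ) : ZMod r) = 1 := by
      have := (ZMod.natCast_eq_zero_iff (q - 1) r).mpr h
      rw [Nat.cast_sub hq1, sub_eq_zero] at this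
      simpa using this
    rw [h1, orderOf_one] at he
    omega
  have hcop : Nat.Coprime r (q - 1) := (Nat.Prime.coprime_iff_not_dvd hr).mpr hndiv
  -- units of `F` of order dividing `r` are trivial
  have hunit : ∀ u : Fˣ, u ^ r = 1 → u = 1 := by
    intro u hu
    have h1 : orderOf u ∣ r := orderOf_dvd_of_pow_eq_one hu
    have h2 : orderOf u ∣ q - 1 := by
      have : Fintype.card Fˣ = q - 1 := Fintype.card_units F
      rw [← this]
      exact orderOf_dvd_card
    have : orderOf u = 1 := Nat.eq_one_of_dvd_coprimes hcop h1 h2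
    exact orderOf_eq_one_iff.mp this
  obtain ⟨G, hGr, hGfpf⟩ := exists_fpf_GL_charP (F := F) (p := p) (d := e) (by omega) r hr hdiv
  -- reindexing
  have hcard : Fintype.card (Fin e ⊕ Fin (Fintype.card ι - e)) = Fintype.card ι := by
    simp; omega
  let eqv : (Fin e ⊕ Fin (Fintype.card ι - e)) ≃ ι := Fintype.equivOfCardEq hcard
  let ψ : Matrix (Fin e) (Fin e) F →* Matrix ι ι F :=
    ((Matrix.reindexAlgEquiv F F eqv : _ ≃ₐ[F] Matrix ι ι F) : _ →* Matrix ι ι F).comp
      (blockHom e (Fintype.card ι - e) F)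
  let x : GL ι F := Units.map ψ G
  have hxval : (x : Matrix ι ι F) =
      Matrix.reindex eqv eqv (blockHom e (Fintype.card ι - e) F (G : Matrix (Fin e) (Fin e) F)) := rfl
  have hmulVec : ∀ v : ι → F, (x : Matrix ι ι F) *ᵥ v =
      (blockHom e (Fintype.card ι - e) F (G : Matrix (Fin e) (Fin e) F) *ᵥ (v ∘ eqv)) ∘ eqv.symm := by
    intro v
    rw [hxval, Matrix.reindex_apply, Matrix.submatrix_mulVec_equiv]
    rfl
  refine ⟨x, ?_, ?_, ?_, ?_⟩
  · -- determinant
    have hdG : Matrix.GeneralLinearGroup.det G = 1 := by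
      apply hunit
      rw [← map_pow, hGr, map_one]
    apply Units.ext
    rw [Matrix.GeneralLinearGroup.val_det_apply, hxval, Matrix.det_reindex_self, blockHom_apply,
      Matrix.det_fromBlocks_zero₂₁, Matrix.det_one, mul_one]
    have := congrArg Units.val hdG
    rwa [Matrix.GeneralLinearGroup.val_det_apply] at this
  · show Units.map ψ G ^ r = 1
    rw [← map_pow, hGr, map_one]
  · -- not scalar
    intro z hz
    have hfix : ∀ a : Fin e → F, (G : Matrix (Fin e) (Fin e) F) *ᵥ a = z • a := by
      intro a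
      have h1 := hmulVec ((Sum.elim a 0) ∘ eqv.symm)
      rw [hz, Matrix.smul_mulVec, Matrix.one_mulVec] at h1
      have h2 := congrFun h1
      funext i
      have h3 := h2 (eqv (Sum.inl i))
      simp only [Pi.smul_apply, Function.comp_apply, Equiv.symm_apply_apply, smul_eq_mul,
        Sum.elim_inl] at h3
      rw [blockHom_mulVec] at h3
      simp only [Sum.elim_inl] at h3
      have h4 : ((Sum.elim a (0 : Fin (Fintype.card ι - e) → F) ∘ ⇑eqv.symm) ∘ ⇑eqv) ∘ Sum.inl = a := by
        funext j; simp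
      rw [h4] at h3
      simp only [Pi.smul_apply, smul_eq_mul]
      exact h3.symm
    -- `z ^ r = 1`
    have he0 : 0 < e := by omega
    let a0 : Fin e → F := Pi.single ⟨0, he0⟩ 1
    have ha0 : a0 ≠ 0 := by
      intro h
      have := congrFun h ⟨0, he0⟩
      simp [a0] at this
    have hpow : ∀ n : ℕ, ((G ^ n : GL (Fin e) F) : Matrix (Fin e) (Fin e) F) *ᵥ a0 = z ^ n • a0 := by
      intro n
      induction n with
      | zero => simp
      | succ n ih =>
        rw [pow_succ, Units.val_mul, ← Matrix.mulVec_mulVec, hfix, Matrix.mulVec_smul, ih, smul_smul,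
          pow_succ, mul_comm]
    have hzr : z ^ r = 1 := by
      have h1 := hpow r
      rw [hGr, Units.val_one, Matrix.one_mulVec] at h1
      have h2 := congrFun h1 ⟨0, he0⟩
      simp [a0] at h2
      exact h2.symm
    have hz0 : z ≠ 0 := by
      intro h
      rw [h, zero_pow hr.ne_zero] at hzr
      exact zero_ne_one hzr
    have hz1 : z = 1 := by
      have := hunit (Units.mk0 z hz0) (by
        apply Units.ext
        rw [Units.val_pow_eq_pow_val, Units.val_mk0, hzr, Units.val_one])
      simpa using congrArg Units.val this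
    apply ha0
    apply hGfpf
    rw [hfix, hz1, one_smul]
  · -- eigenspace
    let L : (Fin (Fintype.card ι - e) → F) →ₗ[F] (ι → F) :=
      { toFun := fun b => (Sum.elim (0 : Fin e → F) b) ∘ eqv.symm
        map_add' := by
          intro b c
          funext i
          rcases h : eqv.symm i with j | j <;> simp [h]
        map_smul' := by
          intro c b
          funext i
          rcases h : eqv.symm i with j | j <;> simp [h] }
    have hLinj : Function.Injective L := by
      intro b c hbc
      funext j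
      have := congrFun hbc (eqv (Sum.inr j))
      simpa [L] using this
    have hrange : LinearMap.range L =
        Module.End.eigenspace (Matrix.toLin' (x : Matrix ι ι F)) 1 := by
      ext v
      rw [mem_eigenspace_toLin', one_smul, hmulVec, blockHom_mulVec]
      constructor
      · rintro ⟨b, rfl⟩
        funext i
        rcases h : eqv.symm i with j | j
        · have h4 : ((Sum.elim (0 : Fin e → F) b ∘ ⇑eqv.symm) ∘ ⇑eqv) ∘ Sum.inl = 0 := by
            funext j; simp
          simp [L, h, h4]
        · simp [L, h]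
      · intro hv
        have hv' : ∀ i, Sum.elim ((G : Matrix (Fin e) (Fin e) F) *ᵥ ((v ∘ eqv) ∘ Sum.inl))
            ((v ∘ eqv) ∘ Sum.inr) (eqv.symm i) = v i := fun i => congrFun hv i
        have ha : (v ∘ eqv) ∘ Sum.inl = 0 := by
          apply hGfpf
          funext j
          have := hv' (eqv (Sum.inl j))
          simpa using this
        refine ⟨(v ∘ eqv) ∘ Sum.inr, ?_⟩
        funext i
        rcases h : eqv.symm i with j | j
        · have h1 := congrFun ha j
          have h2 : eqv (Sum.inl j) = i := by rw [← h, Equiv.apply_symm_apply]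
          simp only [Function.comp_apply, Pi.zero_apply] at h1
          simp [L, h, ← h2, h1]
        · have h2 : eqv (Sum.inr j) = i := by rw [← h, Equiv.apply_symm_apply]
          simp [L, h, ← h2]
    have hfr : eigDim (x : Matrix ι ι F) 1 = Fintype.card ι - e := by
      unfold eigDim
      rw [← hrange, LinearMap.finrank_range_of_inj hLinj]
      simp
    rw [hfr]
    omega

end Cfsg.Agent.Lib.Helper29.SLT
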