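import Mathlib
import Cfsg.Agent.Lib.Helper72.SNCDefs

/-! K-SNC-2 (keystone 407302, helper72's converse half of S4073): a non-abelian subgroup whose
normalizer is NNT is self-normalizing. -/

set_option autoImplicit false

namespace Cfsg.Agent.Lib.Helper29.SNC

open Cfsg.Agent.Lib.Helper72.SNC

universe u v

theorem normalizer_eq_of_nnt {G : Type u} [Group G] (H : Subgroup G) (hH : ¬ IsMulCommutative ↥H)
    (h : NNT ↥(Subgroup.normalizer (H : Set G))) : Subgroup.normalizer (H : Set G) = H := by
  have hle : H ≤ Subgroup.normalizer (H : Set G) := Subgroup.le_normalizer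
  have hnc : ¬ IsMulCommutative ↥(H.subgroupOf (Subgroup.normalizer (H : Set G))) := by
    intro hc
    apply hH
    refine ⟨⟨fun a b => ?_⟩⟩
    have := hc.is_comm.comm ((Subgroup.subgroupOfEquivOfLe hle).symm a)
      ((Subgroup.subgroupOfEquivOfLe hle).symm b)
    have h2 := congrArg (Subgroup.subgroupOfEquivOfLe hle) this
    simpa using h2
  have htop := h (H.subgroupOf (Subgroup.normalizer (H : Set G))) Subgroup.normal_in_normalizer hnc
  apply le_antisymm _ hle
  intro x hx
  have hx' : (⟨x, hx⟩ : ↥(Subgroup.normalizer (H : Set G))) ∈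
      H.subgroupOf (Subgroup.normalizer (H : Set G)) := by
    rw [htop]; exact Subgroup.mem_top _
  exact Subgroup.mem_subgroupOf.1 hx'

end Cfsg.Agent.Lib.Helper29.SNC
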