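import Mathlib
import Cfsg.Prelude.Def_JordanBlocks
import Cfsg.Agent.Lib.Helper73.UCDefs
import Cfsg.Agent.Lib.Helper73.SPCDefs
import Cfsg.Agent.Lib.Helper10.SPCC4
import Cfsg.Agent.Lib.Helper29.SPCC5

set_option autoImplicit false

/-!
# K-SPC LEAF C5 (keystone 267614, architect helper73): exact-signature wrapper
`topBlock_mul` = `topBlock_mul_of` fed with leaf C4 (`Helper10.SPC.commute_nilM_entries`).
-/

namespace Cfsg.Agent.Lib.Helper29.SPC

open Matrix Cfsg.Agent.Lib.Helper73.UC Cfsg.Agent.Lib.Helper73.SPC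

variable {F : Type*} [Field F]

/-- LEAF C5 (left/right equivariance of the top blocks; uses C4). -/
theorem topBlock_mul {t : ℕ} (d : Fin t → ℕ) (hd : ∀ k, 1 ≤ d k) (c c' : CIdx d → F)
    (x y : Matrix (JI d) (JI d) F) (hx : x * nilM d F = nilM d F * x)
    (hy : y * nilM d F = nilM d F * y) (h : xᵀ * shankel d c * y = shankel d c') (i : ℕ) :
    topBlock d hd c' i =
      (Matrix.of fun l k : {k : Fin t // d k = i} => x ⟨l.1, ⟨0, hd l.1⟩⟩ ⟨k.1, ⟨0, hd k.1⟩⟩)ᵀ *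
        topBlock d hd c i *
      (Matrix.of fun l k : {k : Fin t // d k = i} => y ⟨l.1, ⟨0, hd l.1⟩⟩ ⟨k.1, ⟨0, hd k.1⟩⟩) :=
  topBlock_mul_of d hd
    (fun x hx l k b a => Cfsg.Agent.Lib.Helper10.SPC.commute_nilM_entries d x hx l k b a)
    c c' x y hx hy h i

end Cfsg.Agent.Lib.Helper29.SPC
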