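import Mathlib
import Cfsg.Prelude.Def_GeometricClasses
import Cfsg.Agent.Lib.Helper87.SU3Defs
import Cfsg.Agent.Lib.Helper99.Extra27U

/-!
# Keystone 577821 K-SU3-NF1 (`exists_conj_stdFrame`) for helper87's S5778 pack.
-/

set_option autoImplicit false

namespace Cfsg.Agent.Lib.Helper29.SU3K

open Cfsg Cfsg.Geo Matrix Cfsg.Agent.Lib.Helper87.SU3

section conj

variable {F : Type*} [Field F] {ι : Type} [Fintype ι] [DecidableEq ι]

/-- transporting a family of subspaces by `g` conjugates the stabiliser -/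
theorem decompositionStabilizer_map_eq {t : ℕ} (g : GL ι F) (E D : Fin t → Submodule F (ι → F))
    (h : ∀ i, D i = (E i).map (Matrix.toLin' (g : Matrix ι ι F))) :
    decompositionStabilizer D = (decompositionStabilizer E).map (MulAut.conj g).toMonoidHom := by
  have hinv : ∀ i, (D i).map (Matrix.toLin' ((g⁻¹ : GL ι F) : Matrix ι ι F)) = E i := by
    intro i
    rw [h i, ← Submodule.map_comp, ← Matrix.toLin'_mul, ← Units.val_mul, inv_mul_cancel,
      Units.val_one, Matrix.toLin'_one, Submodule.map_id]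
  ext x
  constructor
  · rintro ⟨σ, hσ⟩
    refine ⟨g⁻¹ * x * g, ⟨σ, fun i => ?_⟩, ?_⟩
    · rw [Units.val_mul, Units.val_mul, Matrix.toLin'_mul, Matrix.toLin'_mul, Submodule.map_comp,
        Submodule.map_comp, ← h i, hσ i, hinv]
    · show g * (g⁻¹ * x * g) * g⁻¹ = x
      group
  · rintro ⟨k, ⟨σ, hσ⟩, rfl⟩
    refine ⟨σ, fun i => ?_⟩
    show (D i).map (Matrix.toLin' ((g * k * g⁻¹ : GL ι F) : Matrix ι ι F)) = D (σ i)
    rw [Units.val_mul, Units.val_mul, Matrix.toLin'_mul, Matrix.toLin'_mul, Submodule.map_comp,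
      Submodule.map_comp, hinv i, hσ i, ← h]

end conj

variable {F : Type*} [Field F] [Fintype F]

open Cfsg.Agent.Lib.Helper08 (hform hform_smul_left hform_smul_right IsIsoMat)
open Cfsg.Agent.Lib.Helper99.Cubic3 (colMat colMat_mulVec)

omit [Fintype F] in
theorem hermForm_eq_hform (q : ℕ) (u v : Fin 3 → F) : hermForm 3 F q u v = hform (Fin 3) F q u v := rfl

/-- 577821 K-SU3-NF1. -/
theorem exists_conj_stdFrame (q : ℕ) (hF : Fintype.card F = q ^ 2) (D : Fin 3 → Submodule F (Fin 3 → F))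
    (hD : IsNondegenerateMDecomposition (hermForm 3 F q) 1 D) :
    ∃ g ∈ GU 3 F q, decompositionStabilizer D =
      (decompositionStabilizer (stdFrame F)).map (MulAut.conj g).toMonoidHom := by
  -- generators
  have hgen : ∀ i, ∃ u : Fin 3 → F, u ≠ 0 ∧ u ∈ D i ∧ (∀ w ∈ D i, ∃ c : F, c • u = w) := by
    intro i
    obtain ⟨v, hv0, hv⟩ := finrank_eq_one_iff'.mp (hD.decomp.finrank_eq i)
    refine ⟨(v : Fin 3 → F), ?_, v.2, ?_⟩
    · intro h
      apply hv0
      exact Subtype.ext h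
    · intro w hw
      obtain ⟨c, hc⟩ := hv ⟨w, hw⟩
      exact ⟨c, congrArg Subtype.val hc⟩
  choose u hu0 huD hu using hgen
  -- non-isotropic
  have hnon : ∀ i, hform (Fin 3) F q (u i) (u i) ≠ 0 := by
    intro i h0
    obtain ⟨⟨x, hx, hxu⟩, -⟩ := hD.nondegenerate i (u i) (huD i) (hu0 i)
    obtain ⟨c, rfl⟩ := hu i x hx
    apply hxu
    rw [hermForm_eq_hform, hform_smul_left, h0, mul_zero]
  have hnorm : ∀ i, ∃ t : F, t ≠ 0 ∧ hform (Fin 3) F q (t • u i) (t • u i) = 1 := fun i =>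
    Cfsg.Agent.Lib.Helper99.Extra27U.exists_normalize hF (hnon i)
  choose t ht0 ht using hnorm
  have horth : ∀ i j, i ≠ j → hform (Fin 3) F q (t i • u i) (t j • u j) = 0 := by
    intro i j hij
    exact hD.orthogonal i j hij _ ((D i).smul_mem _ (huD i)) _ ((D j).smul_mem _ (huD j))
  have hiso : IsIsoMat q (colMat (t 0 • u 0) (t 1 • u 1) (t 2 • u 2)) :=
    Cfsg.Agent.Lib.Helper99.Extra27U.isIso_of_cols hF (ht 0) (ht 1) (ht 2)
      (horth 0 1 (by decide)) (horth 0 2 (by decide)) (horth 1 2 (by decide))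
  set M := colMat (t 0 • u 0) (t 1 • u 1) (t 2 • u 2) with hM
  have hunit : IsUnit M := hiso.isUnit hF
  refine ⟨hunit.unit, ?_, ?_⟩
  · rw [Cfsg.Agent.Lib.Helper08.GU_eq_GUi, Cfsg.Agent.Lib.Helper08.mem_GUi_iff]
    exact hiso
  · apply decompositionStabilizer_map_eq
    intro i
    have hcol : M *ᵥ (Pi.single i (1 : F)) = t i • u i := by
      rw [hM, colMat_mulVec]
      fin_cases i <;> simp
    show D i = (Submodule.span F {Pi.single i (1 : F)}).map (Matrix.toLin' (hunit.unit : Matrix _ _ F))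
    rw [Submodule.map_span, Set.image_singleton, IsUnit.unit_spec, Matrix.toLin'_apply, hcol]
    apply le_antisymm
    · intro w hw
      obtain ⟨c, rfl⟩ := hu i w hw
      rw [Submodule.mem_span_singleton]
      refine ⟨c * (t i)⁻¹, ?_⟩
      rw [smul_smul, mul_assoc, inv_mul_cancel₀ (ht0 i), mul_one]
    · rw [Submodule.span_singleton_le_iff_mem]
      exact (D i).smul_mem _ (huD i)

end Cfsg.Agent.Lib.Helper29.SU3K
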