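import Mathlib
import Cfsg.Prelude.Def_GeometricClasses
import Cfsg.Agent.Lib.Helper61.AschDefs
import Cfsg.Agent.Lib.Helper43.SpAschDefs
import Cfsg.Agent.Lib.Helper43.SpAschDefs2

/-!
# K-SpAsch-T2 (keystone 566232): transport of the `dec` and `tsPair` constructors of `SGeom`
along a bijection `e : ι ≃ κ` of index types.
-/

set_option autoImplicit false
set_option linter.unusedSectionVars false

namespace Cfsg.Agent.Lib.Helper29.SpAsch

open Cfsg Cfsg.Geo Cfsg.Agent.Lib.Helper61.Asch Cfsg.Agent.Lib.Helper43.SpAsch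
open scoped Matrix Kronecker MatrixGroups

variable {ι κ : Type} [Fintype ι] [DecidableEq ι] [Fintype κ] [DecidableEq κ] {F : Type*} [Field F]

/-- The transport map on vectors, `w ↦ w ∘ e`. -/
abbrev vecMap (e : ι ≃ κ) : (κ → F) ≃ₗ[F] (ι → F) := LinearEquiv.funCongrLeft F F e

theorem vecMap_apply (e : ι ≃ κ) (w : κ → F) : vecMap (F := F) e w = w ∘ e := rfl

theorem formMap_eq (e : ι ≃ κ) (f : (ι → F) → (ι → F) → F) (u v : κ → F) :
    formMap e f u v = f (vecMap e u) (vecMap e v) := rfl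

theorem vecMap_mulVec (e : ι ≃ κ) (g : GL ι F) (v : κ → F) :
    vecMap e (((glMap e g : GL κ F) : Matrix κ κ F) *ᵥ v) = (g : Matrix ι ι F) *ᵥ (vecMap e v) := by
  rw [glMap_mulVec, vecMap_apply, vecMap_apply]
  funext i
  simp

theorem toLin_comp_vecMap (e : ι ≃ κ) (g : GL ι F) :
    (Matrix.toLin' (g : Matrix ι ι F)).comp (vecMap (F := F) e).toLinearMap =
      (vecMap (F := F) e).toLinearMap.comp (Matrix.toLin' ((glMap e g : GL κ F) : Matrix κ κ F)) := by
  apply LinearMap.ext
  intro v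
  simp only [LinearMap.comp_apply, LinearEquiv.coe_coe, Matrix.toLin'_apply]
  exact (vecMap_mulVec e g v).symm

/-- Transport of a subspace. -/
abbrev subMap (e : ι ≃ κ) (W : Submodule F (κ → F)) : Submodule F (ι → F) :=
  W.map (vecMap (F := F) e).toLinearMap

theorem mem_subMap (e : ι ≃ κ) (W : Submodule F (κ → F)) (w : ι → F) :
    w ∈ subMap e W ↔ ∃ w₀ ∈ W, vecMap e w₀ = w := by
  rw [subMap, Submodule.mem_map]
  rfl

theorem subMap_map_toLin (e : ι ≃ κ) (g : GL ι F) (W : Submodule F (κ → F)) :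
    (subMap e W).map (Matrix.toLin' (g : Matrix ι ι F)) =
      subMap e (W.map (Matrix.toLin' ((glMap e g : GL κ F) : Matrix κ κ F))) := by
  rw [subMap, subMap, ← Submodule.map_comp, ← Submodule.map_comp, toLin_comp_vecMap]

theorem isMDecomposition_subMap (e : ι ≃ κ) {t k : ℕ} {D : Fin t → Submodule F (κ → F)}
    (hD : IsMDecomposition k D) : IsMDecomposition k (fun i => subMap e (D i)) where
  two_le := hD.two_le
  pos := hD.pos
  finrank_eq i := by
    rw [← hD.finrank_eq i]
    exact LinearEquiv.finrank_map_eq (vecMap (F := F) e) (D i)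
  indep := by
    have h := (iSupIndep_map_orderIso_iff (Submodule.orderIsoMapComap (vecMap (F := F) e))
      (a := D)).mpr hD.indep
    exact h
  iSup_eq_top := by
    have h : (⨆ i, subMap e (D i)) = (⨆ i, D i).map (vecMap (F := F) e).toLinearMap := by
      rw [Submodule.map_iSup]
    rw [h, hD.iSup_eq_top, Submodule.map_top, LinearMap.range_eq_top]
    exact (vecMap (F := F) e).surjective

theorem isTotallySingularFor_subMap (e : ι ≃ κ) (f : (ι → F) → (ι → F) → F) {W : Submodule F (κ → F)}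
    (h : IsTotallySingularFor (formMap e f) W) : IsTotallySingularFor f (subMap e W) := by
  intro u hu v hv
  obtain ⟨u₀, hu₀, rfl⟩ := (mem_subMap e W u).mp hu
  obtain ⟨v₀, hv₀, rfl⟩ := (mem_subMap e W v).mp hv
  exact h u₀ hu₀ v₀ hv₀

theorem isNondegenerateOn_subMap (e : ι ≃ κ) (f : (ι → F) → (ι → F) → F) {W : Submodule F (κ → F)}
    (h : IsNondegenerateOn (formMap e f) W) : IsNondegenerateOn f (subMap e W) := by
  intro w hw hw0
  obtain ⟨w₀, hw₀, rfl⟩ := (mem_subMap e W w).mp hw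
  have hw₀0 : w₀ ≠ 0 := by
    rintro rfl
    exact hw0 (map_zero _)
  obtain ⟨⟨x, hx, hx1⟩, ⟨y, hy, hy1⟩⟩ := h w₀ hw₀ hw₀0
  exact ⟨⟨vecMap e x, (mem_subMap e W _).mpr ⟨x, hx, rfl⟩, hx1⟩,
    ⟨vecMap e y, (mem_subMap e W _).mpr ⟨y, hy, rfl⟩, hy1⟩⟩

theorem areOrthogonalFor_subMap (e : ι ≃ κ) (f : (ι → F) → (ι → F) → F) {W W' : Submodule F (κ → F)}
    (h : AreOrthogonalFor (formMap e f) W W') : AreOrthogonalFor f (subMap e W) (subMap e W') := by
  intro u hu v hv
  obtain ⟨u₀, hu₀, rfl⟩ := (mem_subMap e W u).mp hu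
  obtain ⟨v₀, hv₀, rfl⟩ := (mem_subMap e W' v).mp hv
  exact h u₀ hu₀ v₀ hv₀

theorem le_decompositionStabilizer_subMap (e : ι ≃ κ) (K : Subgroup (GL ι F)) {t : ℕ}
    (D : Fin t → Submodule F (κ → F))
    (hK : K.map (glMap e).toMonoidHom ≤ decompositionStabilizer D) :
    K ≤ decompositionStabilizer (fun i => subMap e (D i)) := by
  intro g hg
  obtain ⟨σ, hσ⟩ := hK (Subgroup.mem_map_of_mem (glMap e).toMonoidHom hg)
  refine ⟨σ, fun i => ?_⟩
  have h := hσ i
  simp only [MulEquiv.toMonoidHom_eq_coe, MonoidHom.coe_coe] at h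
  show (subMap e (D i)).map (Matrix.toLin' (g : Matrix ι ι F)) = subMap e (D (σ i))
  rw [subMap_map_toLin, h]

variable [Fintype F]

/-- **K-SpAsch-T2**, `dec`. -/
theorem sgeom_transport_dec (e : ι ≃ κ) (f : (ι → F) → (ι → F) → F) (K : Subgroup (GL ι F))
    {t : ℕ} (k : ℕ) (D : Fin t → Submodule F (κ → F)) (hD : IsNondegenerateMDecomposition (formMap e f) k D)
    (hK : K.map (glMap e).toMonoidHom ≤ decompositionStabilizer D) : SGeom f K := by
  refine SGeom.dec k (fun i => subMap e (D i)) ⟨isMDecomposition_subMap e hD.decomp, ?_, ?_⟩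
    (le_decompositionStabilizer_subMap e K D hK)
  · intro i
    exact isNondegenerateOn_subMap e f (hD.nondegenerate i)
  · intro i j hij
    exact areOrthogonalFor_subMap e f (hD.orthogonal i j hij)

/-- **K-SpAsch-T2**, `tsPair`. -/
theorem sgeom_transport_tsPair (e : ι ≃ κ) (f : (ι → F) → (ι → F) → F) (K : Subgroup (GL ι F))
    (hq : Odd (Fintype.card F)) (k : ℕ) (hk : 2 * k = Fintype.card κ)
    (D : Fin 2 → Submodule F (κ → F)) (hD : IsMDecomposition k D)
    (hts : ∀ i, IsTotallySingularFor (formMap e f) (D i))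
    (hK : K.map (glMap e).toMonoidHom ≤ decompositionStabilizer D) : SGeom f K := by
  refine SGeom.tsPair hq k ?_ (fun i => subMap e (D i)) (isMDecomposition_subMap e hD) ?_
    (le_decompositionStabilizer_subMap e K D hK)
  · rw [hk]
    exact (Fintype.card_congr e).symm
  · intro i
    exact isTotallySingularFor_subMap e f (hts i)

end Cfsg.Agent.Lib.Helper29.SpAsch
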