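import Mathlib
import Cfsg.Agent.Lib.Helper69.StNDefs

/-!
# K-StN-E4 (240115): `φ` is injective on the upper unipotent subgroup `Upos X`

Filtration of the positive roots `(i, j)`, `i < j`, by the column-major key
`key i j = j * n + (n - 1 - i)`; `VV X c` is generated by the root elements of key `≥ c`.
Each `VV X c` is normalized by every positive root element, `VV X c = X_β(K) * VV X (c+1)` for the
root `β` of key `c`, and the `β`-entry of `φ (X_β t * g')`, `g' ∈ VV X (c+1)`, is `t`.
-/

set_option autoImplicit false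
set_option linter.unusedSectionVars false

namespace Cfsg.Agent.Lib.Helper29.StN

open Cfsg.Agent.Lib.Helper69.StN Matrix

variable {n : ℕ} {K : Type*} [Field K] {S : Type*} [Group S] {X : Fin n → Fin n → K → S}

/-- the column-major key of a position. -/
def key (i j : Fin n) : ℕ := j.val * n + (n - 1 - i.val)

theorem key_lt_of_col_lt (i a : Fin n) {j b : Fin n} (h : j < b) : key i j < key a b := by
  unfold key
  have h1 : j.val + 1 ≤ b.val := h
  have h2 : (j.val + 1) * n ≤ b.val * n := Nat.mul_le_mul_right n h1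
  have hi := i.2
  have h3 : (j.val + 1) * n = j.val * n + n := by ring
  omega

theorem key_lt_of_row_lt {i a : Fin n} (b : Fin n) (h : i < a) : key a b < key i b := by
  unfold key
  have h1 : i.val < a.val := h
  have ha := a.2
  omega

theorem key_ne {i j a b : Fin n} (h : ¬ (i = a ∧ j = b)) : key i j ≠ key a b := by
  intro he
  by_cases hj : j = b
  · subst hj
    have hia : i ≠ a := fun e => h ⟨e, rfl⟩
    rcases lt_or_gt_of_ne hia with h1 | h1
    · exact absurd he (key_lt_of_row_lt j h1).ne'
    · exact absurd he (key_lt_of_row_lt j h1).ne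
  · rcases lt_or_gt_of_ne hj with h1 | h1
    · exact absurd he (key_lt_of_col_lt i a h1).ne
    · exact absurd he (key_lt_of_col_lt a i h1).ne'

/-- the subgroup generated by the positive root elements of key at least `c`. -/
def VV (X : Fin n → Fin n → K → S) (c : ℕ) : Subgroup S :=
  Subgroup.closure {g | ∃ i j t, i < j ∧ c ≤ key i j ∧ g = X i j t}

theorem X_mem_VV (X : Fin n → Fin n → K → S) {c : ℕ} {i j : Fin n} (hij : i < j)
    (hc : c ≤ key i j) (t : K) : X i j t ∈ VV X c :=
  Subgroup.subset_closure ⟨i, j, t, hij, hc, rfl⟩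

theorem VV_zero (X : Fin n → Fin n → K → S) : VV X 0 = Upos X := by
  unfold VV Upos
  congr 1
  ext g
  constructor
  · rintro ⟨i, j, t, hij, -, rfl⟩
    exact ⟨i, j, t, hij, rfl⟩
  · rintro ⟨i, j, t, hij, rfl⟩
    exact ⟨i, j, t, hij, Nat.zero_le _, rfl⟩

theorem VV_large (X : Fin n → Fin n → K → S) : VV X (n * n) = ⊥ := by
  unfold VV
  rw [Subgroup.closure_eq_bot_iff]
  rintro g ⟨i, j, t, hij, hc, rfl⟩
  exfalso
  unfold key at hc
  have hj : j.val + 1 ≤ n := j.2
  have h2 : (j.val + 1) * n ≤ n * n := Nat.mul_le_mul_right n hj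
  have h3 : (j.val + 1) * n = j.val * n + n := by ring
  have hi := i.2
  omega

/-- conjugation formula for two positive root elements: the result stays in `VV X c`. -/
theorem conj_gen_mem (hX : IsSt X) {c : ℕ} {a b : Fin n} (hab : a < b) (t : K)
    {i j : Fin n} (hij : i < j) (hc : c ≤ key i j) (u : K) :
    X a b t * X i j u * (X a b t)⁻¹ ∈ VV X c := by
  by_cases hbi : b = i
  · subst hbi
    -- a < b < j
    have haj : a < j := lt_trans hab hij
    have h3 := hX.comm3 a b j hab.ne hij.ne haj.ne t u
    have e : X a b t * X b j u * (X a b t)⁻¹ = X a j (t * u) * X b j u := by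
      rw [← h3]; group
    rw [e]
    refine (VV X c).mul_mem (X_mem_VV X haj ?_ _) (X_mem_VV X hij hc _)
    exact hc.trans (key_lt_of_row_lt j hab).le
  · by_cases haj : a = j
    · subst haj
      -- i < a < b
      have hib : i < b := lt_trans hij hab
      have h3 := hX.comm3 i a b hij.ne hab.ne hib.ne u t
      have e : X a b t * X i a u * (X a b t)⁻¹ = (X i b (u * t))⁻¹ * X i a u := by
        rw [← h3]; group
      rw [e]
      refine (VV X c).mul_mem ((VV X c).inv_mem (X_mem_VV X hib ?_ _)) (X_mem_VV X hij hc _)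
      exact hc.trans (key_lt_of_col_lt i i hab).le
    · have h := hX.comm a b i j hab.ne hij.ne haj hbi t u
      have e : X a b t * X i j u * (X a b t)⁻¹ = X i j u := by
        rw [h]; group
      rw [e]
      exact X_mem_VV X hij hc _

/-- `VV X c` is normalized by the positive root elements. -/
theorem conj_mem_VV (hX : IsSt X) (c : ℕ) {a b : Fin n} (hab : a < b) (t : K) :
    ∀ g ∈ VV X c, X a b t * g * (X a b t)⁻¹ ∈ VV X c := by
  intro g hg
  unfold VV at hg
  induction hg using Subgroup.closure_induction with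
  | mem x hx =>
    obtain ⟨i, j, u, hij, hc, rfl⟩ := hx
    exact conj_gen_mem hX hab t hij hc u
  | one => simp
  | mul x y _ _ hx hy =>
    have e : X a b t * (x * y) * (X a b t)⁻¹ =
        (X a b t * x * (X a b t)⁻¹) * (X a b t * y * (X a b t)⁻¹) := by group
    rw [e]; exact (VV X c).mul_mem hx hy
  | inv x _ hx =>
    have e : X a b t * x⁻¹ * (X a b t)⁻¹ = (X a b t * x * (X a b t)⁻¹)⁻¹ := by group
    rw [e]; exact (VV X c).inv_mem hx

/-- the decomposition `VV X c = X_β(K) * VV X (c + 1)` for the root `β = (a, b)` of key `c`. -/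
theorem VV_decomp (hX : IsSt X) {a b : Fin n} (hab : a < b) :
    ∀ g ∈ VV X (key a b), ∃ t : K, ∃ g' ∈ VV X (key a b + 1), g = X a b t * g' := by
  intro g hg
  unfold VV at hg
  have key_step : ∀ (i j : Fin n) (u : K), i < j → key a b ≤ key i j →
      ∀ y : S, (∃ t : K, ∃ g' ∈ VV X (key a b + 1), y = X a b t * g') →
      ∃ t : K, ∃ g' ∈ VV X (key a b + 1), X i j u * y = X a b t * g' := by
    intro i j u hij hc y ⟨t, g', hg', hy⟩
    by_cases hβ : i = a ∧ j = b
    · obtain ⟨rfl, rfl⟩ := hβ
      refine ⟨u + t, g', hg', ?_⟩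
      rw [hy, ← mul_assoc, hX.add i j hab.ne]
    · have hc' : key a b + 1 ≤ key i j := by
        have := key_ne hβ
        omega
      refine ⟨t, (X a b (-t) * X i j u * (X a b (-t))⁻¹) * g', ?_, ?_⟩
      · exact (VV X _).mul_mem (conj_gen_mem hX hab (-t) hij hc' u) hg'
      · rw [hy, hX.inv hab.ne, neg_neg]
        have h1 : X a b t * X a b (-t) = 1 := by
          rw [hX.add a b hab.ne, add_neg_cancel, hX.zero hab.ne]
        calc X i j u * (X a b t * g')
            = (X a b t * X a b (-t)) * X i j u * (X a b t * g') := by rw [h1, one_mul]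
          _ = X a b t * (X a b (-t) * X i j u * X a b t * g') := by group
  induction hg using Subgroup.closure_induction_left with
  | one =>
    exact ⟨0, 1, one_mem _, by rw [hX.zero hab.ne, one_mul]⟩
  | mul_left x hx y _ ih =>
    obtain ⟨i, j, u, hij, hc, rfl⟩ := hx
    exact key_step i j u hij hc y ih
  | inv_mul_cancel x hx y _ ih =>
    obtain ⟨i, j, u, hij, hc, rfl⟩ := hx
    rw [hX.inv hij.ne]
    exact key_step i j (-u) hij hc y ih

/-- the shape of `φ g` for `g ∈ VV X c`. -/
theorem phi_VV_shape (hX : IsSt X) {φ : S →* SpecialLinearGroup (Fin n) K} (hφ : IsPhi X φ)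
    (c : ℕ) :
    ∀ g ∈ VV X c, (∀ p q : Fin n, q < p → (φ g : Matrix (Fin n) (Fin n) K) p q = 0) ∧ (∀ p : Fin n, (φ g : Matrix (Fin n) (Fin n) K) p p = 1) ∧
      (∀ p q : Fin n, p < q → key p q < c → (φ g : Matrix (Fin n) (Fin n) K) p q = 0) := by
  intro g hg
  unfold VV at hg
  have step : ∀ (i j : Fin n) (u : K), i < j → c ≤ key i j → ∀ y : S,
      ((∀ p q : Fin n, q < p → (φ y : Matrix (Fin n) (Fin n) K) p q = 0) ∧ (∀ p : Fin n, (φ y : Matrix (Fin n) (Fin n) K) p p = 1) ∧
        (∀ p q : Fin n, p < q → key p q < c → (φ y : Matrix (Fin n) (Fin n) K) p q = 0)) →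
      ((∀ p q : Fin n, q < p → (φ (X i j u * y) : Matrix (Fin n) (Fin n) K) p q = 0) ∧
        (∀ p : Fin n, (φ (X i j u * y) : Matrix (Fin n) (Fin n) K) p p = 1) ∧
        (∀ p q : Fin n, p < q → key p q < c → (φ (X i j u * y) : Matrix (Fin n) (Fin n) K) p q = 0)) := by
    intro i j u hij hc y ⟨h1, h2, h3⟩
    have hm : (φ (X i j u * y) : Matrix (Fin n) (Fin n) K) =
        Matrix.transvection i j u * (φ y : Matrix (Fin n) (Fin n) K) := by
      rw [map_mul, hφ i j hij.ne u]; rfl
    rw [hm]
    refine ⟨?_, ?_, ?_⟩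
    · intro p q hqp
      by_cases hp : p = i
      · subst hp
        rw [Matrix.transvection_mul_apply_same, h1 p q hqp, h1 j q (lt_trans hqp hij), mul_zero,
          add_zero]
      · rw [Matrix.transvection_mul_apply_of_ne i j p q hp, h1 p q hqp]
    · intro p
      by_cases hp : p = i
      · subst hp
        rw [Matrix.transvection_mul_apply_same, h2 p, h1 j p hij, mul_zero, add_zero]
      · rw [Matrix.transvection_mul_apply_of_ne i j p p hp, h2 p]
    · intro p q hpq hk
      by_cases hp : p = i
      · subst hp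
        rw [Matrix.transvection_mul_apply_same, h3 p q hpq hk]
        have hjq : (φ y : Matrix (Fin n) (Fin n) K) j q = 0 := by
          rcases lt_trichotomy j q with hlt | heq | hgt
          · exact h3 j q hlt ((key_lt_of_row_lt q hij).trans hk)
          · subst heq
            omega
          · exact h1 j q hgt
        rw [hjq, mul_zero, add_zero]
      · rw [Matrix.transvection_mul_apply_of_ne i j p q hp, h3 p q hpq hk]
  induction hg using Subgroup.closure_induction_left with
  | one =>
    rw [map_one]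
    refine ⟨fun p q hqp => ?_, fun p => ?_, fun p q hpq _ => ?_⟩
    · exact Matrix.one_apply_ne hqp.ne'
    · exact Matrix.one_apply_eq p
    · exact Matrix.one_apply_ne hpq.ne
  | mul_left x hx y _ ih =>
    obtain ⟨i, j, u, hij, hc, rfl⟩ := hx
    exact step i j u hij hc y ih
  | inv_mul_cancel x hx y _ ih =>
    obtain ⟨i, j, u, hij, hc, rfl⟩ := hx
    rw [hX.inv hij.ne]
    exact step i j (-u) hij hc y ih

/-- one step of the filtration. -/
theorem VV_step (hX : IsSt X) {φ : S →* SpecialLinearGroup (Fin n) K} (hφ : IsPhi X φ) (c : ℕ) :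
    ∀ g ∈ VV X c, φ g = 1 → g ∈ VV X (c + 1) := by
  intro g hg hg1
  by_cases hβ : ∃ a b : Fin n, a < b ∧ key a b = c
  · obtain ⟨a, b, hab, rfl⟩ := hβ
    obtain ⟨t, g', hg', rfl⟩ := VV_decomp hX hab g hg
    obtain ⟨h1, h2, h3⟩ := phi_VV_shape hX hφ (key a b + 1) g' hg'
    have hm : (φ (X a b t * g') : Matrix (Fin n) (Fin n) K) =
        Matrix.transvection a b t * (φ g' : Matrix (Fin n) (Fin n) K) := by
      rw [map_mul, hφ a b hab.ne t]; rfl
    have he : (φ (X a b t * g') : Matrix (Fin n) (Fin n) K) a b = 0 := by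
      rw [hg1]
      exact Matrix.one_apply_ne hab.ne
    rw [hm, Matrix.transvection_mul_apply_same, h3 a b hab (Nat.lt_succ_self _), h2 b, zero_add,
      mul_one] at he
    rw [he, hX.zero hab.ne, one_mul]
    exact hg'
  · push Not at hβ
    have hle : VV X c ≤ VV X (c + 1) := by
      unfold VV
      apply Subgroup.closure_mono
      rintro x ⟨i, j, u, hij, hc, rfl⟩
      refine ⟨i, j, u, hij, ?_, rfl⟩
      have := hβ i j hij
      omega
    exact hle hg

/-- K-StN-E4 -/
theorem Upos_inj (hX : IsSt X) {φ : S →* SpecialLinearGroup (Fin n) K} (hφ : IsPhi X φ) :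
    ∀ g ∈ Upos X, φ g = 1 → g = 1 := by
  intro g hg hg1
  have hall : ∀ c : ℕ, g ∈ VV X c := by
    intro c
    induction c with
    | zero => rw [VV_zero]; exact hg
    | succ c ih => exact VV_step hX hφ c g ih hg1
  have := hall (n * n)
  rw [VV_large, Subgroup.mem_bot] at this
  exact this

end Cfsg.Agent.Lib.Helper29.StN
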