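import Mathlib
import Cfsg.Agent.Lib.Helper69.StNDefs

/-!
# K-StN-G1 (240117): the rank one exchange step of the Bruhat decomposition
-/

set_option autoImplicit false
set_option linter.unusedSectionVars false

namespace Cfsg.Agent.Lib.Helper29.StN

open Cfsg.Agent.Lib.Helper69.StN Matrix

variable {n : ℕ} {K : Type*} [Field K] {S : Type*} [Group S] {X : Fin n → Fin n → K → S}

/-- pushing a root element through a monomial element. -/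
theorem push_through {m : S} {σ : Equiv.Perm (Fin n)} {d : Fin n → K} (hA : Acts X m σ d)
    {p q : Fin n} (hpq : p ≠ q) (s : K) :
    ∃ s' : K, X p q s * m = m * X (σ⁻¹ p) (σ⁻¹ q) s' := by
  have h := (hA.inv).2 p q hpq s
  refine ⟨(fun k => (d (σ⁻¹ k))⁻¹) p * s * ((fun k => (d (σ⁻¹ k))⁻¹) q)⁻¹, ?_⟩
  rw [← h]
  group

/-- the case `c = 0`. -/
theorem bruhat_step_zero (hX : IsSt X) (hN : HasActsN X) {a b : Fin n} (hab : a < b)
    {m : S} (hm : m ∈ Nmon X) (s : K) :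
    ∃ u ∈ Upos X, ∃ m' ∈ Nmon X, ∃ u' ∈ Upos X, X b a s * m = u * m' * u' := by
  obtain ⟨σ, d, hA⟩ := hN m hm
  have hne : σ⁻¹ a ≠ σ⁻¹ b := fun e => hab.ne (σ⁻¹.injective e)
  rcases lt_or_gt_of_ne hne with hlt | hgt
  · -- σ⁻¹ a < σ⁻¹ b
    by_cases hs : s = 0
    · subst hs
      refine ⟨1, one_mem _, m, hm, 1, one_mem _, ?_⟩
      rw [hX.zero hab.ne', one_mul, mul_one]
    · obtain ⟨s', hs'⟩ := push_through hA hab.ne s⁻¹
      refine ⟨X a b s⁻¹, X_mem_Upos X hab _, w X a b (-s⁻¹) * m,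
        (Nmon X).mul_mem (w_mem_Nmon X hab.ne (neg_ne_zero.mpr (inv_ne_zero hs))) hm,
        X (σ⁻¹ a) (σ⁻¹ b) s', X_mem_Upos X hlt _, ?_⟩
      rw [hX.neg_root_eq hab.ne s]
      calc X a b s⁻¹ * w X a b (-s⁻¹) * X a b s⁻¹ * m
          = X a b s⁻¹ * w X a b (-s⁻¹) * (X a b s⁻¹ * m) := by group
        _ = X a b s⁻¹ * w X a b (-s⁻¹) * (m * X (σ⁻¹ a) (σ⁻¹ b) s') := by rw [hs']
        _ = X a b s⁻¹ * (w X a b (-s⁻¹) * m) * X (σ⁻¹ a) (σ⁻¹ b) s' := by group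
  · -- σ⁻¹ b < σ⁻¹ a
    obtain ⟨s', hs'⟩ := push_through hA hab.ne' s
    refine ⟨1, one_mem _, m, hm, X (σ⁻¹ b) (σ⁻¹ a) s', X_mem_Upos X hgt _, ?_⟩
    rw [hs', one_mul]

/-- K-StN-G1 -/
theorem bruhat_step (hX : IsSt X) (hN : HasActsN X) {a b : Fin n} (hab : b.val = a.val + 1)
    {m : S} (hm : m ∈ Nmon X) (t c : K) :
    ∃ u ∈ Upos X, ∃ m' ∈ Nmon X, ∃ u' ∈ Upos X, X b a t * X a b c * m = u * m' * u' := by
  have hab' : a < b := by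
    rw [Fin.lt_def]; omega
  obtain ⟨σ, d, hA⟩ := hN m hm
  have hne : σ⁻¹ a ≠ σ⁻¹ b := fun e => hab'.ne (σ⁻¹.injective e)
  rcases lt_or_gt_of_ne hne with hlt | hgt
  · -- σ⁻¹ a < σ⁻¹ b : push `X a b c` through `m`
    obtain ⟨c', hc'⟩ := push_through hA hab'.ne c
    obtain ⟨u, hu, m', hm', u', hu', he⟩ := bruhat_step_zero hX hN hab' hm t
    refine ⟨u, hu, m', hm', u' * X (σ⁻¹ a) (σ⁻¹ b) c',
      (Upos X).mul_mem hu' (X_mem_Upos X hlt _), ?_⟩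
    calc X b a t * X a b c * m = X b a t * (X a b c * m) := by group
      _ = X b a t * (m * X (σ⁻¹ a) (σ⁻¹ b) c') := by rw [hc']
      _ = (X b a t * m) * X (σ⁻¹ a) (σ⁻¹ b) c' := by group
      _ = (u * m' * u') * X (σ⁻¹ a) (σ⁻¹ b) c' := by rw [he]
      _ = u * m' * (u' * X (σ⁻¹ a) (σ⁻¹ b) c') := by group
  · -- σ⁻¹ b < σ⁻¹ a
    by_cases hc : c = 0
    · subst hc
      obtain ⟨u, hu, m', hm', u', hu', he⟩ := bruhat_step_zero hX hN hab' hm t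
      refine ⟨u, hu, m', hm', u', hu', ?_⟩
      rw [hX.zero hab'.ne, mul_one, he]
    · obtain ⟨c', hc'⟩ := push_through hA hab'.ne' c⁻¹
      have hm2 : w X b a (-c⁻¹) * m ∈ Nmon X :=
        (Nmon X).mul_mem (w_mem_Nmon X hab'.ne' (neg_ne_zero.mpr (inv_ne_zero hc))) hm
      obtain ⟨u, hu, m', hm', u', hu', he⟩ := bruhat_step_zero hX hN hab' hm2 (t + c⁻¹)
      refine ⟨u, hu, m', hm', u' * X (σ⁻¹ b) (σ⁻¹ a) c',
        (Upos X).mul_mem hu' (X_mem_Upos X hgt _), ?_⟩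
      rw [hX.neg_root_eq hab'.ne' c]
      calc X b a t * (X b a c⁻¹ * w X b a (-c⁻¹) * X b a c⁻¹) * m
          = (X b a t * X b a c⁻¹) * w X b a (-c⁻¹) * (X b a c⁻¹ * m) := by group
        _ = X b a (t + c⁻¹) * w X b a (-c⁻¹) * (m * X (σ⁻¹ b) (σ⁻¹ a) c') := by
            rw [hX.add b a hab'.ne', hc']
        _ = (X b a (t + c⁻¹) * (w X b a (-c⁻¹) * m)) * X (σ⁻¹ b) (σ⁻¹ a) c' := by group
        _ = (u * m' * u') * X (σ⁻¹ b) (σ⁻¹ a) c' := by rw [he]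
        _ = u * m' * (u' * X (σ⁻¹ b) (σ⁻¹ a) c') := by group

end Cfsg.Agent.Lib.Helper29.StN
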