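import Mathlib
import Cfsg.Agent.Lib.Helper49.StOpDefs

/-!
# K-StOp-R1 (254804): root elements are triangular; value at `0`
(port of helper97's twin `Lib/Helper97/StOR1.lean`)
-/

set_option autoImplicit false
set_option linter.unusedSectionVars false
set_option linter.unusedVariables false

namespace Cfsg.Agent.Lib.Helper29.StOp

open Cfsg Cfsg.Agent.Lib.Helper49.StOp Matrix

variable {m : ℕ} {F : Type*} [Field F]

theorem ofMat_one : ofMat (1 : Matrix (OI m) (OI m) F) = 1 := by
  apply mat_injective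
  rw [mat_ofMat _ ⟨1, mat_one⟩, mat_one]

theorem ofMat_mem_B (M : Matrix (OI m) (OI m) F)
    (hM : ∀ a b, pos m b < pos m a → M a b = 0) : ofMat M ∈ Bsub m F := by
  by_cases h : ∃ g : OG m F, mat g = M
  · rw [mem_Bsub_iff, mat_ofMat M h]
    exact hM
  · unfold ofMat
    rw [dif_neg h]
    exact one_mem _

theorem ofMat_mem_Bminus (M : Matrix (OI m) (OI m) F)
    (hM : ∀ a b, pos m a < pos m b → M a b = 0) : ofMat M ∈ Bminus m F := by
  by_cases h : ∃ g : OG m F, mat g = M
  · rw [mem_Bminus_iff, mat_ofMat M h]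
    exact hM
  · unfold ofMat
    rw [dif_neg h]
    exact one_mem _

theorem xS_mem_B (i j : Fin m) (hij : i < j) (t : F) : xS m F i j t ∈ Bsub m F := by
  apply ofMat_mem_B
  intro a b hab
  have hne : a ≠ b := fun h => by rw [h] at hab; exact lt_irrefl _ hab
  have hij' := Fin.lt_def.1 hij
  have hi := i.2
  have hj := j.2
  have h1 : ¬ (eI i = a ∧ eI j = b) := by
    rintro ⟨rfl, rfl⟩
    simp only [pos] at hab
    omega
  have h2 : ¬ (fI j = a ∧ fI i = b) := by
    rintro ⟨rfl, rfl⟩
    simp only [pos] at hab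
    omega
  unfold xSMat
  rw [Matrix.sub_apply, Matrix.add_apply, Matrix.one_apply_ne hne, Matrix.single_apply,
    Matrix.single_apply, if_neg h1, if_neg h2, add_zero, sub_zero]

theorem xS_mem_Bminus (i j : Fin m) (hij : j < i) (t : F) : xS m F i j t ∈ Bminus m F := by
  apply ofMat_mem_Bminus
  intro a b hab
  have hne : a ≠ b := fun h => by rw [h] at hab; exact lt_irrefl _ hab
  have hij' := Fin.lt_def.1 hij
  have hi := i.2
  have hj := j.2
  have h1 : ¬ (eI i = a ∧ eI j = b) := by
    rintro ⟨rfl, rfl⟩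
    simp only [pos] at hab
    omega
  have h2 : ¬ (fI j = a ∧ fI i = b) := by
    rintro ⟨rfl, rfl⟩
    simp only [pos] at hab
    omega
  unfold xSMat
  rw [Matrix.sub_apply, Matrix.add_apply, Matrix.one_apply_ne hne, Matrix.single_apply,
    Matrix.single_apply, if_neg h1, if_neg h2, add_zero, sub_zero]

theorem xP_mem_B (i j : Fin m) (hij : i ≠ j) (t : F) : xP m F i j t ∈ Bsub m F := by
  apply ofMat_mem_B
  intro a b hab
  have hne : a ≠ b := fun h => by rw [h] at hab; exact lt_irrefl _ hab
  have hi := i.2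
  have hj := j.2
  have h1 : ¬ (eI i = a ∧ fI j = b) := by
    rintro ⟨rfl, rfl⟩
    simp only [pos] at hab
    omega
  have h2 : ¬ (eI j = a ∧ fI i = b) := by
    rintro ⟨rfl, rfl⟩
    simp only [pos] at hab
    omega
  unfold xPMat
  rw [Matrix.sub_apply, Matrix.add_apply, Matrix.one_apply_ne hne, Matrix.single_apply,
    Matrix.single_apply, if_neg h1, if_neg h2, add_zero, sub_zero]

theorem yP_mem_Bminus (i j : Fin m) (hij : i ≠ j) (t : F) : yP m F i j t ∈ Bminus m F := by
  apply ofMat_mem_Bminus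
  intro a b hab
  have hne : a ≠ b := fun h => by rw [h] at hab; exact lt_irrefl _ hab
  have hi := i.2
  have hj := j.2
  have h1 : ¬ (fI j = a ∧ eI i = b) := by
    rintro ⟨rfl, rfl⟩
    simp only [pos] at hab
    omega
  have h2 : ¬ (fI i = a ∧ eI j = b) := by
    rintro ⟨rfl, rfl⟩
    simp only [pos] at hab
    omega
  unfold yPMat
  rw [Matrix.sub_apply, Matrix.add_apply, Matrix.one_apply_ne hne, Matrix.single_apply,
    Matrix.single_apply, if_neg h1, if_neg h2, add_zero, sub_zero]

theorem xS_zero (i j : Fin m) (hij : i ≠ j) : xS m F i j 0 = 1 := by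
  unfold xS xSMat
  rw [Matrix.single_zero, Matrix.single_zero, add_zero, sub_zero]
  exact ofMat_one

theorem xP_zero (i j : Fin m) (hij : i ≠ j) : xP m F i j 0 = 1 := by
  unfold xP xPMat
  rw [Matrix.single_zero, Matrix.single_zero, add_zero, sub_zero]
  exact ofMat_one

end Cfsg.Agent.Lib.Helper29.StOp
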