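import Mathlib
import Cfsg.Prelude.Def_Balance
import Cfsg.Agent.Lib.Helper29.Transitivity

set_option autoImplicit false

namespace Cfsg.Agent.Lib.Helper29

open Cfsg
open scoped Pointwise

section

variable {G : Type*} [Group G]

theorem bot_mem_family (p : ℕ) [hp : Fact p.Prime] (A : Subgroup G) (θ : G → Subgroup G) :
    (⊥ : Subgroup G) ∈ signalizerFamily p A θ := by
  refine ⟨inferInstance, ?_, ?_, ?_⟩
  · rw [Subgroup.card_bot]
    exact hp.out.not_dvd_one
  · intro b _ u hu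
    rw [Subgroup.mem_bot] at hu ⊢
    subst hu
    group
  · intro a _ _
    rw [bot_inf_eq]
    exact bot_le

/-- A `q`-subgroup between a Sylow `q`-subgroup of `H` and `H` equals the Sylow subgroup. -/
theorem eq_of_isSylowIn_le [Finite G] {q : ℕ} [Fact q.Prime] {P T H : Subgroup G}
    (hP : Cfsg.Agent.Lib.Helper01.IsSylowIn q P H) (hPT : P ≤ T) (hTH : T ≤ H)
    (hT : IsPGroup q T) : T = P := by
  have h1 : (hP.toSylow : Subgroup H) ≤ T.subgroupOf H := by
    have : (hP.toSylow : Subgroup H) = P.subgroupOf H := rfl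
    rw [this]
    exact Subgroup.comap_mono hPT
  have h2 : IsPGroup q (T.subgroupOf H) := hT.comap_subtype
  have h3 := hP.toSylow.is_maximal' h2 h1
  have h4 : T.subgroupOf H = P.subgroupOf H := h3
  rw [Subgroup.subgroupOf_inj] at h4
  rwa [inf_of_le_left hTH, inf_of_le_left hP.1] at h4

variable (p : ℕ) (A : Subgroup G) (θ : G → Subgroup G) (q : ℕ)
variable [Finite G] [hp : Fact p.Prime] [hq : Fact q.Prime]

/-- Part (a) of the corollary of the transitivity theorem, in `IsSylowIn` form. -/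
theorem exists_conj_inf_isSylowIn (hA : IsElementaryAbelian p A) (hA3 : p ^ 3 ≤ Nat.card ↥A)
    (hθ : IsSolvableSignalizerFunctor p A θ) (hqp : q ≠ p) (Q : Subgroup G)
    (hQ : IsMaxQ p A θ q Q) (H : Subgroup G) (hH : H ∈ signalizerFamily p A θ) :
    ∃ c ∈ signalizerInf A θ,
      Cfsg.Agent.Lib.Helper01.IsSylowIn q (Q.map (MulAut.conj c).toMonoidHom ⊓ H) H := by
  have hAH : A ≤ Subgroup.normalizer (H : Set G) := le_normalizer_of_conj_mem A H hH.2.2.1
  obtain ⟨P, hP, hAP⟩ := Cfsg.Agent.Lib.Helper01.exists_invariant_isSylowIn q hAH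
    (elemAb_coprime p A hA H hH.2.1) (Or.inl (elemAb_isSolvable p A hA))
  have hPfam : P ∈ signalizerFamily p A θ :=
    family_mono p A θ H P hH hP.1 (conj_mem_of_le_normalizer A P hAP)
  obtain ⟨R, hR, hPR⟩ := exists_isMaxQ_ge p A θ q P hPfam hP.2.1
  obtain ⟨c, hc, e⟩ := transitivity_aux p A θ q hA hA3 hθ hqp
    (Nat.card G - Nat.card ↥(Q ⊓ R) + 1) Q R hQ hR (Nat.lt_succ_self _)
  refine ⟨c, hc, ?_⟩
  rw [e]
  have : R ⊓ H = P :=
    eq_of_isSylowIn_le hP (le_inf hPR hP.1) inf_le_right (hR.2.1.to_le inf_le_left)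
  rw [this]
  exact hP

omit [Finite G] hp in
/-- `θ(C_G(B))` is in the family when `1 ≠ B ≤ A`. -/
theorem signalizerInf_mem_family (hθ : IsSolvableSignalizerFunctor p A θ) (B : Subgroup G)
    (hBA : B ≤ A) (hB : B ≠ ⊥) : signalizerInf B θ ∈ signalizerFamily p A θ := by
  obtain ⟨b, hb1⟩ := (Subgroup.ne_bot_iff_exists_ne_one (H := B)).mp hB
  have hb1' : (b : G) ≠ 1 := fun h => hb1 (Subtype.ext h)
  have hle : signalizerInf B θ ≤ θ b := signalizerInf_le B θ b b.2 hb1'
  have hbfam := theta_mem_family p A θ hθ b (hBA b.2) hb1'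
  refine family_mono p A θ (θ b) _ hbfam hle ?_
  intro a ha x hx
  unfold signalizerInf at hx ⊢
  rw [Subgroup.mem_iInf] at hx ⊢
  rintro ⟨b', hb', hb'1⟩
  exact hθ.1.2.2.1 b' (hBA hb') hb'1 a ha x (hx ⟨b', hb', hb'1⟩)

omit [Finite G] hp in
theorem signalizerInf_anti (B : Subgroup G) (hBA : B ≤ A) :
    signalizerInf A θ ≤ signalizerInf B θ := by
  intro x hx
  unfold signalizerInf at hx ⊢
  rw [Subgroup.mem_iInf] at hx ⊢
  rintro ⟨b', hb', hb'1⟩
  exact hx ⟨b', hBA hb', hb'1⟩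

omit [Finite G] hp in
theorem inf_signalizerInf_eq (hθ : IsSignalizerFunctor p A θ) (Q : Subgroup G)
    (hQ : Q ∈ signalizerFamily p A θ) (B : Subgroup G) (hBA : B ≤ A) :
    Q ⊓ signalizerInf B θ = Q ⊓ Subgroup.centralizer (B : Set G) := by
  ext x
  simp only [Subgroup.mem_inf]
  constructor
  · rintro ⟨hxQ, hx⟩
    refine ⟨hxQ, ?_⟩
    rw [Subgroup.mem_centralizer_iff]
    intro b hb
    by_cases hb1 : b = 1
    · rw [hb1]; simp
    · have h1 : x ∈ θ b := signalizerInf_le B θ b hb hb1 hx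
      have h2 := hθ.1 b (hBA hb) hb1 h1
      rw [Subgroup.mem_centralizer_iff] at h2
      exact h2 b rfl
  · rintro ⟨hxQ, hx⟩
    refine ⟨hxQ, ?_⟩
    unfold signalizerInf
    rw [Subgroup.mem_iInf]
    rintro ⟨b, hb, hb1⟩
    apply hQ.2.2.2 b (hBA hb) hb1
    refine ⟨hxQ, ?_⟩
    show x ∈ Subgroup.centralizer ({b} : Set G)
    rw [Subgroup.mem_centralizer_iff] at hx ⊢
    intro y hy
    rw [Set.mem_singleton_iff] at hy
    subst hy
    exact hx y hb

end

end Cfsg.Agent.Lib.Helper29
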