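import Mathlib

/-!
# Vaughan-Lee breadth theorem (S3777): base definition

`phi p G` is the intersection of all subgroups of index `p` (the Frattini subgroup of a finite
`p`-group).
-/

namespace Cfsg.Agent.Lib.Helper29.VL

/-- the intersection of all subgroups of index `p` -/
def phi (p : ℕ) (G : Type*) [Group G] : Subgroup G := sInf {M : Subgroup G | M.index = p}

theorem phi_le_of_index {G : Type*} [Group G] {p : ℕ} {M : Subgroup G} (hM : M.index = p) :
    phi p G ≤ M := sInf_le hM

end Cfsg.Agent.Lib.Helper29.VL
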