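import Cfsg.Agent.Lib.Helper29.VLBase

namespace Cfsg.Agent.Lib.Helper29.VL

open Subgroup
open scoped commutatorElement

variable {G : Type*} [Group G] [Finite G] {p : ℕ} [hp : Fact p.Prime]

theorem normal_of_index' (hG : IsPGroup p G) {M : Subgroup G} (hM : M.index = p) : M.Normal := by
  obtain ⟨n, hn⟩ := hG.exists_card_eq
  have hn0 : n ≠ 0 := by
    rintro rfl
    have h1 := M.card_mul_index
    rw [hM, hn, pow_zero] at h1
    have := hp.out.one_lt
    have hpos : 0 < Nat.card M := Nat.card_pos
    nlinarith
  apply normal_of_index_eq_minFac_card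
  rw [hM, hn, hp.out.pow_minFac hn0]

omit [Finite G] in
theorem sup_zpowers_eq_top_of_index_prime {M : Subgroup G} (hM : M.index = p) {v : G}
    (hv : v ∉ M) : M ⊔ zpowers v = ⊤ := by
  have h1 : M.relIndex (M ⊔ zpowers v) * (M ⊔ zpowers v).index = p := by
    rw [relIndex_mul_index le_sup_left, hM]
  have h2 : M.relIndex (M ⊔ zpowers v) ≠ 1 := by
    intro h
    have := relIndex_eq_one.mp h
    exact hv (this ((le_sup_right : zpowers v ≤ _) (mem_zpowers v)))
  have h3 : M.relIndex (M ⊔ zpowers v) ∣ p := Dvd.intro _ h1
  rcases (Nat.dvd_prime hp.out).mp h3 with h | h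
  · exact absurd h h2
  · rw [h] at h1
    have : (M ⊔ zpowers v).index = 1 := by
      have hp0 := hp.out.pos
      nlinarith
    exact index_eq_one.mp this

theorem exists_small_subgroup (hG : IsPGroup p G) {M : Subgroup G} (hM : M.index = p)
    (hne : ⁅M, M⁆ ≠ commutator G) :
    ∃ R : Subgroup G, Nat.card R * p ^ 2 ≤ Nat.card G ∧
      ∀ u ∈ M, ∀ v : G, v ∉ M → Commute u v → u ∈ R := by
  have hMn : M.Normal := normal_of_index' hG hM
  set K : Subgroup G := ⁅M, M⁆ with hK
  have hKn : K.Normal := inferInstance
  set π := QuotientGroup.mk' K with hπ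
  have hπs : Function.Surjective π := QuotientGroup.mk'_surjective K
  refine ⟨(center (G ⧸ K)).comap π, ?_, ?_⟩
  · -- the index is at least `p ^ 2`
    set R := (center (G ⧸ K)).comap π with hR
    have hidx : R.index = (center (G ⧸ K)).index := index_comap_of_surjective _ hπs
    obtain ⟨j, hj⟩ := hG.index R
    have hncyc : ¬ IsCyclic ((G ⧸ K) ⧸ center (G ⧸ K)) := by
      intro hc
      have hcomm := commutative_of_cyclic_center_quotient
        (QuotientGroup.mk' (center (G ⧸ K))) (by rw [QuotientGroup.ker_mk'])
      apply hne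
      apply le_antisymm
      · rw [commutator_def]; exact commutator_mono le_top le_top
      · rw [commutator_def, commutator_le]
        intro g _ h _
        have : π ⁅g, h⁆ = 1 := by
          rw [map_commutatorElement, commutatorElement_def, hcomm (π g) (π h)]
          group
        exact (QuotientGroup.eq_one_iff _).mp this
    have hcard : Nat.card ((G ⧸ K) ⧸ center (G ⧸ K)) = p ^ j := by
      rw [← hj, hidx]; rfl
    have hj2 : 2 ≤ j := by
      by_contra hlt
      push Not at hlt
      interval_cases j
      · apply hncyc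
        have : Subsingleton ((G ⧸ K) ⧸ center (G ⧸ K)) := by
          rw [← Finite.card_le_one_iff_subsingleton, hcard]; simp
        exact isCyclic_of_subsingleton
      · apply hncyc
        exact isCyclic_of_prime_card (p := p) (by rw [hcard, pow_one])
    have h1 := R.card_mul_index
    rw [hj] at h1
    calc Nat.card R * p ^ 2 ≤ Nat.card R * p ^ j :=
          Nat.mul_le_mul_left _ (Nat.pow_le_pow_right hp.out.pos hj2)
      _ = Nat.card G := h1
  · intro u hu v hv huv
    rw [mem_comap, mem_center_iff]
    intro q
    obtain ⟨g, rfl⟩ := hπs q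
    have htop : (centralizer ({π u} : Set (G ⧸ K))).comap π = ⊤ := by
      rw [eq_top_iff, ← sup_zpowers_eq_top_of_index_prime hM hv, sup_le_iff]
      constructor
      · intro m hm
        rw [mem_comap, mem_centralizer_singleton_iff]
        have h1 : ⁅m, u⁆ ∈ K := commutator_mem_commutator hm hu
        have h2 : π ⁅m, u⁆ = 1 := (QuotientGroup.eq_one_iff _).mpr h1
        rw [map_commutatorElement, commutatorElement_eq_one_iff_mul_comm] at h2
        exact h2
      · rw [zpowers_le, mem_comap, mem_centralizer_singleton_iff, ← map_mul, ← map_mul,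
          huv.eq]
    have hg : g ∈ (centralizer ({π u} : Set (G ⧸ K))).comap π := by rw [htop]; trivial
    rw [mem_comap, mem_centralizer_singleton_iff] at hg
    exact hg

end Cfsg.Agent.Lib.Helper29.VL
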