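import Cfsg.Agent.Lib.Helper29.VLD1
import Cfsg.Agent.Lib.Helper54.VLReg

/-!
# Vaughan-Lee (S3777): the regular-element lemma in the form used by the assembly
-/

namespace Cfsg.Agent.Lib.Helper29.VL

open Subgroup

variable {G : Type*} [Group G] [Finite G] {p : ℕ} [hp : Fact p.Prime]

omit [Finite G] in
theorem isCoatom_of_index_prime {M : Subgroup G} (hM : M.index = p) : IsCoatom M := by
  constructor
  · intro h
    rw [h, index_top] at hM
    exact hp.out.one_lt.ne hM
  · intro K hK
    obtain ⟨v, hvK, hvM⟩ := Set.exists_of_ssubset hK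
    rw [eq_top_iff, ← sup_zpowers_eq_top_of_index_prime hM hvM]
    exact sup_le hK.le (by rw [zpowers_le]; exact hvK)

omit [Finite G] in
theorem frattini_le_phi : frattini G ≤ phi p G := by
  apply le_sInf
  intro M hM
  exact frattini_le_coatom (isCoatom_of_index_prime hM)

theorem exists_regular_not_mem (hG : IsPGroup p G)
    (hmin : ∀ M : Subgroup G, M.index = p → ⁅M, M⁆ ≠ commutator G)
    {M₀ : Subgroup G} (hM₀ : M₀.index = p) :
    ∃ u : G, u ∉ M₀ ∧ Subgroup.centralizer ({u} : Set G) ≤ Subgroup.zpowers u ⊔ phi p G := by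
  have hmin' : ∀ M : Subgroup G, M.index = p → ⁅M, M⁆ < commutator G := by
    intro M hM
    refine lt_of_le_of_ne ?_ (hmin M hM)
    rw [commutator_def]
    exact commutator_mono le_top le_top
  obtain ⟨u, hu, hreg⟩ := Cfsg.Agent.Lib.Helper54.VLReg.exists_regular_not_mem hG hmin' M₀ hM₀
  exact ⟨u, hu, hreg.trans (sup_le_sup_left frattini_le_phi _)⟩

end Cfsg.Agent.Lib.Helper29.VL
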