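import Cfsg.Agent.Lib.Helper29.VLBase
import Cfsg.Agent.Lib.Helper16.VLA
import Cfsg.Agent.Lib.Helper38.VLQ
import Cfsg.Agent.Lib.Helper38.VLW
import Cfsg.Agent.Lib.Helper29.VLReg

/-!
# Vaughan-Lee's theorem (S3777): a finite `p`-group all of whose class sizes are at most `p ^ b`
has `|G'| ≤ p ^ (b (b + 1) / 2)`.

Assembly.  Leaves: `Helper16.VLA` (basics on `phi`), `Helper38.VLQ` (product lemma), `Helper38.VLW`
(Wiegold chain), `Helper54.VLReg` (regular elements avoid no maximal subgroup).
-/

namespace Cfsg.Agent.Lib.Helper29.VL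

open Subgroup
open Cfsg.Agent.Lib.Helper16.VLA Cfsg.Agent.Lib.Helper38.VLQ Cfsg.Agent.Lib.Helper38.VLW

variable {G : Type*} [Group G] [Finite G] {p : ℕ} [hp : Fact p.Prime]

/-- proper containment of subgroups of a `p`-group: the index drops by a factor `p` -/
theorem index_mul_le_of_lt (hG : IsPGroup p G) {N N' : Subgroup G} (h : N < N') :
    N'.index * p ≤ N.index := by
  have h1 : N.relIndex N' * N'.index = N.index := relIndex_mul_index h.le
  have h2 : N.relIndex N' ≠ 1 := fun h' => h.not_ge (relIndex_eq_one.mp h')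
  obtain ⟨a, ha⟩ := hG.index N
  have h3 : N.relIndex N' ∣ p ^ a := ha ▸ Dvd.intro _ h1
  obtain ⟨c, -, hc⟩ := (Nat.dvd_prime_pow hp.out).mp h3
  have hc0 : c ≠ 0 := by
    rintro rfl
    exact h2 (by simpa using hc)
  have h4 : p ≤ N.relIndex N' := by
    rw [hc]
    calc p = p ^ 1 := (pow_one p).symm
      _ ≤ p ^ c := Nat.pow_le_pow_right hp.out.pos (Nat.one_le_iff_ne_zero.mpr hc0)
  calc N'.index * p ≤ N'.index * N.relIndex N' := Nat.mul_le_mul_left _ h4
    _ = N.index := by rw [mul_comm]; exact h1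

theorem exists_regular_generators (hG : IsPGroup p G)
    (hreg : ∀ M₀ : Subgroup G, M₀.index = p →
      ∃ u : G, u ∉ M₀ ∧ centralizer ({u} : Set G) ≤ zpowers u ⊔ phi p G)
    (k : ℕ) : ∀ (N : Subgroup G), N.index ≤ p ^ k →
    ∃ X : Finset G, X.card ≤ k ∧
      (∀ x ∈ X, centralizer ({x} : Set G) ≤ zpowers x ⊔ phi p G) ∧
      N ⊔ closure (X : Set G) = ⊤ := by
  induction k with
  | zero =>
    intro N hN
    refine ⟨∅, by simp, by simp, ?_⟩
    have h1 : N.index = 1 := by
      have : N.index ≠ 0 := Subgroup.index_ne_zero_of_finite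
      simp at hN; omega
    simp [Subgroup.index_eq_one.mp h1]
  | succ k ih =>
    intro N hN
    by_cases hNt : N = ⊤
    · exact ⟨∅, by simp, by simp, by simp [hNt]⟩
    · obtain ⟨M₀, hM₀, hNM⟩ := exists_index_le_of_ne_top hG hNt
      obtain ⟨u, huM, hureg⟩ := hreg M₀ hM₀
      have huN : u ∉ N := fun h => huM (hNM h)
      have hlt : N < N ⊔ zpowers u := by
        refine lt_of_le_of_ne le_sup_left ?_
        intro h
        apply huN
        rw [h]
        exact (le_sup_right : zpowers u ≤ _) (mem_zpowers u)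
      have h1 := index_mul_le_of_lt hG hlt
      have h2 : (N ⊔ zpowers u).index ≤ p ^ k := by
        have : (N ⊔ zpowers u).index * p ≤ p ^ k * p := by
          rw [← pow_succ]; exact h1.trans hN
        exact Nat.le_of_mul_le_mul_right this hp.out.pos
      obtain ⟨X, hXc, hXr, hXg⟩ := ih _ h2
      classical
      refine ⟨insert u X, (Finset.card_insert_le _ _).trans (by omega), ?_, ?_⟩
      · intro x hx
        rcases Finset.mem_insert.mp hx with rfl | hx
        · exact hureg
        · exact hXr x hx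
      · rw [Finset.coe_insert, Set.insert_eq, Subgroup.closure_union, ← zpowers_eq_closure, ← sup_assoc]
        exact hXg

/-- the key estimate for a regular element -/
theorem relIndex_mul_pow_le (hG : IsPGroup p G) {d b : ℕ} (hd : (phi p G).index = p ^ d)
    {x : G} (hb : (centralizer ({x} : Set G)).index ≤ p ^ b)
    (hx : centralizer ({x} : Set G) ≤ zpowers x ⊔ phi p G) :
    (centralizer ({x} : Set G)).relIndex (phi p G) * p ^ (d - 1) ≤ p ^ b := by
  have hn := phi_normal (p := p) hG
  set C := centralizer ({x} : Set G) with hC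
  set Φ := phi p G with hΦ
  -- `|<x>Φ : Φ| ∣ p`
  have h1 : Φ.relIndex (zpowers x ⊔ Φ) ∣ p := by
    rw [relIndex_sup_right (zpowers x) Φ]
    have hk : (QuotientGroup.mk' Φ).ker = Φ := QuotientGroup.ker_mk' Φ
    have : Φ.relIndex (zpowers x) = Nat.card ((zpowers x).map (QuotientGroup.mk' Φ)) := by
      conv_lhs => rw [← hk]
      exact relIndex_ker (zpowers x) (QuotientGroup.mk' Φ)
    rw [this, MonoidHom.map_zpowers, Nat.card_zpowers]
    apply orderOf_dvd_of_pow_eq_one
    rw [← map_pow]
    exact (QuotientGroup.eq_one_iff _).mpr (pow_mem_phi hG x)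
  have h2 : Φ.relIndex (zpowers x ⊔ Φ) * (zpowers x ⊔ Φ).index = p ^ d := by
    rw [relIndex_mul_index le_sup_right, hd]
  -- `p ^ (d-1) ≤ |G : <x>Φ|`
  have h3 : p ^ (d - 1) ≤ (zpowers x ⊔ Φ).index := by
    rcases Nat.eq_zero_or_pos d with rfl | hdpos
    · simpa using Nat.one_le_iff_ne_zero.mpr (Subgroup.index_ne_zero_of_finite)
    · have hle : Φ.relIndex (zpowers x ⊔ Φ) ≤ p := Nat.le_of_dvd hp.out.pos h1
      have : p ^ (d - 1) * p ≤ (zpowers x ⊔ Φ).index * p := by
        calc p ^ (d - 1) * p = p ^ d := by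
              rw [← pow_succ]; congr 1; omega
          _ = Φ.relIndex (zpowers x ⊔ Φ) * (zpowers x ⊔ Φ).index := h2.symm
          _ ≤ p * (zpowers x ⊔ Φ).index := Nat.mul_le_mul_right _ hle
          _ = (zpowers x ⊔ Φ).index * p := mul_comm _ _
      exact Nat.le_of_mul_le_mul_right this hp.out.pos
  have h4 : (zpowers x ⊔ Φ).index ≤ (C ⊔ Φ).index :=
    index_antitone (sup_le hx le_sup_right)
  have h5 : C.relIndex Φ ≤ C.relIndex (C ⊔ Φ) :=
    relIndex_le_of_le_right le_sup_right
      (Subgroup.index_ne_zero_of_finite : (C.subgroupOf (C ⊔ Φ)).index ≠ 0)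
  have h6 : C.relIndex (C ⊔ Φ) * (C ⊔ Φ).index = C.index := relIndex_mul_index le_sup_left
  calc C.relIndex Φ * p ^ (d - 1) ≤ C.relIndex (C ⊔ Φ) * (C ⊔ Φ).index :=
        Nat.mul_le_mul h5 (h3.trans h4)
    _ = C.index := h6
    _ ≤ p ^ b := hb

theorem exponent_arith (m e : ℕ) :
    e * (m + 1) + (m + 1) * m / 2 ≤ (m + e) * (m + e + 1) / 2 := by
  have key : 2 * (e * (m + 1)) + (m + 1) * m ≤ (m + e) * (m + e + 1) := by
    nlinarith [Nat.le_mul_self e]
  have h : e * (m + 1) + (m + 1) * m / 2 = (2 * (e * (m + 1)) + (m + 1) * m) / 2 := by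
    omega
  rw [h]
  exact Nat.div_le_div_right key

theorem card_commutator_le_of_hmin (hG : IsPGroup p G) (b : ℕ)
    (hb : ∀ x : G, (centralizer ({x} : Set G)).index ≤ p ^ b)
    (hmin : ∀ M : Subgroup G, M.index = p → ⁅M, M⁆ ≠ commutator G) :
    Nat.card (commutator G) ≤ p ^ (b * (b + 1) / 2) := by
  have := phi_normal (p := p) hG
  obtain ⟨d, hd⟩ := hG.index (phi p G)
  obtain ⟨X, hXc, hXr, hXg⟩ := exists_regular_generators hG
    (fun M₀ hM₀ => exists_regular_not_mem hG hmin hM₀) d (phi p G) hd.le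
  have hXtop : closure (X : Set G) = ⊤ := by
    apply eq_top_of_sup_phi_eq_top hG
    rw [sup_comm]; exact hXg
  have hW := card_commutator_le_mul_pow hG (phi p G) (commutator_le_phi hG) d hd.le
  have hQ := card_commutator_top_le_prod hG (phi p G) X hXtop
  have hp1 : 1 ≤ p := hp.out.pos
  rcases Nat.eq_zero_or_pos d with rfl | hdpos
  · -- `X = ∅`
    have hX0 : X = ∅ := Finset.card_eq_zero.mp (Nat.le_zero.mp hXc)
    rw [hX0, Finset.prod_empty] at hQ
    calc Nat.card (commutator G) ≤ _ := hW
      _ ≤ 1 * 1 := by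
        apply Nat.mul_le_mul hQ
        simp
      _ ≤ p ^ (b * (b + 1) / 2) := by simpa using Nat.one_le_pow _ _ hp.out.pos
  · -- a regular element exists, so `d - 1 ≤ b`
    obtain ⟨m, rfl⟩ : ∃ m, d = m + 1 := ⟨d - 1, by omega⟩
    have hne : (⊥ : Subgroup G) ≠ ⊤ := by
      intro h
      have h2 : phi p G = ⊤ := by
        rw [eq_top_iff, ← h]; exact bot_le
      rw [h2, Subgroup.index_top] at hd
      have : 1 < p ^ (m + 1) := Nat.one_lt_pow (by omega) hp.out.one_lt
      omega
    obtain ⟨M₀, hM₀, -⟩ := exists_index_le_of_ne_top (p := p) hG hne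
    obtain ⟨u, -, hureg⟩ := exists_regular_not_mem hG hmin hM₀
    have hu := relIndex_mul_pow_le hG hd (hb u) hureg
    have hmb : m ≤ b := by
      have h1 : 1 ≤ (centralizer ({u} : Set G)).relIndex (phi p G) :=
        Nat.one_le_iff_ne_zero.mpr (Subgroup.index_ne_zero_of_finite :
          ((centralizer ({u} : Set G)).subgroupOf (phi p G)).index ≠ 0)
      have h2 : p ^ (m + 1 - 1) ≤ p ^ b :=
        le_trans (by simpa using Nat.mul_le_mul_right (p ^ (m + 1 - 1)) h1) hu
      simpa using (Nat.pow_le_pow_iff_right hp.out.one_lt).mp h2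
    obtain ⟨e, rfl⟩ : ∃ e, b = m + e := ⟨b - m, by omega⟩
    have hfac : ∀ x ∈ X, (centralizer ({x} : Set G)).relIndex (phi p G) ≤ p ^ e := by
      intro x hx
      have h := relIndex_mul_pow_le hG hd (hb x) (hXr x hx)
      have h' : (centralizer ({x} : Set G)).relIndex (phi p G) * p ^ m ≤ p ^ e * p ^ m := by
        rw [← pow_add, add_comm e m]; simpa using h
      exact Nat.le_of_mul_le_mul_right h' (pow_pos hp.out.pos m)
    have hprod : ∏ x ∈ X, (centralizer ({x} : Set G)).relIndex (phi p G) ≤ p ^ (e * (m + 1)) := by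
      calc ∏ x ∈ X, (centralizer ({x} : Set G)).relIndex (phi p G)
          ≤ ∏ _x ∈ X, p ^ e := Finset.prod_le_prod' hfac
        _ = (p ^ e) ^ X.card := by rw [Finset.prod_const]
        _ ≤ (p ^ e) ^ (m + 1) := Nat.pow_le_pow_right (pow_pos hp.out.pos e) hXc
        _ = p ^ (e * (m + 1)) := by rw [← pow_mul]
    calc Nat.card (commutator G) ≤ _ := hW
      _ ≤ p ^ (e * (m + 1)) * p ^ ((m + 1) * (m + 1 - 1) / 2) :=
        Nat.mul_le_mul_right _ (hQ.trans hprod)
      _ = p ^ (e * (m + 1) + (m + 1) * m / 2) := by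
        rw [← pow_add]; simp
      _ ≤ p ^ ((m + e) * (m + e + 1) / 2) :=
        Nat.pow_le_pow_right hp.out.pos (exponent_arith m e)


omit [Finite G] hp in
/-- the centralizer computed inside a subgroup -/
theorem centralizer_subgroup_eq (M : Subgroup G) (x : M) :
    centralizer ({x} : Set M) = (centralizer ({(x : G)} : Set G)).subgroupOf M := by
  ext y
  simp only [mem_centralizer_singleton_iff, mem_subgroupOf]
  constructor
  · intro h
    have := congrArg (Subtype.val) h
    simpa using this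
  · intro h
    apply Subtype.ext
    simpa using h

omit [Finite G] hp in
theorem card_commutator_subgroup (M : Subgroup G) :
    Nat.card (commutator M) = Nat.card (⁅M, M⁆ : Subgroup G) := by
  have h1 : (commutator M).map M.subtype = ⁅M, M⁆ := by
    rw [commutator_def, map_commutator]
    have : (⊤ : Subgroup M).map M.subtype = M := by
      rw [← MonoidHom.range_eq_map, Subgroup.range_subtype]
    rw [this]
  rw [← h1]
  exact (Nat.card_congr
    ((commutator M).equivMapOfInjective M.subtype M.subtype_injective).toEquiv)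

/-- **Vaughan-Lee's theorem.** -/
theorem card_commutator_le {G : Type*} [Group G] [Finite G] {p : ℕ} [hp : Fact p.Prime]
    (hG : IsPGroup p G) (b : ℕ)
    (hb : ∀ x : G, (centralizer ({x} : Set G)).index ≤ p ^ b) :
    Nat.card (commutator G) ≤ p ^ (b * (b + 1) / 2) := by
  induction' hn : Nat.card G using Nat.strong_induction_on with n ih generalizing G
  by_cases h : ∃ M : Subgroup G, M.index = p ∧ ⁅M, M⁆ = commutator G
  · obtain ⟨M, hM, hMc⟩ := h
    have hlt : Nat.card M < n := by
      have h1 := M.card_mul_index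
      rw [hM, hn] at h1
      have hpos : 0 < Nat.card M := Nat.card_pos
      have := hp.out.one_lt
      nlinarith
    have hbM : ∀ x : M, (centralizer ({x} : Set M)).index ≤ p ^ b := by
      intro x
      rw [centralizer_subgroup_eq]
      refine le_trans ?_ (hb (x : G))
      have := relIndex_le_of_le_right (H := centralizer ({(x : G)} : Set G)) (le_top : M ≤ ⊤)
        (by rw [relIndex_top_right]; exact Subgroup.index_ne_zero_of_finite)
      rwa [relIndex_top_right] at this
    have := ih _ hlt (hG.to_subgroup M) hbM rfl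
    rw [card_commutator_subgroup, hMc] at this
    exact this
  · exact card_commutator_le_of_hmin hG b hb (fun M hM hc => h ⟨M, hM, hc⟩)

end Cfsg.Agent.Lib.Helper29.VL
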