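import Mathlib
import Cfsg.Prelude.Def_Local
import Cfsg.Agent.Lib.Helper29.Transitivity
import Cfsg.Agent.Lib.Helper58.ProductFormula
import Cfsg.Agent.Lib.Helper32.CoprimeDecomp
import Cfsg.Agent.Lib.Helper15.CommClosure
import Cfsg.Agent.Lib.Helper30.FStar
import Cfsg.Agent.S1324

set_option autoImplicit false

namespace Cfsg.Agent.Lib.Helper29

open Cfsg
open scoped commutatorElement

section

variable {H : Type*} [Group H] [Finite H] (p : ℕ) [hp : Fact p.Prime] (A : Subgroup H)

/-- the subgroups of order `p` of `A`. -/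
noncomputable def orderPSubgroups : Finset (Subgroup H) :=
  (Set.toFinite {B : Subgroup H | B ≤ A ∧ Nat.card B = p}).toFinset

theorem mem_orderPSubgroups {B : Subgroup H} :
    B ∈ orderPSubgroups p A ↔ B ≤ A ∧ Nat.card B = p := by
  unfold orderPSubgroups
  rw [Set.Finite.mem_toFinset]
  rfl

/-- The order formula. -/
def WFormula (N : Subgroup H) : Prop :=
  Nat.card N * (Nat.card ↥(N ⊓ Subgroup.centralizer (A : Set H))) ^ ((orderPSubgroups p A).card - 1)
    = ∏ B ∈ orderPSubgroups p A, Nat.card ↥(N ⊓ Subgroup.centralizer (B : Set H))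

theorem wFormula_bot : WFormula p A (⊥ : Subgroup H) := by
  unfold WFormula
  simp

variable {p A}

theorem le_centralizer_of_le (hA : IsElementaryAbelian p A) {B : Subgroup H} (hB : B ≤ A) :
    A ≤ Subgroup.centralizer (B : Set H) := by
  intro a ha
  rw [Subgroup.mem_centralizer_iff]
  intro b hb
  exact elemAb_comm p A hA b (hB hb) a ha

theorem le_normalizer_centralizer_of_le (hA : IsElementaryAbelian p A) {B : Subgroup H}
    (hB : B ≤ A) :
    A ≤ Subgroup.normalizer ((Subgroup.centralizer (B : Set H) : Subgroup H) : Set H) :=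
  ((le_centralizer_of_le hA hB).trans (Subgroup.centralizer_le_normalizer _)).trans
    (Cfsg.Agent.Lib.Helper15.normalizer_le_normalizer_centralizer B)

include hp in
theorem orderPSubgroups_nonempty (hcard : Nat.card ↥A = p ^ 2) :
    (orderPSubgroups p A).Nonempty := by
  have hdvd : p ^ 1 ∣ Nat.card ↥A := by rw [hcard]; exact pow_dvd_pow p (by norm_num)
  obtain ⟨B₀, hB₀⟩ := Sylow.exists_subgroup_card_pow_prime p hdvd
  refine ⟨B₀.map A.subtype, ?_⟩
  rw [mem_orderPSubgroups]
  refine ⟨Subgroup.map_subtype_le _, ?_⟩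
  rw [Subgroup.card_map_of_injective A.subtype_injective, hB₀, pow_one]

include hp in
theorem sup_eq_of_ne (hA : IsElementaryAbelian p A) (hcard : Nat.card ↥A = p ^ 2)
    {B₁ B₂ : Subgroup H} (h₁ : B₁ ∈ orderPSubgroups p A) (h₂ : B₂ ∈ orderPSubgroups p A)
    (hne : B₁ ≠ B₂) : B₁ ⊔ B₂ = A := by
  rw [mem_orderPSubgroups] at h₁ h₂
  have hinf : Nat.card ↥(B₁ ⊓ B₂) = 1 := by
    have hdvd : Nat.card ↥(B₁ ⊓ B₂) ∣ p := by
      rw [← h₁.2]; exact Subgroup.card_dvd_of_le inf_le_left
    rcases (Nat.dvd_prime hp.out).mp hdvd with h | h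
    · exact h
    · exfalso
      have e1 : B₁ ⊓ B₂ = B₁ := Subgroup.eq_of_le_of_card_ge inf_le_left (by rw [h, h₁.2])
      have e2 : B₁ ⊓ B₂ = B₂ := Subgroup.eq_of_le_of_card_ge inf_le_right (by rw [h, h₂.2])
      exact hne (e1.symm.trans e2)
  have hnorm : B₁ ≤ Subgroup.normalizer (B₂ : Set H) :=
    (h₁.1.trans (le_centralizer_of_le hA h₂.1)).trans (Subgroup.centralizer_le_normalizer _)
  have h3 := Cfsg.Agent.Lib.Helper58.card_sup_mul_card_inf B₁ B₂ hnorm
  rw [hinf, mul_one, h₁.2, h₂.2] at h3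
  apply Subgroup.eq_of_le_of_card_ge (sup_le h₁.1 h₂.1)
  rw [hcard, h3, sq]


theorem card_mul_relIndex_of_le {B A' : Subgroup H} (h : B ≤ A') :
    Nat.card B * B.relIndex A' = Nat.card A' := by
  have := Subgroup.relIndex_mul_relIndex (⊥ : Subgroup H) B A' bot_le h
  rwa [Subgroup.relIndex_bot_left, Subgroup.relIndex_bot_left] at this

include hp in
/-- subgroups of index at most `p` in `A` (of order `p^2`) are `A` or of order `p`. -/
theorem eq_or_mem_orderPSubgroups (hcard : Nat.card ↥A = p ^ 2) {B : Subgroup H} (hB : B ≤ A)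
    (hr : B.relIndex A ≤ p) : B = A ∨ B ∈ orderPSubgroups p A := by
  have h1 := card_mul_relIndex_of_le hB
  rw [hcard] at h1
  have hdvd : Nat.card ↥B ∣ p ^ 2 := Dvd.intro _ h1
  obtain ⟨j, hj, hj2⟩ := (Nat.dvd_prime_pow hp.out).mp hdvd
  have hp1 := hp.out.one_lt
  interval_cases j
  · exfalso
    rw [hj2, pow_zero, one_mul] at h1
    rw [h1] at hr
    nlinarith
  · right
    rw [mem_orderPSubgroups]
    exact ⟨hB, by rw [hj2, pow_one]⟩
  · left
    exact Subgroup.eq_of_le_of_card_ge hB (by rw [hj2, hcard])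

theorem centralizer_inf_le_of_sup_eq {B₁ B₂ : Subgroup H} (h : B₁ ⊔ B₂ = A) :
    Subgroup.centralizer (B₁ : Set H) ⊓ Subgroup.centralizer (B₂ : Set H) ≤
      Subgroup.centralizer (A : Set H) := by
  intro x hx
  have h1 : B₁ ≤ Subgroup.centralizer ((Subgroup.zpowers x : Subgroup H) : Set H) := by
    rw [Subgroup.le_centralizer_iff, Subgroup.zpowers_le]; exact hx.1
  have h2 : B₂ ≤ Subgroup.centralizer ((Subgroup.zpowers x : Subgroup H) : Set H) := by
    rw [Subgroup.le_centralizer_iff, Subgroup.zpowers_le]; exact hx.2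
  have h3 : A ≤ Subgroup.centralizer ((Subgroup.zpowers x : Subgroup H) : Set H) := by
    rw [← h]; exact sup_le h1 h2
  rw [Subgroup.le_centralizer_iff, Subgroup.zpowers_le] at h3
  exact h3

section step

variable (hA : IsElementaryAbelian p A) (hcard : Nat.card ↥A = p ^ 2)
  (M N : Subgroup H) (hMN : M ≤ N)
  (hAM : A ≤ Subgroup.normalizer (M : Set H)) (hAN : A ≤ Subgroup.normalizer (N : Set H))
  (hNM : N ≤ Subgroup.normalizer (M : Set H))
  (hirr : ∀ T : Subgroup H, M ≤ T → T ≤ N → A ≤ Subgroup.normalizer (T : Set H) → T = M ∨ T = N)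
  (hN : ¬ p ∣ Nat.card ↥N)

include hA hAM hAN in
theorem step_normalizer {B : Subgroup H} (hB : B ≤ A) :
    A ≤ Subgroup.normalizer ((M ⊔ (N ⊓ Subgroup.centralizer (B : Set H)) : Subgroup H) : Set H) := by
  have h1 : A ≤ Subgroup.normalizer ((N ⊓ Subgroup.centralizer (B : Set H) : Subgroup H) : Set H) :=
    (le_inf hAN (le_normalizer_centralizer_of_le hA hB)).trans
      Subgroup.inf_normalizer_le_normalizer_inf
  exact (le_inf hAM h1).trans (Subgroup.normalizer_inf_normalizer_le_normalizer_sup _ _)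

include hMN hNM in
theorem step_card (B : Subgroup H) :
    Nat.card ↥(N ⊓ Subgroup.centralizer (B : Set H)) * Nat.card ↥M =
      Nat.card ↥(M ⊔ (N ⊓ Subgroup.centralizer (B : Set H))) *
        Nat.card ↥(M ⊓ Subgroup.centralizer (B : Set H)) := by
  have h1 := Cfsg.Agent.Lib.Helper58.card_sup_mul_card_inf
    (N ⊓ Subgroup.centralizer (B : Set H)) M (inf_le_left.trans hNM)
  have e : (N ⊓ Subgroup.centralizer (B : Set H)) ⊓ M = M ⊓ Subgroup.centralizer (B : Set H) := by
    rw [inf_comm, ← inf_assoc, inf_of_le_left hMN]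
  rw [e, sup_comm] at h1
  exact h1.symm

include hA hAM hNM in
/-- if `N = M C_N(B)` then `[N, B] ≤ M`. -/
theorem step_commutator_le {B : Subgroup H} (hB : B ≤ A)
    (hT : M ⊔ (N ⊓ Subgroup.centralizer (B : Set H)) = N) : ⁅N, B⁆ ≤ M := by
  rw [Subgroup.commutator_le]
  intro n hn b hb
  rw [← hT, sup_comm] at hn
  obtain ⟨c, hc, m, hm, rfl⟩ :=
    (Cfsg.Agent.Lib.Helper30.mem_sup_of_le_normalizer (inf_le_left.trans hNM)).mp hn
  have hcb : c * b = b * c := by
    have h0 : c ∈ Subgroup.centralizer (B : Set H) := hc.2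
    rw [Subgroup.mem_centralizer_iff] at h0
    exact (h0 b hb).symm
  have h1 : b * m⁻¹ * b⁻¹ ∈ M :=
    (Subgroup.mem_normalizer_iff.mp (hAM (hB hb)) _).mp (M.inv_mem hm)
  have h2 : m * (b * m⁻¹ * b⁻¹) ∈ M := M.mul_mem hm h1
  have h3 : c * (m * (b * m⁻¹ * b⁻¹)) * c⁻¹ ∈ M :=
    (Subgroup.mem_normalizer_iff.mp (hNM hc.1) _).mp h2
  have hcb' : c⁻¹ * b⁻¹ = b⁻¹ * c⁻¹ := by
    rw [← mul_inv_rev, ← mul_inv_rev, hcb]
  have e : ⁅c * m, b⁆ = c * (m * (b * m⁻¹ * b⁻¹)) * c⁻¹ := by
    rw [commutatorElement_def]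
    calc c * m * b * (c * m)⁻¹ * b⁻¹ = c * m * b * m⁻¹ * (c⁻¹ * b⁻¹) := by group
      _ = c * m * b * m⁻¹ * (b⁻¹ * c⁻¹) := by rw [hcb']
      _ = c * (m * (b * m⁻¹ * b⁻¹)) * c⁻¹ := by group
  rw [e]
  exact h3


include hA hcard hMN hAM hAN hNM hirr hN in
theorem wFormula_step (hM : WFormula p A M) : WFormula p A N := by
  classical
  set 𝓛 := orderPSubgroups p A with h𝓛
  set e := 𝓛.card - 1 with he
  have hne : 𝓛.Nonempty := orderPSubgroups_nonempty hcard
  have hk : 𝓛.card = e + 1 := by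
    have := Finset.card_pos.mpr hne
    omega
  set m := Nat.card ↥M with hm
  set n := Nat.card ↥N with hn
  have hmpos : 0 < m := Nat.card_pos
  -- dichotomy for each B ≤ A
  have hdich : ∀ B : Subgroup H, B ≤ A →
      M ⊔ (N ⊓ Subgroup.centralizer (B : Set H)) = M ∨
      M ⊔ (N ⊓ Subgroup.centralizer (B : Set H)) = N := fun B hB =>
    hirr _ le_sup_left (sup_le hMN inf_le_left) (step_normalizer hA M N hAM hAN hB)
  have hcardB := step_card M N hMN hNM
  unfold WFormula at hM ⊢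
  rw [← h𝓛, ← he, ← hm] at hM
  rw [← h𝓛, ← he, ← hn]
  by_cases hTA : M ⊔ (N ⊓ Subgroup.centralizer (A : Set H)) = N
  · -- case α
    have hall : ∀ B ∈ 𝓛, Nat.card ↥(N ⊓ Subgroup.centralizer (B : Set H)) * m =
        n * Nat.card ↥(M ⊓ Subgroup.centralizer (B : Set H)) := by
      intro B hB
      have hBA : B ≤ A := ((mem_orderPSubgroups p A).mp hB).1
      have hle : M ⊔ (N ⊓ Subgroup.centralizer (A : Set H)) ≤
          M ⊔ (N ⊓ Subgroup.centralizer (B : Set H)) :=
        sup_le_sup_left (inf_le_inf_left _ (Subgroup.centralizer_le (by exact_mod_cast hBA))) _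
      have hTB : M ⊔ (N ⊓ Subgroup.centralizer (B : Set H)) = N :=
        le_antisymm (sup_le hMN inf_le_left) (hTA.symm.le.trans hle)
      have := hcardB B
      rwa [hTB] at this
    have hA' : Nat.card ↥(N ⊓ Subgroup.centralizer (A : Set H)) * m =
        n * Nat.card ↥(M ⊓ Subgroup.centralizer (A : Set H)) := by
      have := hcardB A
      rwa [hTA] at this
    have h1 : (∏ B ∈ 𝓛, Nat.card ↥(N ⊓ Subgroup.centralizer (B : Set H))) * m ^ (e + 1) =
        n ^ (e + 1) * ∏ B ∈ 𝓛, Nat.card ↥(M ⊓ Subgroup.centralizer (B : Set H)) := by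
      rw [← hk, ← Finset.prod_const, ← Finset.prod_const, ← Finset.prod_mul_distrib,
        ← Finset.prod_mul_distrib]
      exact Finset.prod_congr rfl hall
    have h2 : (n * Nat.card ↥(N ⊓ Subgroup.centralizer (A : Set H)) ^ e) * m ^ (e + 1) =
        n ^ (e + 1) * (m * Nat.card ↥(M ⊓ Subgroup.centralizer (A : Set H)) ^ e) := by
      calc (n * Nat.card ↥(N ⊓ Subgroup.centralizer (A : Set H)) ^ e) * m ^ (e + 1)
          = n * (Nat.card ↥(N ⊓ Subgroup.centralizer (A : Set H)) * m) ^ e * m := by ring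
        _ = n * (n * Nat.card ↥(M ⊓ Subgroup.centralizer (A : Set H))) ^ e * m := by rw [hA']
        _ = n ^ (e + 1) * (m * Nat.card ↥(M ⊓ Subgroup.centralizer (A : Set H)) ^ e) := by ring
    rw [hM, ← h1] at h2
    exact Nat.eq_of_mul_eq_mul_right (pow_pos hmpos _) h2
  · -- case β
    have hTA' : M ⊔ (N ⊓ Subgroup.centralizer (A : Set H)) = M :=
      (hdich A le_rfl).resolve_right hTA
    have hMneN : M ≠ N := by
      intro h
      apply hTA
      rw [hTA', h]
    have hcA : Nat.card ↥(N ⊓ Subgroup.centralizer (A : Set H)) =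
        Nat.card ↥(M ⊓ Subgroup.centralizer (A : Set H)) := by
      have := hcardB A
      rw [hTA', mul_comm] at this
      exact Nat.eq_of_mul_eq_mul_left hmpos this
    -- existence of B₀
    have hex : ∃ B₀ ∈ 𝓛, M ⊔ (N ⊓ Subgroup.centralizer (B₀ : Set H)) = N := by
      by_contra hcon
      push Not at hcon
      apply hMneN
      apply le_antisymm hMN
      have hA2 : p ^ 2 ≤ Nat.card ↥A := by rw [hcard]
      have hgen := Cfsg.Agent.S1324.result p A N hA hA2 hN hAN
      rw [hgen]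
      apply iSup_le
      rintro ⟨B, hBA, hBr⟩
      rcases eq_or_mem_orderPSubgroups hcard hBA hBr with h | h
      · show N ⊓ Subgroup.centralizer (B : Set H) ≤ M
        rw [h]
        calc N ⊓ Subgroup.centralizer (A : Set H) ≤ M ⊔ (N ⊓ Subgroup.centralizer (A : Set H)) :=
              le_sup_right
          _ = M := hTA'
      · show N ⊓ Subgroup.centralizer (B : Set H) ≤ M
        have := (hdich B hBA).resolve_right (hcon B h)
        calc N ⊓ Subgroup.centralizer (B : Set H) ≤ M ⊔ (N ⊓ Subgroup.centralizer (B : Set H)) :=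
              le_sup_right
          _ = M := this
    obtain ⟨B₀, hB₀, hTB₀⟩ := hex
    have hB₀A : B₀ ≤ A := ((mem_orderPSubgroups p A).mp hB₀).1
    -- uniqueness
    have huniq : ∀ B ∈ 𝓛, B ≠ B₀ → M ⊔ (N ⊓ Subgroup.centralizer (B : Set H)) = M := by
      intro B₁ hB₁ hne1
      have hB₁A : B₁ ≤ A := ((mem_orderPSubgroups p A).mp hB₁).1
      refine (hdich B₁ hB₁A).resolve_right ?_
      intro hTB₁
      have hcomm1 := step_commutator_le hA M N hAM hNM hB₁A hTB₁
      set N₁ := N ⊓ Subgroup.centralizer (B₀ : Set H) with hN₁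
      have hB₁N₁ : B₁ ≤ Subgroup.normalizer (N₁ : Set H) :=
        hB₁A.trans ((le_inf hAN (le_normalizer_centralizer_of_le hA hB₀A)).trans
          Subgroup.inf_normalizer_le_normalizer_inf)
      have hcop : (Nat.card ↥N₁).Coprime (Nat.card ↥B₁) := by
        rw [((mem_orderPSubgroups p A).mp hB₁).2, Nat.coprime_comm,
          Nat.Prime.coprime_iff_not_dvd hp.out]
        intro h
        exact hN (h.trans (Subgroup.card_dvd_of_le inf_le_left))
      have hsolv : Group.IsSolvable ↥B₁ :=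
        Group.isSolvable_of_comm (fun a b =>
          Subtype.ext (elemAb_comm p A hA a.1 (hB₁A a.2) b.1 (hB₁A b.2)))
      have h3 := Cfsg.Agent.Lib.Helper32.le_centralizer_sup_commutator hB₁N₁ hcop (Or.inr hsolv)
      have h4 : ⁅N₁, B₁⁆ ≤ M := (Subgroup.commutator_mono inf_le_left le_rfl).trans hcomm1
      have h5 : N₁ ⊓ Subgroup.centralizer (B₁ : Set H) ≤ M := by
        have hsup := sup_eq_of_ne hA hcard hB₀ hB₁ (Ne.symm hne1)
        have h6 : N₁ ⊓ Subgroup.centralizer (B₁ : Set H) ≤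
            N ⊓ Subgroup.centralizer (A : Set H) := by
          rw [hN₁, inf_assoc]
          exact inf_le_inf_left _ (centralizer_inf_le_of_sup_eq hsup)
        exact h6.trans (le_sup_right.trans hTA'.le)
      have h7 : N₁ ≤ M := h3.trans (sup_le h5 h4)
      apply hMneN
      rw [← hTB₀]
      exact (sup_eq_left.mpr h7).symm
    -- the product
    have hB₀eq : Nat.card ↥(N ⊓ Subgroup.centralizer (B₀ : Set H)) * m =
        n * Nat.card ↥(M ⊓ Subgroup.centralizer (B₀ : Set H)) := by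
      have := hcardB B₀
      rwa [hTB₀] at this
    have hother : ∀ B ∈ 𝓛.erase B₀, Nat.card ↥(N ⊓ Subgroup.centralizer (B : Set H)) =
        Nat.card ↥(M ⊓ Subgroup.centralizer (B : Set H)) := by
      intro B hB
      rw [Finset.mem_erase] at hB
      have := hcardB B
      rw [huniq B hB.2 hB.1, mul_comm] at this
      exact Nat.eq_of_mul_eq_mul_left hmpos this
    have hprodN := Finset.mul_prod_erase 𝓛
      (fun B => Nat.card ↥(N ⊓ Subgroup.centralizer (B : Set H))) hB₀
    have hprodM := Finset.mul_prod_erase 𝓛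
      (fun B => Nat.card ↥(M ⊓ Subgroup.centralizer (B : Set H))) hB₀
    rw [Finset.prod_congr rfl hother] at hprodN
    rw [hcA]
    apply Nat.eq_of_mul_eq_mul_right hmpos
    calc n * Nat.card ↥(M ⊓ Subgroup.centralizer (A : Set H)) ^ e * m
        = n * (m * Nat.card ↥(M ⊓ Subgroup.centralizer (A : Set H)) ^ e) := by ring
      _ = n * ∏ B ∈ 𝓛, Nat.card ↥(M ⊓ Subgroup.centralizer (B : Set H)) := by rw [hM]
      _ = (n * Nat.card ↥(M ⊓ Subgroup.centralizer (B₀ : Set H))) *
            ∏ B ∈ 𝓛.erase B₀, Nat.card ↥(M ⊓ Subgroup.centralizer (B : Set H)) := by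
          rw [← hprodM]; ring
      _ = (Nat.card ↥(N ⊓ Subgroup.centralizer (B₀ : Set H)) * m) *
            ∏ B ∈ 𝓛.erase B₀, Nat.card ↥(M ⊓ Subgroup.centralizer (B : Set H)) := by
          rw [hB₀eq]
      _ = (∏ B ∈ 𝓛, Nat.card ↥(N ⊓ Subgroup.centralizer (B : Set H))) * m := by
          rw [← hprodN]; ring

end step


/-- normalizers grow in `q`-groups. -/
theorem lt_normalizer_inf_of_isPGroup {q : ℕ} [Fact q.Prime] {Q M : Subgroup H} (hQ : IsPGroup q ↥Q)
    (hlt : M < Q) : M < Subgroup.normalizer (M : Set H) ⊓ Q := by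
  have : Group.IsNilpotent ↥Q := hQ.isNilpotent
  have hnc : NormalizerCondition ↥Q := Group.normalizerCondition_of_isNilpotent
  have h1 : M.subgroupOf Q < ⊤ := by
    rw [lt_top_iff_ne_top, Ne, Subgroup.subgroupOf_eq_top]
    exact not_le_of_gt hlt
  have h2 := hnc _ h1
  rw [← Subgroup.subgroupOf_normalizer_eq hlt.le] at h2
  obtain ⟨x, hx1, hx2⟩ := SetLike.exists_of_lt h2
  refine lt_of_le_of_ne (le_inf Subgroup.le_normalizer hlt.le) ?_
  intro h
  apply hx2
  have hx3 : (x : H) ∈ Subgroup.normalizer (M : Set H) ⊓ Q := ⟨hx1, x.2⟩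
  rw [← h] at hx3
  exact hx3

include hp in
/-- The order formula for `q`-groups, `q ≠ p`. -/
theorem wFormula_of_isPGroup (hA : IsElementaryAbelian p A) (hcard : Nat.card ↥A = p ^ 2)
    (q : ℕ) [hq : Fact q.Prime] (hqp : q ≠ p) (Q : Subgroup H) (hQ : IsPGroup q ↥Q)
    (hAQ : A ≤ Subgroup.normalizer (Q : Set H)) : WFormula p A Q := by
  have hpQ : ∀ N : Subgroup H, N ≤ Q → ¬ p ∣ Nat.card ↥N := by
    intro N hN hdvd
    obtain ⟨j, hj⟩ := IsPGroup.iff_card.mp (hQ.to_le hN)
    rw [hj] at hdvd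
    have := (Nat.prime_dvd_prime_iff_eq hp.out hq.out).mp (hp.out.dvd_of_dvd_pow hdvd)
    exact hqp this.symm
  have key : ∀ k : ℕ, ∀ M : Subgroup H, M ≤ Q → A ≤ Subgroup.normalizer (M : Set H) →
      WFormula p A M → Nat.card ↥Q - Nat.card ↥M ≤ k → WFormula p A Q := by
    intro k
    induction k with
    | zero =>
      intro M hMQ _ hM hk
      have : M = Q := Subgroup.eq_of_le_of_card_ge hMQ (by omega)
      rwa [this] at hM
    | succ k ih =>
      intro M hMQ hAM hM hk
      by_cases hMeq : M = Q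
      · rwa [hMeq] at hM
      have hlt : M < Q := lt_of_le_of_ne hMQ hMeq
      set N₀ := Subgroup.normalizer (M : Set H) ⊓ Q with hN₀
      have hMN₀ : M < N₀ := lt_normalizer_inf_of_isPGroup hQ hlt
      have hAN₀ : A ≤ Subgroup.normalizer (N₀ : Set H) :=
        (le_inf (hAM.trans Subgroup.le_normalizer) hAQ).trans
          Subgroup.inf_normalizer_le_normalizer_inf
      obtain ⟨N, hNN₀, hNmin⟩ := (Set.toFinite {T : Subgroup H | M < T ∧ T ≤ N₀ ∧
        A ≤ Subgroup.normalizer (T : Set H)}).exists_le_minimal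
        (a := N₀) ⟨hMN₀, le_rfl, hAN₀⟩
      obtain ⟨hMN, hNle, hAN⟩ := hNmin.prop
      have hNQ : N ≤ Q := hNle.trans inf_le_right
      have hirr : ∀ T : Subgroup H, M ≤ T → T ≤ N → A ≤ Subgroup.normalizer (T : Set H) →
          T = M ∨ T = N := by
        intro T hMT hTN hAT
        by_cases hTM : T = M
        · left; exact hTM
        · right
          have hMT' : M < T := lt_of_le_of_ne hMT (Ne.symm hTM)
          exact le_antisymm hTN (hNmin.le_of_le ⟨hMT', hTN.trans hNle, hAT⟩ hTN)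
      have hWN := wFormula_step hA hcard M N hMN.le hAM hAN (hNle.trans inf_le_left) hirr
        (hpQ N hNQ) hM
      apply ih N hNQ hAN hWN
      have h1 : Nat.card ↥M < Nat.card ↥N := card_lt_card_of_lt hMN.le hMN.ne
      have h2 : Nat.card ↥N ≤ Nat.card ↥Q := Subgroup.card_le_of_le hNQ
      omega
  refine key (Nat.card ↥Q) ⊥ bot_le ?_ (wFormula_bot p A) (Nat.sub_le _ _)
  intro a _
  rw [Subgroup.mem_normalizer_iff]
  intro x
  simp [Subgroup.mem_bot]

end

end Cfsg.Agent.Lib.Helper29
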