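import Mathlib
import Cfsg.Prelude.Def_Local
import Cfsg.Agent.Lib.Helper29.Wielandt
import Cfsg.Agent.Lib.Helper29.Transitivity2

set_option autoImplicit false

namespace Cfsg.Agent.Lib.Helper29

open Cfsg
open Cfsg.Agent.Lib.Helper01 (IsSylowIn)

section

variable {H : Type*} [Group H] [Finite H] {p : ℕ} [hp : Fact p.Prime] {A : Subgroup H}

/-- Coprime action: for an `A`-invariant Sylow `q`-subgroup `Q` of `K` and `B ≤ A`, `C_Q(B)` is a
Sylow `q`-subgroup of `C_K(B)`. -/
theorem isSylowIn_inf_centralizer (hA : IsElementaryAbelian p A) (q : ℕ) [Fact q.Prime]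
    (K : Subgroup H) (hK : ¬ p ∣ Nat.card ↥K) (hAK : A ≤ Subgroup.normalizer (K : Set H))
    (Q : Subgroup H) (hQ : IsSylowIn q Q K) (hAQ : A ≤ Subgroup.normalizer (Q : Set H))
    (B : Subgroup H) (hB : B ≤ A) :
    IsSylowIn q (Q ⊓ Subgroup.centralizer (B : Set H)) (K ⊓ Subgroup.centralizer (B : Set H)) := by
  set KB := K ⊓ Subgroup.centralizer (B : Set H) with hKB
  have hAKB : A ≤ Subgroup.normalizer (KB : Set H) :=
    (le_inf hAK (le_normalizer_centralizer_of_le hA hB)).trans
      Subgroup.inf_normalizer_le_normalizer_inf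
  have hcopK := elemAb_coprime p A hA K hK
  have hKB' : ¬ p ∣ Nat.card ↥KB := fun h => hK (h.trans (Subgroup.card_dvd_of_le inf_le_left))
  have hcopKB := elemAb_coprime p A hA KB hKB'
  have hsolv : Group.IsSolvable ↥A := elemAb_isSolvable p A hA
  obtain ⟨S, hS, hAS⟩ := Cfsg.Agent.Lib.Helper01.exists_invariant_isSylowIn q hAKB hcopKB
    (Or.inl hsolv)
  obtain ⟨Q', hQ', hSQ', hAQ'⟩ := Cfsg.Agent.Lib.Helper01.exists_invariant_isSylowIn_ge q hAK hcopK
    (Or.inl hsolv) (hS.1.trans inf_le_left) hS.2.1 hAS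
  obtain ⟨c, hc, hcQ⟩ := Cfsg.Agent.Lib.Helper01.exists_centralizer_conj hAK hcopK (Or.inl hsolv)
    hAQ' hAQ (hQ'.exists_conj hQ)
  have hcQ' : Q'.map (MulAut.conj c).toMonoidHom = Q := hcQ
  have hcKB : c ∈ KB :=
    ⟨hc.1, Subgroup.centralizer_le (by exact_mod_cast hB) hc.2⟩
  have hS' := hS.conj (a := c) (Subgroup.le_normalizer hcKB)
  have hS'' : IsSylowIn q (S.map (MulAut.conj c).toMonoidHom) KB := hS'
  have hle1 : S.map (MulAut.conj c).toMonoidHom ≤ Q ⊓ Subgroup.centralizer (B : Set H) := by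
    refine le_inf ?_ (hS''.1.trans inf_le_right)
    rw [← hcQ']
    exact Subgroup.map_mono hSQ'
  have hle2 : Q ⊓ Subgroup.centralizer (B : Set H) ≤ KB := inf_le_inf_right _ hQ.1
  have heq := eq_of_isSylowIn_le hS'' hle1 hle2 (hQ.2.1.to_le inf_le_left)
  rw [heq]
  exact hS''

theorem factorization_card_of_isSylowIn {q : ℕ} {Q K : Subgroup H} (hQ : IsSylowIn q Q K) :
    (Nat.card ↥K).factorization q = (Nat.card ↥Q).factorization q := by
  have h1 := card_mul_relIndex_of_le hQ.1
  rw [← h1, Nat.factorization_mul (Nat.card_pos).ne'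
    (fun h => hQ.2.2 (by rw [h]; exact dvd_zero q)), Finsupp.add_apply,
    Nat.factorization_eq_zero_of_not_dvd hQ.2.2, add_zero]

/-- The order formula for a group of order prime to `p` acted on by `A ≅ E_{p^2}`. -/
theorem wFormula_of_coprime (hA : IsElementaryAbelian p A) (hcard : Nat.card ↥A = p ^ 2)
    (K : Subgroup H) (hK : ¬ p ∣ Nat.card ↥K) (hAK : A ≤ Subgroup.normalizer (K : Set H)) :
    WFormula p A K := by
  unfold WFormula
  set e := (orderPSubgroups p A).card - 1 with he
  have hpos : ∀ T : Subgroup H, Nat.card ↥T ≠ 0 := fun T => (Nat.card_pos).ne'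
  apply Nat.eq_of_factorization_eq
  · exact mul_ne_zero (hpos _) (pow_ne_zero _ (hpos _))
  · exact Finset.prod_ne_zero_iff.mpr (fun B _ => hpos _)
  intro q
  rw [Nat.factorization_mul (hpos _) (pow_ne_zero _ (hpos _)), Nat.factorization_pow,
    Nat.factorization_prod_apply (fun B _ => hpos _), Finsupp.add_apply, Finsupp.smul_apply]
  by_cases hq : q.Prime
  · have hq' : Fact q.Prime := ⟨hq⟩
    by_cases hqp : q = p
    · subst hqp
      have hz : ∀ T : Subgroup H, T ≤ K → (Nat.card ↥T).factorization q = 0 := fun T hT =>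
        Nat.factorization_eq_zero_of_not_dvd (fun h => hK (h.trans (Subgroup.card_dvd_of_le hT)))
      rw [hz K le_rfl, hz _ inf_le_left]
      simp only [smul_zero, add_zero]
      symm
      apply Finset.sum_eq_zero
      intro B _
      exact hz _ inf_le_left
    · obtain ⟨Q, hQ, hAQ⟩ := Cfsg.Agent.Lib.Helper01.exists_invariant_isSylowIn q hAK
        (elemAb_coprime p A hA K hK) (Or.inl (elemAb_isSolvable p A hA))
      have hW := wFormula_of_isPGroup hA hcard q hqp Q hQ.2.1 hAQ
      unfold WFormula at hW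
      rw [← he] at hW
      have hWf := congrArg (fun n : ℕ => n.factorization q) hW
      change (_ : ℕ).factorization q = (_ : ℕ).factorization q at hWf
      rw [Nat.factorization_mul (hpos _) (pow_ne_zero _ (hpos _)), Nat.factorization_pow,
        Nat.factorization_prod_apply (fun B _ => hpos _), Finsupp.add_apply,
        Finsupp.smul_apply] at hWf
      rw [factorization_card_of_isSylowIn hQ,
        factorization_card_of_isSylowIn
          (isSylowIn_inf_centralizer hA q K hK hAK Q hQ hAQ A le_rfl), hWf]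
      apply Finset.sum_congr rfl
      intro B hB
      exact (factorization_card_of_isSylowIn (isSylowIn_inf_centralizer hA q K hK hAK Q hQ hAQ B
        ((mem_orderPSubgroups p A).mp hB).1)).symm
  · simp only [Nat.factorization_eq_zero_of_not_prime _ hq, smul_zero, add_zero]
    symm
    apply Finset.sum_eq_zero
    intro B _
    rfl

end

end Cfsg.Agent.Lib.Helper29
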